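import Cfsg.Agent.HZ.L.X.Defs
import Cfsg.Agent.HZ.L.SL.QI
import Cfsg.Agent.LV.Lab.Std

/-!
# HZ/L, the exact system: tools (helper52)

`cz_cow`, `stab_le`, `stab_WW` (Steinberg), `isol_of`, `levi_int`; the coroot lattice `Qv` (`Qv.eq_zero`, `exists_dec`, `ext_P`);
frames: `Fw.lift`, `Fw.proj`, `Fw.emb_eq`, `Fw.emb_rf`, `rfm_sub`, `rfm_add`, `rfm_single`, `Tw.hA`, `Tw.act`, `Tw.tc_iff`.
-/

set_option autoImplicit false
set_option linter.unusedSectionVars false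

namespace Cfsg.Agent.HZ.L.X

open Cfsg Cfsg.Agent.DL Cfsg.Agent.DL.PP Matrix Cfsg.Agent.KZ.Lie Cfsg.Agent.Tits.Roots
open Cfsg.Agent.LV.Cl (SG sm sgn sw tt)
open Cfsg.Agent.LV.Lab (yv)

section Comb

variable {R : Type} [Fintype R] [DecidableEq R] {Ψ : RS R} {c : Lb R}

/-- the coroot lattice -/
def Qv (Ψ : RS R) : Submodule ℤ (Vec R) := Submodule.span ℤ (Prod.snd '' Ψ)

theorem Qv.cor {a : Vec R × Vec R} (h : a ∈ Ψ) : a.2 ∈ Qv Ψ := Submodule.subset_span ⟨a, h, rfl⟩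

theorem Qv.mono {Ψ' : RS R} (h : Ψ ⊆ Ψ') : Qv Ψ ≤ Qv Ψ' := Submodule.span_mono (Set.image_mono h)

theorem Qv.ind {P : Vec R → Prop} {v : Vec R} (hv : v ∈ Qv Ψ) (h0 : P 0) (h1 : ∀ a ∈ Ψ, P a.2)
    (h2 : ∀ x y, P x → P y → P (x + y)) (h3 : ∀ (m : ℤ) x, P x → P (m • x)) : P v := by
  induction hv using Submodule.span_induction with
  | mem x hx =>
    obtain ⟨a, ha, rfl⟩ := hx
    exact h1 a ha
  | zero => exact h0
  | add x y _ _ a b => exact h2 x y a b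
  | smul m x _ a => exact h3 m x a

theorem Qv.sub {A : Mat R} (hA : A ∈ WW Ψ) (v : Vec R) : A *ᵥ v - v ∈ Qv Ψ := by
  induction hA using Submonoid.closure_induction generalizing v with
  | mem A h =>
    obtain ⟨a, ha, rfl⟩ := h
    rw [rfm_vec, sub_sub_cancel_left]
    exact neg_mem (Submodule.smul_mem _ _ (Qv.cor ha))
  | one => rw [one_mulVec, sub_self]; exact zero_mem _
  | mul A A' _ _ h h' =>
    rw [← mulVec_mulVec, ← sub_add_sub_cancel _ (A' *ᵥ v)]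
    exact add_mem (h _) (h' _)

theorem Qv.nm {A : Mat R} (hA : Nm A Ψ) {v : Vec R} (hv : v ∈ Qv Ψ) : A *ᵥ v ∈ Qv Ψ :=
  Qv.ind (P := fun v => A *ᵥ v ∈ Qv Ψ) hv (by rw [mulVec_zero]; exact zero_mem _)
    (fun a ha => by
      obtain ⟨b, hb, h, -⟩ := hA a ha
      exact h ▸ Qv.cor hb)
    (fun x y a b => by rw [mulVec_add]; exact add_mem a b) fun m x a => by rw [mulVec_smul]; exact Submodule.smul_mem _ _ a

theorem Qv.chr_eq {c' : Lb R} (h : ∀ a ∈ Ψ, chr a.2 c = chr a.2 c') {v : Vec R} (hv : v ∈ Qv Ψ) : chr v c = chr v c' :=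
  Qv.ind (P := fun v => chr v c = chr v c') hv (by rw [chr_zero, chr_zero]) h
    (fun x y a b => by rw [chr_add, chr_add, a, b]) fun m x a => by rw [chr_zsmul, chr_zsmul, a]

theorem Cen.chr (h : Cen Ψ c) {v : Vec R} (hv : v ∈ Qv Ψ) : chr v c = 1 :=
  (Qv.chr_eq (c' := 1) (fun a ha => (h a ha).trans (map_one _).symm) hv).trans (map_one _)

theorem Zc_sub (Ψ : RS R) (c : Lb R) : Zc Ψ c ⊆ Ψ := fun _ h => h.1

theorem nm_mul {A A' : Mat R} (h : Nm A Ψ) (h' : Nm A' Ψ) : Nm (A * A') Ψ := fun a ha => by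
  obtain ⟨b, hb, h3, h4⟩ := h' a ha
  obtain ⟨b', hb', h5, h6⟩ := h b hb
  exact ⟨b', hb', by rw [← mulVec_mulVec, h3, h5], by rw [← vecMul_vecMul, h6, h4]⟩

theorem nm_pow {A : Mat R} (h : Nm A Ψ) (i : ℕ) : Nm (A ^ i) Ψ := by
  induction i with
  | zero => exact fun a ha => ⟨a, ha, by rw [pow_zero, one_mulVec], by rw [pow_zero, vecMul_one]⟩
  | succ i ih => exact pow_succ A i ▸ nm_mul ih h

/-- the inverse direction of `Nm` -/
theorem nm_inv {A : Mat R} {n : ℕ} (hn : 0 < n) (hA : A ^ n = 1) (h : Nm A Ψ) {b : Vec R × Vec R} (hb : b ∈ Ψ) :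
    ∃ a ∈ Ψ, A *ᵥ a.2 = b.2 ∧ b.1 ᵥ* A = a.1 := by
  obtain ⟨n, rfl⟩ := Nat.exists_eq_succ_of_ne_zero hn.ne'
  obtain ⟨a, ha, h1, h2⟩ := nm_pow h n b hb
  exact ⟨a, ha, by rw [← h1, mulVec_mulVec, ← pow_succ', hA, one_mulVec],
    by rw [← h2, vecMul_vecMul, ← pow_succ, hA, vecMul_one]⟩

theorem perp_of_nm {A : Mat R} {n : ℕ} (hn : 0 < n) (hA : A ^ n = 1) (h : Nm A Ψ) {v : Vec R} (hv : Perp Ψ v) :
    Perp Ψ (A *ᵥ v) := fun b hb => by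
  obtain ⟨a, ha, -, h1⟩ := nm_inv hn hA h hb
  rw [dotProduct_mulVec, h1, hv a ha]

theorem exists_log {p : ℕ} (hc : Fo p c) :
    ∃ (n : ℕ) (x : Vec R) (ω : ℂˣ), ¬ p ∣ n ∧ IsPrimitiveRoot ω n ∧ ∀ y, chr y c = ω ^ (x ⬝ᵥ y) := by
  obtain ⟨n, h0, hj⟩ := hc
  have hn : n ≠ 0 := fun e => h0 (e ▸ dvd_zero p)
  have : NeZero n := ⟨hn⟩
  have h1 := Complex.isPrimitiveRoot_exp _ hn
  have hω := h1.isUnit_unit hn
  choose x _ hx using fun i => hω.eq_pow_of_mem_rootsOfUnity (ξ := c i) (congrFun hj i)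
  refine ⟨n, fun i => x i, _, h0, hω, fun y => ?_⟩
  rw [dotProduct_comm, dotProduct, ← chr_coch]
  congr 1
  funext i
  rw [coch_apply, zpow_natCast, hx]

end Comb

theorem sm_inj {n : ℕ} : Function.Injective (sm : SG n → _) := fun _ _ h =>
  (KZ.Dat.spm_inj.1 h).elim LV.Cl.SG.ext

theorem sm_vec {n : ℕ} (g : SG n) (v : Fin n → ℤ) (j : Fin n) : (sm g *ᵥ v) (g.π j) = g.s j * v j :=
  KZ.Dat.spm_mulVec _ _ _ _

theorem sm_single {n : ℕ} (g : SG n) (j : Fin n) (x : ℤ) : sm g *ᵥ Pi.single j x = Pi.single (g.π j) (g.s j * x) :=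
  KZ.Dat.spm_mulVec_single _ _ _ _

theorem vec_sm {n : ℕ} (g : SG n) (v : Fin n → ℤ) (j : Fin n) : (v ᵥ* sm g) j = v (g.π j) * g.s j :=
  KZ.Dat.vecMul_spm _ _ _ _

variable {p : ℕ} [Fact p.Prime] {k : Type} [Field k] [CharP k p] [IsAlgClosed k] {Y : Type} [Group Y] {N : Type}
  [Fintype N] [DecidableEq N] {ρ : Y →* GL N k} {F : MulAut Y} {G : Subgroup Y} {D : Datum p ρ F G}
  {j : ℕ} {B : Mat D.R} {c : Lbl D}

/-- the fundamental coweights times a power of `p` -/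
theorem cz_cow (h : Cz p (rts D)) : ∃ (m : ℕ) (ϖ : D.I → Vec D.R), ∀ b i, D.wt b ⬝ᵥ ϖ i = p ^ m * b i := by
  obtain ⟨m, h⟩ := h
  let e := LinearEquiv.ofInjective D.wt.toIntLinearMap D.wt_injective
  have h1 : Submodule.span ℤ (Prod.fst '' rts D) ≤ LinearMap.range D.wt.toIntLinearMap := Submodule.span_le.2 (by
    rintro _ ⟨_, ⟨a, -, rfl⟩, rfl⟩
    exact ⟨a, rfl⟩)
  choose ϖ hϖ using fun i => h ((LinearMap.proj i).comp (e.symm.toLinearMap.comp (Submodule.inclusion h1)))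
  refine ⟨m, ϖ, fun b i => ?_⟩
  have h2 : D.wt b ∈ Submodule.span ℤ (Prod.fst '' rts D) := by
    rw [D.eq_sum_sr b, map_sum]
    exact sum_mem fun i _ => by
      rw [map_zsmul]
      exact Submodule.smul_mem _ _ (Submodule.subset_span ⟨_, rt_mem (isRoot_sr D.cs D.h i), rfl⟩)
  refine (hϖ i ⟨_, h2⟩).trans (congrArg _ (congrFun ?_ i))
  exact e.symm_apply_eq.2 rfl

/-- **Steinberg**: the stabiliser of a label is generated by reflections -/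
theorem stab_le (hz : Cz p (rts D)) (hc : Fo p c) {H : Subgroup D.W}
    (hH : ∀ a, D.Rt a → chr (D.cor a) c = 1 → D.rf a ∈ H) {u : D.W} (hu : Rel D u c c) : u ∈ H := by
  obtain ⟨n, x, ω, h0, hω, hx⟩ := exists_log hc
  obtain ⟨m, ϖ, hϖ⟩ := cz_cow hz
  obtain ⟨β, hβ⟩ := exists_wt D x u
  have h1 : ∀ i, (n : ℤ) ∣ D.wt β i := fun i => by
    have := hu (Pi.single i 1)
    rwa [hx, hx, dotProduct_mulVec, hβ, add_dotProduct, _root_.zpow_add, mul_eq_left, hω.zpow_eq_one_iff_dvd,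
      dotProduct_single, mul_one] at this
  have h2 : IsCoprime (n : ℤ) ((p : ℤ) ^ m) :=
    (Nat.isCoprime_iff_coprime.2 (((Fact.out : p.Prime).coprime_iff_not_dvd).2 h0).symm).pow_right
  choose β' h3 using fun i => h2.dvd_of_dvd_mul_left (z := β i) (hϖ β i ▸ Finset.dvd_sum fun l _ => (h1 l).mul_right _)
  obtain rfl : β = (n : ℤ) • β' := funext h3
  have hn : (0 : ℤ) < n := Int.natCast_pos.2 (Nat.pos_of_ne_zero fun e => h0 (e ▸ dvd_zero p))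
  obtain ⟨μ, hμ⟩ := LV.Lab.exists_small x hn
  refine LV.Lab.mem_of_aff hn hμ (fun a ha h => hH a ha ?_) u (β' + μ - D.act u⁻¹ μ) ?_
  · rw [sub_dotProduct, smul_dotProduct, smul_eq_mul, dvd_sub_left (Dvd.intro _ rfl)] at h
    rwa [hx, hω.zpow_eq_one_iff_dvd]
  · rw [sub_vecMul, hβ, smul_vecMul, ← D.wt_act', map_sub, map_add, smul_sub, smul_add, map_zsmul]
    abel

theorem stab_WW (hz : Cz p (rts D)) (hc : Fo p c) {u : D.W} : Rel D u c c ↔ D.Wm u ∈ WW (Zc (rts D) c) :=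
  ⟨fun hu => (mem_WW_sub (Zc_sub _ _)).2 ⟨u, stab_le hz hc (fun a ha h =>
    Subgroup.subset_closure (Set.mem_image_of_mem _ (And.intro ha (And.intro (rt_mem ha) h)))) hu, rfl⟩, tl_of_cor fun _ h => h.2⟩

/-- labels without a core are isolated -/
theorem isol_of (h : St D j B) (hz : Cz p (rts D)) {w : D.W} (hc : Fx D w c)
    (hn : ¬ Ctl p (exL p) (rts D) (D.Wm w * B) c) : Isol (rts D) c := fun lam hl => by
  refine not_not.1 (mt (ctl_of_not_qi (fun _ _ _ _ e => e) h hc) hn) lam fun A hA e => ?_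
  obtain ⟨u, rfl⟩ := mem_WW.1 hA
  exact hl.fix ((stab_WW hz (fo_of_fx hc)).1 e)

/-! ### the coroot lattice -/

theorem rt_two {a : Vec D.R × Vec D.R} (h : a ∈ rts D) : a.1 ⬝ᵥ a.2 = 2 := by
  obtain ⟨b, hb, rfl⟩ := h
  exact (wt_dot_cor D b hb).trans (Nodes.Coroot.cpr_self _ _ hb)

theorem sum_Wm [Fintype D.W] (w : D.W) (v : Vec D.R) : D.Wm w *ᵥ ∑ u, D.Wm u *ᵥ v = ∑ u, D.Wm u *ᵥ v := by
  simp only [mulVec_sum, mulVec_mulVec, ← D.Wm_mul]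
  exact Equiv.sum_comp (Equiv.mulLeft w) fun u => D.Wm u *ᵥ v

theorem perp_sum [Fintype D.W] (v : Vec D.R) : Perp (rts D) (∑ u, D.Wm u *ᵥ v) := by
  rintro _ ⟨a, ha, rfl⟩
  have h1 := sum_Wm (D.rf a) v
  rw [← rfm_eq ha, rfm_vec, sub_eq_self] at h1
  have h2 := congrArg (D.wt a ⬝ᵥ ·) h1
  simp only [dotProduct_smul, rt_two (rt_mem ha), dotProduct_zero, smul_eq_mul] at h2
  exact (mul_eq_zero.1 h2).resolve_right two_ne_zero

theorem sum_Qv [Fintype D.W] {v : Vec D.R} (hv : v ∈ Qv (rts D)) : ∑ u, D.Wm u *ᵥ v = 0 := by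
  refine Qv.ind (P := fun v => ∑ u, D.Wm u *ᵥ v = 0) hv (by simp) ?_
    (fun x y a b => by simp only [mulVec_add, Finset.sum_add_distrib, a, b, add_zero])
    fun m x a => by simp only [mulVec_smul, ← Finset.smul_sum, a, smul_zero]
  rintro _ ⟨a, ha, rfl⟩
  have h1 := Equiv.sum_comp (Equiv.mulRight (D.rf a)) fun u => D.Wm u *ᵥ D.cor a
  simp only [Equiv.coe_mulRight, D.Wm_mul, ← mulVec_mulVec, ← rfm_eq ha, rfm_vec, rt_two (rt_mem ha), mulVec_sub,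
    mulVec_smul, Finset.sum_sub_distrib, ← Finset.smul_sum, sub_eq_self] at h1
  exact (smul_eq_zero.1 h1).resolve_left two_ne_zero

theorem Qv.eq_zero {v : Vec D.R} (hv : v ∈ Qv (rts D)) (h : Perp (rts D) v) : v = 0 := by
  have := Fintype.ofFinite D.W
  have h1 := sum_Qv hv
  simp only [h.fix (Wm_mem _), Finset.sum_const] at h1
  exact (smul_eq_zero.1 h1).resolve_left Fintype.card_ne_zero

/-- a multiple of every vector is central modulo the coroot lattice -/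
theorem exists_dec (v : Vec D.R) : ∃ z y, Perp (rts D) z ∧ y ∈ Qv (rts D) ∧ (Nat.card D.W : ℤ) • v = z + y := by
  have := Fintype.ofFinite D.W
  refine ⟨_, -∑ u, (D.Wm u *ᵥ v - v), perp_sum v, neg_mem (sum_mem fun u _ => Qv.sub (Wm_mem u) v), ?_⟩
  rw [Finset.sum_sub_distrib, Finset.sum_const, Nat.card_eq_fintype_card, natCast_zsmul, neg_sub, add_sub_cancel]
  rfl

theorem ext_P {ι : Type} {M M' : Matrix ι D.R ℤ} (h1 : ∀ v, Perp (rts D) v → M *ᵥ v = M' *ᵥ v)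
    (h2 : ∀ a ∈ rts D, M *ᵥ a.2 = M' *ᵥ a.2) : M = M' := by
  refine Matrix.ext_of_mulVec_single fun i => ?_
  obtain ⟨z, y, hz, hy, e⟩ := exists_dec (D := D) (Pi.single i 1)
  refine smul_right_injective _ (Int.natCast_ne_zero.2 (Nat.card_pos (α := D.W)).ne') ?_
  show _ • _ = _ • _
  rw [← mulVec_smul, ← mulVec_smul, e, mulVec_add, mulVec_add, h1 z hz]
  exact congrArg _ (Qv.ind (P := fun v => M *ᵥ v = M' *ᵥ v) hy (by rw [mulVec_zero, mulVec_zero]) h2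
    (fun x y a b => by rw [mulVec_add, mulVec_add, a, b]) fun m x a => by rw [mulVec_smul, mulVec_smul, a])

theorem perp_nm (h : St D j B) (w : D.W) {v : Vec D.R} (hv : Perp (rts D) v) : Perp (rts D) ((D.Wm w * B) *ᵥ v) :=
  (h.fin' w).elim fun _ e => perp_of_nm e.1 e.2 (h.nm w) hv

/-! ### frames -/

namespace Fw

variable {κ : Kd} {n : ℕ} {blk : Fin n → ℕ} {m : ℤ} (Φ : Fw D κ blk m)

theorem P_inj {y : Vec D.R} (hy : y ∈ Qv (rts D)) (h : Φ.P *ᵥ y = 0) : y = 0 := Qv.eq_zero hy ((Φ.perp y).2 h)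

theorem P_ext {y y' : Vec D.R} (hy : y - y' ∈ Qv (rts D)) (h : Φ.P *ᵥ y = Φ.P *ᵥ y') : y = y' :=
  sub_eq_zero.1 (Φ.P_inj hy (by rw [mulVec_sub, h, sub_self]))

theorem dot (a : rts D) (v : Vec D.R) : (Φ.φ a).1.1 ⬝ᵥ (Φ.P *ᵥ v) = m * (a.1.1 ⬝ᵥ v) := by
  rw [dotProduct_mulVec, Φ.h1, smul_dotProduct, smul_eq_mul]

theorem dot_iff (a : rts D) (v : Vec D.R) : a.1.1 ⬝ᵥ v = 0 ↔ (Φ.φ a).1.1 ⬝ᵥ (Φ.P *ᵥ v) = 0 := by
  rw [Φ.dot, mul_eq_zero_iff_left Φ.pos.ne']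

/-- lifting from the standard coroot lattice -/
theorem lift {u : Fin n → ℤ} (hu : u ∈ Qv (std κ blk)) :
    ∃ y ∈ Qv (rts D), Φ.P *ᵥ y = m • u ∧ ∀ c x, Pat Φ c x → chr y c = chr u (sx x) := by
  refine Qv.ind (P := fun u => ∃ y ∈ Qv (rts D), Φ.P *ᵥ y = m • u ∧ ∀ c x, Pat Φ c x → chr y c = chr u (sx x)) hu
    ⟨0, zero_mem _, by simp, fun _ _ _ => by rw [chr_zero, chr_zero]⟩ (fun b hb => ?_) ?_ ?_
  · obtain ⟨a, e⟩ := Φ.φ.surjective ⟨b, hb⟩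
    exact ⟨a.1.2, Qv.cor a.2, by rw [Φ.h2, e], fun c x h => by rw [h, e]⟩
  · rintro u u' ⟨y, hy, h1, h2⟩ ⟨y', hy', h3, h4⟩
    exact ⟨y + y', add_mem hy hy', by rw [mulVec_add, h1, h3, smul_add],
      fun c x h => by rw [chr_add, chr_add, h2 c x h, h4 c x h]⟩
  · rintro l u ⟨y, hy, h1, h2⟩
    exact ⟨l • y, Submodule.smul_mem _ _ hy, by rw [mulVec_smul, h1, smul_comm],
      fun c x h => by rw [chr_zsmul, chr_zsmul, h2 c x h]⟩

/-- projection to the standard coroot lattice -/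
theorem proj {y : Vec D.R} (hy : y ∈ Qv (rts D)) :
    ∃ u ∈ Qv (std κ blk), Φ.P *ᵥ y = m • u ∧ ∀ c x, Pat Φ c x → chr y c = chr u (sx x) := by
  refine Qv.ind (P := fun y => ∃ u ∈ Qv (std κ blk), Φ.P *ᵥ y = m • u ∧ ∀ c x, Pat Φ c x → chr y c = chr u (sx x)) hy
    ⟨0, zero_mem _, by simp, fun _ _ _ => by rw [chr_zero, chr_zero]⟩
    (fun a ha => ⟨_, Qv.cor (Φ.φ ⟨a, ha⟩).2, Φ.h2 ⟨a, ha⟩, fun c x h => h ⟨a, ha⟩⟩) ?_ ?_
  · rintro u u' ⟨y, hy, h1, h2⟩ ⟨y', hy', h3, h4⟩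
    exact ⟨y + y', add_mem hy hy', by rw [mulVec_add, h1, h3, smul_add],
      fun c x h => by rw [chr_add, chr_add, h2 c x h, h4 c x h]⟩
  · rintro l u ⟨y, hy, h1, h2⟩
    exact ⟨l • y, Submodule.smul_mem _ _ hy, by rw [mulVec_smul, h1, smul_comm],
      fun c x h => by rw [chr_zsmul, chr_zsmul, h2 c x h]⟩

theorem P_Wm (w : D.W) (v : Vec D.R) : Φ.P *ᵥ (D.Wm w *ᵥ v) = sm (Φ.emb w) *ᵥ (Φ.P *ᵥ v) := by
  rw [mulVec_mulVec, Φ.hW, mulVec_mulVec]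

theorem eq_of_P {w w' : D.W} (h : Φ.P * D.Wm w = Φ.P * D.Wm w') : w = w' :=
  D.Wm_injective (Matrix.ext_of_mulVec_single fun i => Φ.P_ext
    (by simpa using Submodule.sub_mem _ (Qv.sub (Wm_mem w) (Pi.single i 1)) (Qv.sub (Wm_mem w') (Pi.single i 1)))
    (by rw [mulVec_mulVec, h, mulVec_mulVec]))

theorem ws (w : D.W) : Ws κ blk (Φ.emb w) := (Φ.rng _).1 ⟨w, rfl⟩

theorem emb_eq {w : D.W} {g : SG n} (hg : Ws κ blk g) (h : Φ.P * D.Wm w = sm g * Φ.P) : Φ.emb w = g := by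
  obtain ⟨w', rfl⟩ := (Φ.rng g).2 hg
  rw [Φ.eq_of_P (h.trans (Φ.hW w').symm)]

theorem fix_iff (w : D.W) (v : Vec D.R) : D.Wm w *ᵥ v = v ↔ sm (Φ.emb w) *ᵥ (Φ.P *ᵥ v) = Φ.P *ᵥ v :=
  ⟨fun h => by rw [← Φ.P_Wm, h], fun h => Φ.P_ext (Qv.sub (Wm_mem w) v) (by rw [Φ.P_Wm, h])⟩

theorem P_rfm (a : rts D) : Φ.P * rfm a.1 = rfm (Φ.φ a).1 * Φ.P := by
  refine Matrix.ext_of_mulVec_single fun i => ?_
  rw [← mulVec_mulVec, ← mulVec_mulVec, rfm_vec, rfm_vec, mulVec_sub, mulVec_smul, Φ.h2, Φ.dot, mul_comm, mul_smul]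

theorem emb_rf {a : D.I → ℤ} (ha : D.Rt a) {g : SG n} (hg : Ws κ blk g) (h : rfm (Φ.φ ⟨_, rt_mem ha⟩).1 = sm g) :
    Φ.emb (D.rf a) = g := Φ.emb_eq hg (by rw [← rfm_eq ha, ← h]; exact Φ.P_rfm ⟨_, rt_mem ha⟩)

end Fw

theorem rfm_sub {n : ℕ} {i l : Fin n} (h : i ≠ l) :
    rfm ((Pi.single i 1 - Pi.single l 1, Pi.single i 1 - Pi.single l 1) : Vec (Fin n) × Vec (Fin n)) = sm (sw i l 1) := by
  rw [← LV.Cl.Ey.pm_swap]
  exact KZ.Dat.refl_sub h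

theorem rfm_add {n : ℕ} {i l : Fin n} (h : i ≠ l) (s : ℤˣ) :
    rfm ((Pi.single i s + Pi.single l s, Pi.single i s + Pi.single l s) : Vec (Fin n) × Vec (Fin n)) = sm (sw i l (-1)) := by
  have h1 : rfm ((Pi.single i s + Pi.single l s, Pi.single i s + Pi.single l s) : Vec (Fin n) × Vec (Fin n)) =
      1 - vecMulVec (Pi.single i 1 + Pi.single l 1) (Pi.single i 1 + Pi.single l 1) := by
    rcases Int.units_eq_one_or s with rfl | rfl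
    · rfl
    · simp only [rfm, Units.val_neg, Units.val_one, Pi.single_neg, ← neg_add, neg_vecMulVec, vecMulVec_neg, neg_neg]
  rw [h1, KZ.Dat.refl_add h]
  refine KZ.Dat.spm_inj.2 ⟨rfl, funext fun x => ?_⟩
  simp only [LV.Cl.Ey.sw_s, Pi.mul_apply, Pi.mulSingle_apply]
  by_cases h2 : x = i <;> by_cases h3 : x = l <;> simp_all

theorem rfm_single {n : ℕ} (i : Fin n) {x y : ℤ} (h : x * y = 2) :
    rfm ((Pi.single i x, Pi.single i y) : Vec (Fin n) × Vec (Fin n)) = sm (tt i) := by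
  rw [← LV.Cl.Ey.dg_single]
  exact KZ.Dat.refl_single i (mul_comm x y ▸ h)

namespace Tw

variable {κ : Kd} {n : ℕ} {blk : Fin n → ℕ} {m : ℤ} {Φ : Fw D κ blk m} {τ : SG n} (h : Tw Φ B τ)
include h

theorem hA (w : D.W) : Φ.P * (D.Wm w * B) = sm (Φ.emb w * τ) * Φ.P := by
  rw [← Matrix.mul_assoc, Φ.hW, Matrix.mul_assoc, h.hB, ← Matrix.mul_assoc, ← map_mul]

theorem act (w : D.W) (v : Vec D.R) : Φ.P *ᵥ ((D.Wm w * B) *ᵥ v) = sm (Φ.emb w * τ) *ᵥ (Φ.P *ᵥ v) := by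
  rw [mulVec_mulVec, h.hA, mulVec_mulVec]

theorem tc_iff {v w w' : D.W} : Tc D v w w' ↔ Φ.emb w' * τ = Φ.emb v * (Φ.emb w * τ) * (Φ.emb v)⁻¹ := by
  rw [Tc, ← Φ.inj.eq_iff, map_mul, map_mul, h.tw, eq_mul_inv_iff_mul_eq, ← mul_assoc, ← mul_assoc,
    mul_inv_eq_iff_eq_mul, mul_assoc (Φ.emb v)]

theorem inj : Function.Injective fun w => Φ.emb w * τ := fun _ _ e => Φ.inj (mul_right_cancel e)

end Tw

/-! ### Levi subgroups -/

section Levi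

open Cfsg.Agent.DL.Uni Cfsg.Agent.DL.Asm Cfsg.Agent.Nodes.Reps Cfsg.Agent.DL.Mk Cfsg.Agent.Nodes.BNOf
  Cfsg.Agent.Characters.Core Cfsg.Agent.KZ.Levi Cfsg.Agent.ChevalleyStructure.CoxeterGeom Cfsg.Agent.DL.Base
  Cfsg.Agent.KZ.Lie.ApiC

variable (f : Fr D) {lam : Vec D.R} {w₁ : D.W}

theorem levi_gen (h1 : ∀ a, D.Rt a → D.wt a ⬝ᵥ lam = 0 → D.wt (D.act w₁ (D.g a)) ⬝ᵥ lam = 0) (h2 : Fx D w₁ c)
    (h3 : ∀ a, D.Rt a → D.wt a ⬝ᵥ lam = 0 → chr (D.cor a) c = 1) :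
    IsGeneralizedCharacter ↥(GF F G) (avg f (Wl D lam) (fun _ => 1) w₁ c) := by
  have hy := yw_mem D w₁
  have h0 := yw_rp D w₁
  generalize yw D w₁ = y₁ at hy h0
  have hN : y₁⁻¹ * F y₁ ∈ D.NN := ⟨w₁, h0⟩
  let l : (D.I → ℤ) →+ ℤ := AddMonoidHom.mk' (fun b => D.wt b ⬝ᵥ lam) fun b c => by rw [map_add, add_dotProduct]
  have hl : ∀ b, (D.conj hy hN).wt b ⬝ᵥ lam = l b := fun _ => rfl
  have hs : Stab (D.conj hy hN) lam := fun a ha => by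
    obtain ⟨h4, h5⟩ := (mem_Sz_Zl hl).1 ha
    refine (mem_Sz_Zl hl).2 ⟨(D.conj hy hN).g_root a h4, ?_⟩
    rw [D.conj_g, h0.pr_eq]
    exact h1 a h4 h5
  have hM : (dL hs).Mx = D.Wm w₁ * D.Mx := (D.conj_Mx hy hN).trans (by rw [h0.pr_eq])
  have hW : ∀ u, (dL hs).Wm u = D.Wm ((D.conj hy hN).subW _ u) := fun u => (sub_Wm hs u).trans (conj_Wm hy hN _)
  obtain ⟨μ, hμ, hL⟩ := KZ.Mts.boxExLin (dL hs) f.d f.e f.ζ ⟨f.L.d_pos, f.L.e_pos, fun u => by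
      rw [hM, hW, ← mul_assoc, ← D.Wm_mul]
      exact f.L.pow _⟩ f.hζ c (fun j => by
      obtain ⟨h4, h5⟩ := (mem_Sz_Zl hl).1 (⟨bs_root j, bs_mem j⟩ : _ ∈ (D.conj hy hN).Sz _)
      have h6 := h3 _ h4 h5
      rwa [← conj_cor hy hN h4] at h6) (fun v => by rw [hM, (dL hs).Wm_one, one_mul]; exact h2 v)
  have := finite_GF (dL hs)
  have h1 := pconst_of_lin (isLin_lin μ) fun u hu h => by rw [lin_apply μ hu, hμ ⟨u, hu⟩ h, Units.val_one]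
  have h5 : IsGeneralizedCharacter _ (res (GF F (Lc (D.conj hy hN) lam)) (lin μ)) := gen_of_lin (isLin_lin μ)
  convert gen_RL hl h5 using 1
  funext g
  rw [res, RL_congr (f' := usum _ (tori (dL hs)) (R (dL hs)) fun T => lin μ) ((sys' (dL hs)).pconst_eq_usum h1),
    RL_avg hl hs _ g.2 (fun u => 1 * RW f (u * w₁) c g) fun y hy' u hu => ?_, conj_Wl]
  · rfl
  have hyG : y ∈ G := (D.conj hy hN).cen_le_G _ hy'
  have h6 := (D.conj hy hN).rp_of_sub _ hs rfl hu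
  have h7 : D.Rp ((D.conj hy hN).subW _ u * w₁) ((y * y₁)⁻¹ * F (y * y₁)) := by
    have h8 := (D.conj_rp_iff hy hN (m := y₁⁻¹ * (y⁻¹ * F y) * y₁)).1 (by convert h6 using 1; group)
    convert h8.mul h0 using 1
    rw [map_mul]
    group
  have h8 : Lab D f.d f.ζ (y * y₁) (lin μ) c := fun v => by
    rw [← hL y hy' u hu v]
    congr 2
    show _ = y * (y₁ * D.τ _ * y₁⁻¹) * y⁻¹
    group
  rw [← R_eq_RW f (G.mul_mem hyG hy) h7 h8, D.conj_T, ← cj_mul,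
    R_conj_datum hy hN (mem_tori (G.mul_mem hyG hy) h7) _ _ g.2, one_mul]

/-- **integrality along a Levi subgroup** whose coroots are killed by the label -/
theorem levi_int [Fintype ↥(GF F G)] (h : St D j B) (h1 : Nm (D.Wm w₁ * B) (lev (rts D) lam)) (h2 : Fx D w₁ c)
    (h3 : Cen (lev (rts D) lam) c) {χ : ↥(GF F G) → ℂ} (hχ : IsIrrCharacter _ χ) :
    ∃ z : ℤ, ∑ᶠ u : Wl D lam, yv f χ c (u * w₁) = Nat.card (Wl D lam) * z := by
  obtain ⟨z, hz⟩ := LV.Blk.inner_int (gen_of_irr hχ) (levi_gen f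
    (fun a ha e => ((h.nm_iff (lev_sub _ _)).1 h1 a ha ⟨rt_mem ha, e⟩).2) h2 fun a ha e => h3 _ ⟨rt_mem ha, e⟩)
  have := Fintype.ofFinite (Wl D lam)
  have h4 : avg f (Wl D lam) (fun _ => 1) w₁ c = (Nat.card (Wl D lam) : ℂ)⁻¹ • ∑ u : Wl D lam, RW f (u * w₁) c := by
    funext g
    simp [avg, finsum_eq_sum_of_fintype]
  refine ⟨z, ?_⟩
  rw [h4, classInner_smul_right, classInner_sum_right, map_inv₀, map_natCast,
    inv_mul_eq_iff_eq_mul₀ (Nat.cast_ne_zero.2 Nat.card_pos.ne')] at hz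
  rw [finsum_eq_sum_of_fintype]
  exact hz

end Levi

end Cfsg.Agent.HZ.L.X
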