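import Cfsg.Agent.HZ.L.X.Defs

/-!
# HZ/L, the exact system: automorphisms of root systems of type `A` (helper82)
-/

set_option autoImplicit false
set_option linter.unusedSectionVars false

namespace Cfsg.Agent.HZ.L.X

open Cfsg Cfsg.Agent.DL Cfsg.Agent.DL.PP Matrix Cfsg.Agent.KZ.Lie Cfsg.Agent.KZ.Dat
open Cfsg.Agent.LV.Cl (SG sm sgn sm_apply)

namespace FrA

section Comb

variable {n : ℕ} {blk : Fin n → ℕ} {a b : Fin n → Fin n → Fin n} {i j k l : Fin n}

/-- the root `e i - e j` -/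
def rt (i j : Fin n) : Fin n → ℤ := Pi.single i 1 - Pi.single j 1

/-- the pairs which give roots -/
def E (blk : Fin n → ℕ) (i j : Fin n) : Prop := i ≠ j ∧ blk i = blk j

theorem E.symm (h : E blk i j) : E blk j i := ⟨h.1.symm, h.2.symm⟩

/-- the inner products -/
def ip (i j k l : Fin n) : ℤ :=
  (if i = k then 1 else 0) - (if j = k then 1 else 0) - ((if i = l then 1 else 0) - if j = l then 1 else 0)

theorem rt_dot (i j k l : Fin n) : rt i j ⬝ᵥ rt k l = ip i j k l := by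
  simp only [rt, ip, dotProduct_sub, dotProduct_single, mul_one, Pi.sub_apply, Pi.single_apply, eq_comm]

theorem ip_swap (i j k l : Fin n) : ip j i l k = ip i j k l := by
  unfold ip
  ring

theorem ip_one (h : 0 < ip i j k l) : i = k ∨ j = l := by
  by_contra h1
  push Not at h1
  unfold ip at h
  rw [if_neg h1.1, if_neg h1.2] at h
  split_ifs at h <;> omega

theorem ip_neg (h : ip i j k l < 0) : j = k ∨ i = l := by
  by_contra h1
  push Not at h1
  unfold ip at h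
  rw [if_neg h1.1, if_neg h1.2] at h
  split_ifs at h <;> omega

theorem ip_neg_two (h : ip i j k l = -2) : j = k ∧ i = l := by
  unfold ip at h
  split_ifs at h <;> omega

theorem ip_self (h : i ≠ j) : ip i j i j = 2 := by simp [ip, h, h.symm]

theorem ip_rev (h : i ≠ j) : ip i j j i = -2 := by simp [ip, h, h.symm]

theorem ip_hd (h1 : i ≠ j) (h2 : i ≠ k) (h3 : j ≠ k) : ip i j i k = 1 := by simp [ip, h1.symm, h2, h3]

theorem ip_tl (h1 : i ≠ k) (h2 : j ≠ k) (h3 : i ≠ j) : ip i k j k = 1 := by simp [ip, h1, h2.symm, h3]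

theorem ip_ch (h1 : i ≠ j) (h2 : j ≠ k) (h3 : i ≠ k) : ip i j j k = -1 := by simp [ip, h1, h2, h3]

theorem ip_far (h : E blk i j) (h' : E blk k l) (e : blk i ≠ blk k) : ip i j k l = 0 := by
  have h1 : i ≠ k := fun h => e (congrArg blk h)
  have h2 : j ≠ k := fun h0 => e (h.2.trans (congrArg blk h0))
  have h3 : i ≠ l := fun h0 => e ((congrArg blk h0).trans h'.2.symm)
  have h4 : j ≠ l := fun h0 => e (h.2.trans ((congrArg blk h0).trans h'.2.symm))
  simp [ip, h1, h2, h3, h4]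

theorem ip_hd_ne (h1 : i ≠ j) (h2 : i ≠ k) : ip i j i k ≠ 0 := by
  by_cases h : j = k
  · rw [← h, ip_self h1]
    norm_num
  · rw [ip_hd h1 h2 h]
    norm_num

/-- maps of the roots which keep the inner products -/
structure Sy (blk : Fin n → ℕ) (a b : Fin n → Fin n → Fin n) : Prop where
  e : ∀ {i j}, E blk i j → E blk (a i j) (b i j)
  ip : ∀ {i j k l}, E blk i j → E blk k l → ip (a i j) (b i j) (a k l) (b k l) = ip i j k l

/-- the heads are constant on the stars of a block -/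
def Pos (blk : Fin n → ℕ) (a : Fin n → Fin n → Fin n) (β : ℕ) : Prop :=
  ∀ i j k, blk i = β → E blk i j → E blk i k → a i j = a i k

namespace Sy

variable (S : Sy blk a b)
include S

theorem swap : Sy blk b a := ⟨fun h => (S.e h).symm, fun h h' => (ip_swap _ _ _ _).trans (S.ip h h')⟩

theorem neg (h : E blk i j) : b i j = a j i := (ip_neg_two ((S.ip h h.symm).trans (ip_rev h.1))).1

theorem star (h : E blk i j) (h' : E blk i k) : a i j = a i k ∨ b i j = b i k := by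
  by_cases e : j = k
  · exact Or.inl (e ▸ rfl)
  · exact ip_one (by rw [S.ip h h', ip_hd h.1 h'.1 e]; norm_num)

theorem not_both (h : E blk i j) (h' : E blk i k) (e : j ≠ k) (h1 : a i j = a i k) : b i j ≠ b i k := fun h2 => by
  have h3 := S.ip h h'
  rw [← h1, ← h2, ip_self (S.e h).1, ip_hd h.1 h'.1 e] at h3
  omega

theorem pos (h : E blk i j) (h' : E blk i k) (e : j ≠ k) (h1 : a i j = a i k) : Pos blk a (blk i) := by
  have h2 : ∀ l, E blk i l → a i l = a i j := fun l hl => by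
    by_contra h3
    exact S.not_both h h' e h1 (((S.star hl h).resolve_left h3).symm.trans
      ((S.star hl h').resolve_left fun h4 => h3 (h4.trans h1.symm)))
  have h3 : ∀ x y, E blk i x → E blk x y → a x y = b i x := fun x y hx hy => by
    by_cases e : y = i
    · rw [e, S.neg hx]
    have h4 : E blk i y := ⟨Ne.symm e, hx.2.trans hy.2⟩
    have h5 := ip_neg (i := a i x) (j := b i x) (k := a x y) (l := b x y) (by
      rw [S.ip hx hy, ip_ch hx.1 hy.1 h4.1]; norm_num)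
    have h6 := ip_one (i := a i y) (j := b i y) (k := a x y) (l := b x y) (by
      rw [S.ip h4 hy, ip_tl h4.1 hy.1 hx.1]; norm_num)
    rcases h5 with h5 | h5
    · exact h5.symm
    · rw [h2 y h4, ← h2 x hx, h5] at h6
      rcases h6 with h6 | h6
      · exact absurd h6.symm (S.e hy).1
      · exact absurd (((h2 y h4).trans (h2 x hx).symm).trans (h5.trans h6.symm)) (S.e h4).1
  intro x y z hx hy hz
  by_cases e : i = x
  · subst e
    rw [h2 y hy, h2 z hz]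
  · rw [h3 x y ⟨e, hx.symm⟩ hy, h3 x z ⟨e, hx.symm⟩ hz]

theorem pos_or (β : ℕ) : Pos blk a β ∨ Pos blk b β := by
  refine or_iff_not_imp_left.2 fun h => ?_
  unfold Pos at h
  push Not at h
  obtain ⟨i, j, k, rfl, h1, h2, h3⟩ := h
  exact S.swap.pos h1 h2 (fun e => h3 (e ▸ rfl)) ((S.star h1 h2).resolve_left h3)

theorem exists_map : ∃ (π : Fin n → Fin n) (s : ℕ → ℤˣ), (∀ i, (∀ j, ¬ E blk i j) → π i = i) ∧ ∀ i j, E blk i j →
    s (blk i) = 1 ∧ a i j = π i ∧ b i j = π j ∨ s (blk i) = -1 ∧ b i j = π i ∧ a i j = π j := by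
  classical
  refine ⟨fun i => if h : ∃ j, E blk i j then (if Pos blk a (blk i) then a i h.choose else b i h.choose) else i,
    fun β => if Pos blk a β then 1 else -1, fun i hi => dif_neg fun ⟨j, hj⟩ => hi j hj, fun i j h => ?_⟩
  have h1 : ∃ j, E blk i j := ⟨j, h⟩
  have h2 : ∃ i, E blk j i := ⟨i, h.symm⟩
  beta_reduce
  rw [dif_pos h1, dif_pos h2, ← h.2]
  by_cases hp : Pos blk a (blk i)
  · simp only [if_pos hp]
    exact Or.inl ⟨trivial, hp _ _ _ rfl h h1.choose_spec, (S.neg h).trans (hp _ _ _ h.2.symm h.symm h2.choose_spec)⟩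
  · have hn := (S.pos_or _).resolve_left hp
    simp only [if_neg hp]
    exact Or.inr ⟨trivial, hn _ _ _ rfl h h1.choose_spec,
      (S.swap.neg h).trans (hn _ _ _ h.2.symm h.symm h2.choose_spec)⟩

/-- **the automorphisms of a system of type `A`** -/
theorem exists_sg : ∃ τ : SG n, (∀ i j, blk i = blk j → blk (τ.π i) = blk (τ.π j) ∧ τ.s i = τ.s j) ∧
    ∀ i j, E blk i j → sm τ *ᵥ rt i j = rt (a i j) (b i j) := by
  obtain ⟨π, s, h1, h2⟩ := S.exists_map
  have h3 : ∀ i j, E blk i j → E blk (π i) (π j) := fun i j h => by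
    rcases h2 i j h with ⟨-, e, e'⟩ | ⟨-, e, e'⟩
    exacts [e ▸ e' ▸ S.e h, e ▸ e' ▸ (S.e h).symm]
  have h4 : Function.Injective π := fun i k e => by
    by_contra hne
    by_cases hi : ∃ j, E blk i j
    · obtain ⟨j, hj⟩ := hi
      by_cases hk : ∃ l, E blk k l
      · obtain ⟨l, hl⟩ := hk
        by_cases hb : blk i = blk k
        · exact (h3 i k ⟨hne, hb⟩).1 e
        have h5 := (S.ip hj hl).trans (ip_far hj hl hb)
        have h6 := ip_hd_ne (h3 i j hj).1 (e ▸ (h3 k l hl).1 : π i ≠ π l)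
        refine h6 ?_
        rcases h2 i j hj with ⟨-, e1, e2⟩ | ⟨-, e1, e2⟩ <;> rcases h2 k l hl with ⟨-, e3, e4⟩ | ⟨-, e3, e4⟩ <;>
          rw [e1, e2, e3, e4, ← e] at h5 <;> unfold FrA.ip at h5 ⊢ <;> omega
      · push Not at hk
        exact hk (π j) (by rw [← h1 k hk, ← e]; exact h3 i j hj)
    · push Not at hi
      by_cases hk : ∃ l, E blk k l
      · obtain ⟨l, hl⟩ := hk
        exact hi (π l) (by rw [← h1 i hi, e]; exact h3 k l hl)
      · push Not at hk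
        exact hne (by rw [← h1 i hi, e, h1 k hk])
  refine ⟨⟨Equiv.ofBijective π (Finite.injective_iff_bijective.1 h4), fun i => s (blk i)⟩, fun i j h => ⟨?_, congrArg s h⟩,
    fun i j h => ?_⟩
  · by_cases e : i = j
    · rw [e]
    · exact (h3 i j ⟨e, h⟩).2
  · rw [sm_apply, rt, mulVec_sub, spm_mulVec_single, spm_mulVec_single]
    change (Pi.single (π i) ((s (blk i) : ℤ) * 1) - Pi.single (π j) ((s (blk j) : ℤ) * 1) : Fin n → ℤ) = _
    rw [← h.2]
    rcases h2 i j h with ⟨e, e1, e2⟩ | ⟨e, e1, e2⟩ <;> rw [e, e1, e2, rt]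
    · simp
    · simp [Pi.single_neg]
      abel

end Sy

theorem mem_std (hb : ∀ i, blk i ≠ 0) {x : Vec (Fin n) × Vec (Fin n)} :
    x ∈ std .D blk ↔ ∃ i j, E blk i j ∧ x = (rt i j, rt i j) :=
  ⟨fun h => h.elim (fun ⟨i, j, h1, h2, h3⟩ => ⟨i, j, ⟨h1, h2⟩, h3⟩) fun h =>
    h.elim (fun ⟨i, _, _, _, h1, _⟩ => absurd h1 (hb i)) fun ⟨i, _, h1, _⟩ => absurd h1 (hb i),
    fun ⟨i, j, h1, h3⟩ => Or.inl ⟨i, j, h1.1, h1.2, h3⟩⟩

theorem ws_ext (hb : ∀ i, blk i ≠ 0) {g g' : SG n} (h : Ws .D blk g) (h' : Ws .D blk g')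
    (e : ∀ i j, E blk i j → sm g *ᵥ rt i j = sm g' *ᵥ rt i j) : g = g' := by
  refine SG.ext (Equiv.ext fun i => ?_) (funext fun i => (h.2.1 i (hb i)).trans (h'.2.1 i (hb i)).symm)
  by_cases hi : ∃ j, E blk i j
  · obtain ⟨j, hj⟩ := hi
    have h1 := congrFun (e i j hj) (g.π i)
    rw [sm_apply, sm_apply, spm_mulVec, rt, mulVec_sub, spm_mulVec_single, spm_mulVec_single, h.2.1 i (hb i),
      h'.2.1 i (hb i), h'.2.1 j (hb j)] at h1
    by_contra h2
    simp only [Pi.sub_apply, Pi.single_apply, if_neg h2, if_neg hj.1, if_true] at h1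
    split_ifs at h1 <;> simp at h1
  · have h1 : ∀ x, blk x = blk i → x = i := fun x hx => by
      by_contra h2
      exact hi ⟨x, Ne.symm h2, hx.symm⟩
    rw [h1 _ (h.1 i), h1 _ (h'.1 i)]

theorem ws_conj (hb : ∀ i, blk i ≠ 0) {g τ : SG n} (h : Ws .D blk g)
    (hτ : ∀ i j, blk i = blk j → blk (τ.π i) = blk (τ.π j) ∧ τ.s i = τ.s j) : Ws .D blk (τ * g * τ⁻¹) := by
  have h1 : ∀ i, (τ * g * τ⁻¹).s i = 1 := fun i => by
    change τ.s (g.π (τ.π⁻¹ i)) * g.s (τ.π⁻¹ i) * τ.s (τ.π⁻¹ i) = 1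
    rw [(hτ _ _ (h.1 _)).2, h.2.1 _ (hb _), mul_one, Int.units_mul_self]
  refine ⟨fun i => ?_, fun i _ => h1 i, fun _ => (LV.Cl.Ey.sgn_apply _).trans (Finset.prod_eq_one fun i _ => h1 i)⟩
  change blk (τ.π (g.π (τ.π⁻¹ i))) = blk i
  rw [(hτ _ _ (h.1 _)).1, LV.Cl.Ey.ap_inv]

theorem nm_pow {R : Type} [Fintype R] [DecidableEq R] {Ψ : RS R} {B : Mat R} (h : Nm B Ψ) (t : ℕ) :
    ∀ x ∈ Ψ, ∃ y ∈ Ψ, y.1 ᵥ* B ^ t = x.1 := by
  induction t with
  | zero => exact fun x hx => ⟨x, hx, by rw [pow_zero, vecMul_one]⟩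
  | succ t ih =>
    intro x hx
    obtain ⟨y, hy, e⟩ := ih x hx
    obtain ⟨z, hz, -, e'⟩ := h y hy
    exact ⟨z, hz, by rw [pow_succ', ← vecMul_vecMul, e', e]⟩

theorem perp_map {R : Type} [Fintype R] [DecidableEq R] {Ψ : RS R} {B : Mat R} (h : Nm B Ψ) {t : ℕ} (ht : 0 < t)
    (hB : B ^ t = 1) {v : Vec R} (hv : Perp Ψ v) : Perp Ψ (B *ᵥ v) := fun x hx => by
  obtain ⟨y, hy, e⟩ := nm_pow h (t - 1) x hx
  rw [dotProduct_mulVec, ← e, vecMul_vecMul, ← pow_succ, Nat.sub_add_cancel ht, hB, vecMul_one, hv y hy]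

end Comb

variable {p : ℕ} [Fact p.Prime] {k : Type} [Field k] [CharP k p] [IsAlgClosed k] {Y : Type} [Group Y] {N : Type}
  [Fintype N] [DecidableEq N] {ρ : Y →* GL N k} {F : MulAut Y} {G : Subgroup Y} {D : Datum p ρ F G}

/-- the coroots and the central cocharacters span -/
theorem ext_zero (h2 : ∀ a ∈ rts D, a.1 ⬝ᵥ a.2 = 2) {ι : Type} [Fintype ι] {M : Matrix ι D.R ℤ}
    (h : ∀ a ∈ rts D, M *ᵥ a.2 = 0) (h' : ∀ v, Perp (rts D) v → M *ᵥ v = 0) : M = 0 := by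
  have := Fintype.ofFinite D.W
  have h1 : ∀ A ∈ WW (rts D), ∀ v, M *ᵥ (A *ᵥ v) = M *ᵥ v := fun A hA => by
    induction hA using Submonoid.closure_induction with
    | mem x hx =>
      obtain ⟨a, ha, rfl⟩ := hx
      intro v
      rw [rfm, sub_mulVec, one_mulVec, vecMulVec_mulVec, mulVec_sub, op_smul_eq_smul, mulVec_smul, h a ha, smul_zero,
        sub_zero]
    | one => exact fun v => by rw [one_mulVec]
    | mul x y _ _ hx hy => exact fun v => by rw [← mulVec_mulVec v x, hx, hy]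
  refine ext_of_mulVec_single fun i => ?_
  generalize (Pi.single i 1 : D.R → ℤ) = v
  have h3 : Perp (rts D) (∑ w, D.Wm w *ᵥ v) := fun a ha => by
    obtain ⟨u, hu⟩ := mem_WW.1 (rfm_mem ha)
    have h4 : ∑ w, D.Wm w *ᵥ v = rfm a *ᵥ ∑ w, D.Wm w *ᵥ v := by
      rw [mulVec_sum, ← Equiv.sum_comp (Equiv.mulLeft u)]
      exact Finset.sum_congr rfl fun w _ => by rw [Equiv.coe_mulLeft, D.Wm_mul, hu, mulVec_mulVec]
    have h5 := congrArg (a.1 ⬝ᵥ ·) h4
    simp only [rfm, sub_mulVec, one_mulVec, vecMulVec_mulVec, op_smul_eq_smul, dotProduct_sub, dotProduct_smul, h2 a ha,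
      smul_eq_mul] at h5
    omega
  have h4 := h' _ h3
  rw [mulVec_sum, Finset.sum_congr rfl fun w _ => h1 _ (Wm_mem w) v, Finset.sum_const, Finset.card_univ] at h4
  rw [zero_mulVec]
  exact (smul_eq_zero.1 h4).resolve_left Fintype.card_ne_zero

end FrA

open FrA

variable {p : ℕ} [Fact p.Prime] {k : Type} [Field k] [CharP k p] [IsAlgClosed k] {Y : Type} [Group Y] {N : Type}
  [Fintype N] [DecidableEq N] {ρ : Y →* GL N k} {F : MulAut Y} {G : Subgroup Y} (D : Datum p ρ F G)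

/-- **[FrA]** -/
theorem boxFrA : BoxFrA D := by
  classical
  intro j B h n blk m Φ hb
  choose θ hθ h1 h2 using fun a : rts D => h.nm' a.1 a.2
  let r : ∀ i j, E blk i j → rts D := fun i j e => Φ.φ.symm ⟨(rt i j, rt i j), (mem_std hb).2 ⟨i, j, e, rfl⟩⟩
  have hr : ∀ i j e, (Φ.φ (r i j e)).1 = (rt i j, rt i j) := fun i j e => by rw [Equiv.apply_symm_apply]
  have hr' : ∀ x : rts D, ∃ i j e, x = r i j e := fun x => by
    obtain ⟨i, j, e, h3⟩ := (mem_std hb).1 (Φ.φ x).2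
    exact ⟨i, j, e, Φ.φ.eq_symm_apply.2 (Subtype.ext h3)⟩
  have h3 : ∀ i j, ∃ a b, ∀ e : E blk i j, E blk a b ∧ (Φ.φ ⟨θ (r i j e), hθ _⟩).1 = (rt a b, rt a b) := fun i j => by
    by_cases e : E blk i j
    · obtain ⟨a, b, h3⟩ := (mem_std hb).1 (Φ.φ ⟨θ (r i j e), hθ _⟩).2
      exact ⟨a, b, fun _ => h3⟩
    · exact ⟨i, j, fun e' => absurd e' e⟩
  choose a b h3 using h3
  have S : Sy blk a b := ⟨fun e => (h3 _ _ e).1, fun {i j k l} e e' => by
    have h4 := Φ.car ⟨θ (r i j e), hθ _⟩ ⟨θ (r k l e'), hθ _⟩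
    have h5 := Φ.car (r i j e) (r k l e')
    rw [(h3 _ _ e).2, (h3 _ _ e').2] at h4
    rw [hr _ _ e, hr _ _ e'] at h5
    rw [← rt_dot, ← rt_dot, h4, h5, ← h1, dotProduct_mulVec, h2]⟩
  obtain ⟨τ, h4, h5⟩ := S.exists_sg
  obtain ⟨t, ht, hB⟩ := h.fin
  have h6 : Φ.P * B = sm τ * Φ.P := sub_eq_zero.1 (ext_zero (fun x hx => ?_) (fun x hx => ?_) fun v hv => ?_)
  · refine ⟨τ, h6, fun v => ws_ext hb ((Φ.rng _).1 ⟨_, rfl⟩) (ws_conj hb ((Φ.rng _).1 ⟨_, rfl⟩) h4) fun i l e => ?_⟩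
    have h7 : B * D.Wm v = D.Wm (D.Fw v) * B := by
      have h8 := D.Mx_Wm v
      rw [h.mx, smul_mul_assoc, mul_smul_comm] at h8
      exact smul_right_injective _ h.q_ne h8
    have h8 : sm (Φ.emb (D.Fw v)) * Φ.P * B = sm (τ * Φ.emb v * τ⁻¹) * Φ.P * B := by
      rw [← Φ.hW, Matrix.mul_assoc, ← h7, ← Matrix.mul_assoc, h6, Matrix.mul_assoc, Φ.hW, Matrix.mul_assoc _ _ B, h6,
        ← Matrix.mul_assoc, ← Matrix.mul_assoc, ← map_mul, ← map_mul, inv_mul_cancel_right]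
    have h9 := congrArg (fun M => (M * B ^ (t - 1)) *ᵥ (r i l e).1.2) h8
    simp only [Matrix.mul_assoc, ← pow_succ', Nat.sub_add_cancel ht, hB, Matrix.mul_one] at h9
    rw [← mulVec_mulVec, ← mulVec_mulVec, Φ.h2, hr _ _ e, mulVec_smul, mulVec_smul] at h9
    exact smul_right_injective _ Φ.pos.ne' h9
  · obtain ⟨i, l, e, h7⟩ := hr' ⟨x, hx⟩
    have h8 := Φ.car ⟨x, hx⟩ ⟨x, hx⟩
    rw [← h8, h7, hr _ _ e, rt_dot, ip_self e.1]
  · obtain ⟨i, l, e, h7⟩ := hr' ⟨x, hx⟩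
    obtain rfl : x = (r i l e).1 := congrArg Subtype.val h7
    have h8 := Φ.h2 ⟨θ (r i l e), hθ _⟩
    rw [(h3 _ _ e).2] at h8
    rw [sub_mulVec, ← mulVec_mulVec, ← mulVec_mulVec, h1, Φ.h2, hr _ _ e, mulVec_smul, h5 i l e, h8, sub_self]
  · rw [sub_mulVec, ← mulVec_mulVec, ← mulVec_mulVec, (Φ.perp _).1 hv, (Φ.perp _).1 (perp_map h.nm' ht hB hv),
      mulVec_zero, sub_self]

end Cfsg.Agent.HZ.L.X
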