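import Cfsg.Agent.HZ.L.X.Defs

/-!
# HZ/L, the exact system: `boxFw : BoxFw D` (helper10)
-/

set_option autoImplicit false
set_option linter.unusedSectionVars false

namespace Cfsg.Agent.HZ.L.X

open Cfsg Cfsg.Agent.DL Cfsg.Agent.DL.PP Matrix Cfsg.Agent.KZ.Dat Cfsg.Agent.Tits.Roots
open Cfsg.Agent.LV.Cl (SG sm sgn sw tt sm_apply)
open Cfsg.Agent.LV.Cl.Ey

namespace Fwx

variable {κ : Kd} {n : ℕ} {blk : Fin n → ℕ} {i j : Fin n} {g g' : SG n}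

variable (κ blk) in
/-- the Weyl group of the standard system -/
def WS : Subgroup (SG n) where
  carrier := {g | Ws κ blk g}
  one_mem' := ⟨fun _ => rfl, fun _ _ => rfl, fun _ => map_one _⟩
  mul_mem' {a b} ha hb := ⟨fun i => (ha.1 _).trans (hb.1 i), fun i hi => by
    rw [LV.Cl.mul_s, hb.2.1 i hi, ha.2.1 _ (hb.1 i ▸ hi), mul_one], fun h => by rw [map_mul, ha.2.2 h, hb.2.2 h, mul_one]⟩
  inv_mem' {a} ha := by
    have h : ∀ i, blk (a.π⁻¹ i) = blk i := fun i => by rw [← ha.1, ap_inv]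
    exact ⟨h, fun i hi => ha.2.1 _ (h i ▸ hi), fun e => by rw [map_inv, ha.2.2 e, inv_one]⟩

theorem sub_mem (h : i ≠ j) (e : blk i = blk j) :
    (Pi.single i 1 - Pi.single j 1, Pi.single i 1 - Pi.single j 1) ∈ std κ blk := .inl ⟨i, j, h, e, rfl⟩

theorem add_mem (h : i ≠ j) (e : blk i = 0) (e' : blk j = 0) :
    (Pi.single i 1 + Pi.single j 1, Pi.single i 1 + Pi.single j 1) ∈ std κ blk := .inr (.inl ⟨i, j, 1, h, e, e', rfl⟩)

theorem sgl_mem (h : κ ≠ .D) (e : blk i = 0) : ∃ x y : ℤ, x * y = 2 ∧ (Pi.single i x, Pi.single i y) ∈ std κ blk := by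
  cases κ
  exacts [⟨_, _, by simp, .inr (.inr ⟨i, 1, e, .inl ⟨rfl, rfl⟩⟩)⟩, ⟨_, _, by simp, .inr (.inr ⟨i, 1, e, .inr ⟨rfl, rfl⟩⟩)⟩,
    absurd rfl h]

theorem rfm_sub (h : i ≠ j) : rfm (Pi.single i 1 - Pi.single j 1, Pi.single i 1 - Pi.single j 1) = sm (sw i j 1) :=
  (refl_sub h).trans (by rw [← pm_swap]; rfl)

theorem rfm_add (h : i ≠ j) (s : ℤˣ) :
    rfm (Pi.single i (s : ℤ) + Pi.single j (s : ℤ), Pi.single i (s : ℤ) + Pi.single j (s : ℤ)) = sm (sw i j (-1)) := by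
  have h1 : rfm (Pi.single i 1 + Pi.single j 1, Pi.single i 1 + Pi.single j 1) = sm (sw i j (-1)) :=
    (refl_add h).trans (spm_inj.2 ⟨rfl, funext fun x => by
      simp only [sw_s, Pi.mul_apply, Pi.mulSingle_apply]
      split_ifs <;> simp_all⟩)
  rcases Int.units_eq_one_or s with rfl | rfl
  · exact h1
  · rw [← h1, rfm, rfm, Units.val_neg, Units.val_one, Pi.single_neg, Pi.single_neg, ← neg_add, neg_vecMulVec, vecMulVec_neg,
      neg_neg]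

theorem rfm_sgl {x y : ℤ} (h : x * y = 2) : rfm (Pi.single i x, Pi.single i y) = sm (tt i) :=
  (refl_single i (mul_comm x y ▸ h)).trans (by rw [← dg_single]; rfl)

theorem sw_ws (h : i ≠ j) (e : blk i = blk j) {s : ℤˣ} (hs : s = 1 ∨ blk i = 0) : Ws κ blk (sw i j s) := by
  refine ⟨fun x => ?_, fun x hx => ?_, fun _ => sgn_sw h s⟩
  · rw [sw_π, Equiv.swap_apply_def]
    split_ifs <;> simp_all
  · rw [sw_s]
    split_ifs with h1
    · rcases h1 with rfl | rfl <;> simp_all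
    · rfl

theorem tt_ws (h : κ ≠ .D) (e : blk i = 0) : Ws κ blk (tt i) :=
  ⟨fun _ => rfl, fun x hx => by rw [tt_s, if_neg fun h => hx (by rw [h, e])], fun h' => absurd h' h⟩

theorem exists_ws {b : Vec (Fin n) × Vec (Fin n)} (h : b ∈ std κ blk) : ∃ g, Ws κ blk g ∧ rfm b = sm g := by
  have h2 : ∀ s : ℤˣ, (s : ℤ) * (2 * s) = 2 := fun s => by rcases Int.units_eq_one_or s with rfl | rfl <;> rfl
  obtain ⟨i, j, h, e, rfl⟩ | ⟨i, j, s, h, e, e', rfl⟩ | ⟨i, s, e, ⟨rfl, rfl⟩ | ⟨rfl, rfl⟩⟩ := h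
  exacts [⟨_, sw_ws h e (.inl rfl), rfm_sub h⟩, ⟨_, sw_ws h (e.trans e'.symm) (.inr e), rfm_add h s⟩,
    ⟨_, tt_ws (by simp) e, rfm_sgl (h2 s)⟩, ⟨_, tt_ws (by simp) e, rfm_sgl (mul_comm _ (s : ℤ) ▸ h2 s)⟩]

/-- the reflections generate -/
theorem ws_le {H : Subgroup (SG n)} (h : ∀ b ∈ std κ blk, ∀ g, Ws κ blk g → rfm b = sm g → g ∈ H) (hg : Ws κ blk g) :
    g ∈ H := by
  have h1 : ∀ x y, blk x = blk y → sw x y 1 ∈ H := fun x y e => by
    by_cases h2 : x = y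
    · rw [h2, sw_self]; exact one_mem _
    · exact h _ (sub_mem h2 e) _ (sw_ws h2 e (.inl rfl)) (rfm_sub h2)
  have h0 : ∀ x, g.s x = -1 → blk x = 0 := fun x e => by_contra fun h' => by simp [hg.2.1 x h'] at e
  rw [← pm_mul_dg g]
  refine mul_mem (pm_mem h1 _ hg.1) ?_
  by_cases h2 : κ = .D
  · by_cases h3 : ∃ l, g.s l = -1
    · obtain ⟨l, hl⟩ := h3
      refine dg_mem' l (fun x hx => ?_) (hg.2.2 h2)
      by_cases h4 : x = l
      · rw [h4, tt_mul_self]; exact one_mem _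
      · have e := (h0 x hx).trans (h0 l hl).symm
        exact sw_mul_sw h4 ▸ mul_mem (h1 x l e) (h _ (add_mem h4 (h0 x hx) (h0 l hl)) _ (sw_ws h4 e (.inr (h0 x hx))) (rfm_add h4 1))
    · exact dg_mem fun x hx => (h3 ⟨x, hx⟩).elim
  · refine dg_mem fun x hx => ?_
    obtain ⟨a, b, e, k⟩ := sgl_mem h2 (h0 x hx)
    exact h _ k _ (tt_ws h2 (h0 x hx)) (rfm_sgl e)

/-- the action on the coroots is faithful -/
theorem eq_one (hg : Ws κ blk g) (h : ∀ b ∈ std κ blk, sm g *ᵥ b.2 = b.2) : g = 1 := by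
  have h0 : ∀ (i : Fin n) (x : ℤ), x ≠ 0 → sm g *ᵥ Pi.single i x = Pi.single i x → g.π i = i ∧ g.s i = 1 := fun i x hx e => by
    have h1 := congrFun e (g.π i)
    rw [sm_apply, spm_mulVec, Pi.single_eq_same, Pi.single_apply] at h1
    split_ifs at h1 with h2
    · exact ⟨h2, Units.ext ((mul_eq_right₀ hx).1 h1)⟩
    · exact absurd h1 (mul_ne_zero (g.s i).ne_zero hx)
  have h1 : ∀ i j, i ≠ j → blk i = blk j → g.π i = i ∧ g.s i = 1 := fun i j e e' => by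
    have h2 := h _ (sub_mem e e')
    by_cases h3 : blk i = 0
    · have h4 := h _ (add_mem e h3 (e' ▸ h3))
      refine h0 i 2 two_ne_zero ?_
      rw [show (Pi.single i 2 : Fin n → ℤ) = Pi.single i 1 - Pi.single j 1 + (Pi.single i 1 + Pi.single j 1) by
        rw [sub_add_add_cancel, ← Pi.single_add]; rfl, mulVec_add, h2, h4]
    · have h4 := congrFun h2 (g.π i)
      rw [sm_apply, spm_mulVec, hg.2.1 i h3] at h4
      refine ⟨by_contra fun h5 => ?_, hg.2.1 i h3⟩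
      simp [Pi.single_apply, h5, e] at h4
      split_ifs at h4
      omega
  have h2 : ∀ i, g.π i = i := fun i => by_contra fun e => e (h1 i _ (Ne.symm e) (hg.1 i).symm).1
  refine SG.ext (Equiv.ext h2) (funext fun i => ?_)
  by_cases h3 : ∃ j, i ≠ j ∧ blk i = blk j
  · exact (h1 i _ h3.choose_spec.1 h3.choose_spec.2).2
  by_cases h4 : blk i = 0
  · by_cases h5 : κ = .D
    · have h6 := hg.2.2 h5
      rwa [sgn_apply, Finset.prod_eq_single i (fun j _ e => hg.2.1 j fun e' => h3 ⟨j, e.symm, h4.trans e'.symm⟩) (by simp)] at h6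
    · obtain ⟨a, b, e, k⟩ := sgl_mem h5 h4
      exact (h0 i b (by rintro rfl; simp at e) (h _ k)).2
  · exact hg.2.1 i h4

theorem dot_co {x : Vec (Fin n)} {b : Vec (Fin n) × Vec (Fin n)} (hb : b ∈ std κ blk) : b.1 ⬝ᵥ x = 0 ↔ b.2 ⬝ᵥ x = 0 := by
  obtain ⟨i, j, h, e, rfl⟩ | ⟨i, j, s, h, e, e', rfl⟩ | ⟨i, s, e, ⟨rfl, rfl⟩ | ⟨rfl, rfl⟩⟩ := hb <;> simp

variable {p : ℕ} [Fact p.Prime] {k : Type} [Field k] [CharP k p] [IsAlgClosed k] {Y : Type} [Group Y] {N : Type}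
  [Fintype N] [DecidableEq N] {ρ : Y →* GL N k} {F : MulAut Y} {G : Subgroup Y} {D : Datum p ρ F G}
  {φ : rts D ≃ std κ blk} {m : ℤ}

/-- a frame from its matrix -/
theorem mk {P : Matrix (Fin n) D.R ℤ} (car : ∀ a b, (φ a).1.1 ⬝ᵥ (φ b).1.2 = a.1.1 ⬝ᵥ b.1.2) (pos : 0 < m)
    (h1 : ∀ a, (φ a).1.1 ᵥ* P = m • a.1.1) (h2 : ∀ a, P *ᵥ a.1.2 = m • (φ a).1.2)
    (h3 : ∀ v, Perp (rts D) v → P *ᵥ v = 0) : ∃ Φ : Fw D κ blk m, Φ.φ = φ ∧ Φ.P = P := by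
  have k1 : ∀ a : rts D, P * rfm a.1 = rfm (φ a).1 * P := fun a => by
    rw [rfm, rfm, Matrix.mul_sub, Matrix.sub_mul, Matrix.mul_one, Matrix.one_mul, mul_vecMulVec, vecMulVec_mul, h1, h2,
      smul_vecMulVec, vecMulVec_smul]
  have k2 : ∀ A ∈ WW (rts D), ∃ g ∈ WS κ blk, P * A = sm g * P := fun A hA => by
    induction hA using Submonoid.closure_induction with
    | mem _ h =>
      obtain ⟨a, ha, rfl⟩ := h
      obtain ⟨g, e, e'⟩ := exists_ws (φ ⟨a, ha⟩).2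
      exact ⟨g, e, e' ▸ k1 ⟨a, ha⟩⟩
    | one => exact ⟨1, one_mem _, by simp⟩
    | mul A B _ _ hA hB =>
      obtain ⟨g, e, e'⟩ := hA
      obtain ⟨g', f, f'⟩ := hB
      exact ⟨g * g', mul_mem e f, by rw [← Matrix.mul_assoc, e', Matrix.mul_assoc, f', map_mul, Matrix.mul_assoc]⟩
  have k3 : ∀ g ∈ WS κ blk, ∀ g' ∈ WS κ blk, sm g * P = sm g' * P → g = g' := fun g e g' e' h => by
    refine (inv_mul_eq_one.1 (eq_one (mul_mem (inv_mem e') e) fun b hb => smul_right_injective _ pos.ne' ?_)).symm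
    have h4 := h2 (φ.symm ⟨b, hb⟩)
    rw [φ.apply_symm_apply] at h4
    simp only [← mulVec_smul, ← h4, mulVec_mulVec]
    rw [map_mul, Matrix.mul_assoc, h, ← Matrix.mul_assoc, ← map_mul, inv_mul_cancel, map_one, Matrix.one_mul]
  choose e e1 e2 using fun w => k2 _ (Wm_mem (D := D) w)
  refine ⟨⟨P, φ, pos, car, h1, h2, fun v => ⟨h3 v, fun h a ha => ?_⟩, MonoidHom.mk' e fun v w => k3 _ (e1 _) _
    (mul_mem (e1 v) (e1 w)) ?_, (injective_iff_map_eq_one _).2 fun w h => ?_, e2, fun g => ⟨?_, ws_le (H := MonoidHom.range _)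
      fun b hb g hg h => ?_⟩⟩, rfl, rfl⟩
  · have h4 : _ ⬝ᵥ v = _ ⬝ᵥ v := congrArg (· ⬝ᵥ v) (h1 ⟨a, ha⟩)
    rw [← dotProduct_mulVec, h, dotProduct_zero, smul_dotProduct] at h4
    exact (mul_eq_zero.1 h4.symm).resolve_left pos.ne'
  · rw [← e2, D.Wm_mul, ← Matrix.mul_assoc, e2, Matrix.mul_assoc, e2, map_mul, Matrix.mul_assoc]
  · refine inv_eq_one.1 (D.act_eq_one fun i => D.wt_injective (smul_right_injective _ pos.ne' ?_))
    have h4 := h1 ⟨_, rt_mem (isRoot_sr D.cs D.h i)⟩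
    have h5 := e2 w
    rw [show e w = 1 from h, map_one, Matrix.one_mul] at h5
    simp only [D.wt_act', ← smul_vecMul] at h4 ⊢
    rw [← h4, vecMul_vecMul, h5]
  · rintro ⟨w, rfl⟩
    exact e1 w
  · obtain ⟨a, rfl⟩ : ∃ a, (φ a).1 = b := ⟨φ.symm ⟨b, hb⟩, by simp⟩
    obtain ⟨w, hw⟩ := mem_WW.1 (rfm_mem a.2)
    exact ⟨w, k3 _ (e1 w) _ hg (by rw [← h, ← k1, ← hw]; exact (e2 w).symm)⟩

theorem all (car : ∀ a b, (φ a).1.1 ⬝ᵥ (φ b).1.2 = a.1.1 ⬝ᵥ b.1.2) : ∃ (m : ℤ) (Φ : Fw D κ blk m), Φ.φ = φ := by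
  obtain ⟨C, hC⟩ : ∃ C, C = Wt D * (of D.cw)ᵀ := ⟨_, rfl⟩
  obtain ⟨α, hα⟩ : ∃ α : D.I → rts D, ∀ i, (α i).1.2 = D.cw i := ⟨fun i => ⟨_, rt_mem (isRoot_sr D.cs D.h i)⟩, D.cor_sr⟩
  obtain ⟨A, hA⟩ : ∃ A : Matrix (Fin n) D.I ℤ, ∀ x i, (x ᵥ* A) i = x ⬝ᵥ (φ (α i)).1.2 :=
    ⟨(of fun i => (φ (α i)).1.2)ᵀ, fun _ _ => rfl⟩
  have h0 : 0 < C.det * C.det := mul_self_pos.2 (hC ▸ det_cartan D)
  have h1 : ∀ a, (φ a).1.1 ᵥ* (A * (C.det • C.adjugate * Wt D)) = (C.det * C.det) • a.1.1 := fun a => by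
    have h2 : (φ a).1.1 ᵥ* A = a.1.1 ᵥ* (of D.cw)ᵀ := funext fun i => by
      rw [hA, car, hα]
      rfl
    obtain ⟨b, -, h3⟩ := a.2
    rw [← vecMul_vecMul, h2, show a.1.1 = b ᵥ* Wt D by rw [h3, vecMul_Wt], vecMul_vecMul b, ← hC, vecMul_vecMul,
      ← Matrix.mul_assoc, Matrix.mul_smul,
      mul_adjugate, smul_smul, Matrix.smul_mul, Matrix.one_mul, vecMul_smul]
  obtain ⟨Φ, h, -⟩ := mk car h0 h1 (fun a => sub_eq_zero.1 (dotProduct_self_eq_zero.1 (by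
    have h2 : ∀ b : rts D, ((A * (C.det • C.adjugate * Wt D)) *ᵥ a.1.2 - (C.det * C.det) • (φ a).1.2) ⬝ᵥ (φ b).1.2 = 0 :=
      fun b => (dotProduct_comm _ _).trans ((dot_co (φ b).2).1 (by
        rw [dotProduct_sub, dotProduct_mulVec, h1, dotProduct_smul, smul_dotProduct, car, sub_self]))
    rw [dotProduct_sub, dotProduct_smul, h2, smul_zero, sub_zero, ← mulVec_mulVec _ A, dotProduct_mulVec, mulVec_mulVec,
      show _ ᵥ* A = 0 from funext fun i => (hA _ i).trans (h2 _), zero_dotProduct])))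
    fun v hv => by
      rw [← mulVec_mulVec, ← mulVec_mulVec, show Wt D *ᵥ v = 0 from funext fun i => hv _ (rt_mem (isRoot_sr D.cs D.h i)),
        mulVec_zero, mulVec_zero]
  exact ⟨_, Φ, h⟩

theorem two {φ : rts D ≃ std κ (b0 n)} (hn : 2 ≤ n) (car : ∀ a b, (φ a).1.1 ⬝ᵥ (φ b).1.2 = a.1.1 ⬝ᵥ b.1.2) :
    ∃ Φ : Fw D κ (b0 n) 2, Φ.φ = φ := by
  obtain ⟨m, Φ, rfl⟩ := all car
  have : Nontrivial (Fin n) := Fin.nontrivial_iff_two_le.2 hn
  have h1 : ∀ i, ∃ r, (2 : ℤ) • Φ.P i = m • r := fun i => by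
    obtain ⟨j, hj⟩ := exists_ne i
    have k1 := Φ.h1 (Φ.φ.symm ⟨_, sub_mem hj.symm rfl⟩)
    have k2 := Φ.h1 (Φ.φ.symm ⟨_, add_mem hj.symm rfl rfl⟩)
    rw [Equiv.apply_symm_apply] at k1 k2
    refine ⟨_, Eq.trans ?_ ((congrArg₂ (· + ·) k1 k2).trans (smul_add ..).symm)⟩
    rw [← add_vecMul, sub_add_add_cancel, add_vecMul, single_one_vecMul, two_smul]
    rfl
  choose Q hQ using h1
  have h2 : (2 : ℤ) • Φ.P = m • of Q := funext hQ
  have h3 := Φ.pos.ne'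
  obtain ⟨Φ', h, -⟩ := mk (P := of Q) car two_pos (fun a => smul_right_injective _ h3 (by
      simp only [← vecMul_smul, ← h2]
      rw [vecMul_smul, Φ.h1, smul_comm])) (fun a => smul_right_injective _ h3 (by
      simp only [← smul_mulVec, ← h2]
      rw [smul_mulVec, Φ.h2, smul_comm])) fun v hv => smul_right_injective _ h3 (by
      simp only [← smul_mulVec, ← h2]
      rw [smul_mulVec, (Φ.perp v).1 hv, smul_zero, smul_zero])
  exact ⟨Φ', h⟩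

end Fwx

variable {p : ℕ} [Fact p.Prime] {k : Type} [Field k] [CharP k p] [IsAlgClosed k] {Y : Type} [Group Y] {N : Type}
  [Fintype N] [DecidableEq N] {ρ : Y →* GL N k} {F : MulAut Y} {G : Subgroup Y} (D : Datum p ρ F G)

/-- **frames exist** -/
theorem boxFw : BoxFw D := ⟨fun _ _ _ _ h => Fwx.all h, fun _ _ _ hn h => Fwx.two hn h⟩

end Cfsg.Agent.HZ.L.X
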