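import Cfsg.Agent.HZ.L.X.Bas

/-!
# HZ/L, the exact system: the glue (helper52)

`fmX_of : p ≠ 2 → All p → FmX p`.
-/

set_option autoImplicit false
set_option linter.unusedSectionVars false

namespace Cfsg.Agent.HZ.L.X

open Cfsg Cfsg.Agent.DL Cfsg.Agent.DL.PP Matrix Cfsg.Agent.KZ.Lie Cfsg.Agent.Characters.Core Cfsg.Agent.DL.Uni Cfsg.Agent.DL.Asm
open Cfsg.Agent.LV.Cl (SG sm sgn)
open Cfsg.Agent.LV.Lab (yv)

/-- all boxes -/
structure All (p : ℕ) [Fact p.Prime] : Prop where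
  norm : BoxNorm
  xc : XC.Box
  fw : AllD p fun D => BoxFw D
  frA : AllD p fun D => BoxFrA D
  frB : AllD p fun D => BoxFrB D
  ta : AllD p fun D => BoxTA D
  lab : AllD p fun D => BoxLab D
  adm : AllD p fun D => BoxAdm D
  prod : AllD p fun D => BoxProd D
  hyp : AllD p fun D => BoxHyp D
  tri : AllD p fun D => BoxTri D

theorem ex_empty {R : Type} [Fintype R] : Ex (∅ : RS R) := by
  have : IsEmpty (std .D (b0 0)) := ⟨fun a => by
    rcases a.2 with ⟨i, -⟩ | ⟨i, -⟩ | ⟨i, -⟩ <;> exact i.elim0⟩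
  exact ⟨0, .D, b0 0, ⟨Equiv.equivOfIsEmpty _ _, fun a => a.2.elim⟩, Or.inl ((Finite.card_subtype_le _).trans (by simp))⟩

theorem eig_three : ∀ (π : Equiv.Perm (Fin 3)) (s : Fin 3 → ℤˣ), ∃ μ ∈ [(1 : ℤ), -1], ∃ v : Fin 3 → Fin 3,
    (∀ j, s j * ((v (π j) : ℤ) - 1) = μ * (v j - 1)) ∧ ∃ j, (v j : ℤ) - 1 ≠ 0 := by decide +kernel

theorem bd_three (κ : Kd) (x : Fin 3 → Bool) : XC.Bd κ x [1, -1] 1 1 := fun y h h0 => by
  obtain ⟨g, hg⟩ := Function.ne_iff.1 h0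
  obtain ⟨μ, hμ, v, h1, j, h2⟩ := eig_three g.π g.s
  exact absurd (congrFun ((h.supp g hg).2 μ hμ (fun j => (v j : ℤ) - 1) h1) j) h2

variable {p : ℕ} [Fact p.Prime] {k : Type} [Field k] [CharP k p] [IsAlgClosed k] {Y : Type} [Group Y] {N : Type}
  [Fintype N] [DecidableEq N] {ρ : Y →* GL N k} {F : MulAut Y} {G : Subgroup Y} {D : Datum p ρ F G}
  {j : ℕ} {B : Mat D.R} [Fintype ↥(GF F G)] {f : Fr D} {χ : ↥(GF F G) → ℂ} {w w' : D.W} {c c' : Lbl D}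

theorem Big.nonempty (h : Big (rts D)) : (rts D).Nonempty := by
  obtain ⟨κ, n, h1, φ, -⟩ := h
  obtain ⟨n, rfl⟩ : ∃ m, n = m + 2 := ⟨n - 2, by rcases h1 with h | h | h <;> omega⟩
  exact ⟨_, (φ.symm ⟨_, Or.inl ⟨0, 1, zero_ne_one, rfl, rfl⟩⟩).2⟩

theorem nr_pos (h : Has f χ w c) : 0 < LV.Lab.nr f χ c :=
  (LV.Lab.nr_nonneg f χ c).lt_of_ne' fun e => h ((LV.Lab.nr_eq_zero f χ).1 e w)

/-- a central label which lives on one class -/
theorem one_le_nr (h : St D j B) (hχ : IsIrrCharacter _ χ) (hw : Has f χ w c) (hc : Cen (rts D) c)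
    (h1 : ∀ w', Has f χ w' c → ∃ v, Tc D v w w') : 1 ≤ LV.Lab.nr f χ c := by
  have := Fintype.ofFinite D.W
  have h2 : Wl D 0 = ⊤ := eq_top_iff.2 fun u _ => mulVec_zero _
  obtain ⟨z, hz⟩ := levi_int f (lam := 0) h (by rw [lev_zero]; exact h.nm w) hw.fx (by rwa [lev_zero]) hχ
  rw [h2, Subgroup.card_top] at hz
  replace hz := ((finsum_comp_equiv (f := yv f χ c) (Subgroup.topEquiv.toEquiv.trans (Equiv.mulRight w))).trans
    (finsum_eq_sum_of_fintype _)).symm.trans hz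
  obtain ⟨a, ha⟩ := LV.Lab.yv_int f (gen_of_irr hχ) c w
  have h3 : ∀ u, ((‖yv f χ c u‖ ^ 2 : ℝ) : ℂ) = a * yv f χ c u := fun u => by
    by_cases e : yv f χ c u = 0
    · simp [e]
    obtain ⟨v, hv⟩ := h1 u e
    rw [← LV.Lab.yv_conj f χ hv (tl_of_cor hc (Wm_mem v)), ha, Complex.norm_intCast, sq_abs, sq]
    simp
  have h4 : ∑ u, ‖yv f χ c u‖ ^ 2 = Nat.card D.W * (a * z : ℤ) := by
    apply Complex.ofReal_injective
    rw [Complex.ofReal_sum, Finset.sum_congr rfl fun u _ => h3 u, ← Finset.mul_sum, hz]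
    push_cast
    ring
  have h5 := nr_pos hw
  rw [LV.Lab.nr_eq, h4, show LV.Lab.St D c = ⊤ from eq_top_iff.2 fun u _ => tl_of_cor hc (Wm_mem u), Subgroup.card_top,
    inv_mul_cancel_left₀ (Nat.cast_ne_zero.2 Nat.card_pos.ne')] at h5 ⊢
  exact_mod_cast h5

variable (f χ B) in
/-- the eigenvalue does not occur on the support -/
def Miss (c : Lbl D) (μ : ℂ) : Prop := ∀ w, Has f χ w c → ¬ Eig (rts D) (D.Wm w * B) μ

theorem miss_or (hl : Link (exL p) B f χ) (h : ¬ Cj (rts D) c c') (μ : ℂ) : Miss B f χ c μ ∨ Miss B f χ c' μ :=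
  or_iff_not_imp_left.2 fun h1 w' h2 h3 => h1 fun w h4 h5 => h (hl w c w' c' μ h4 h2 h5 h3)

theorem cj_of_spl (hP : BoxProd D) (hz : Cz p (rts D)) (hr : Cr B f χ) (hw : Has f χ w c) (hw' : Has f χ w' c')
    (h : Spl (rts D) B) : Cj (rts D) c c' := by
  obtain ⟨Ψ₁, Ψ₂, h, h1, h2, h3, h4⟩ := h
  exact hP hz Ψ₁ Ψ₂ B h c c' hw.fo hw'.fo (hr _ _ h h2 h3 _ _ _ _ hw hw')
    (hr _ _ ⟨h.union.trans (Set.union_comm _ _), fun a ha b hb => (h.orth b hb a ha).symm, h.nm₂, h.nm₁⟩ h1 h4 _ _ _ _ hw hw')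

theorem pe_of (h : St D j B) (h0 : (rts D).Nonempty) (hr : Cr B f χ) (hw : Has f χ w c) (hw' : Has f χ w' c') :
    PE (rts D) c c' := by
  obtain ⟨A, hA, h1⟩ := hr ∅ _ ⟨(Set.empty_union _).symm, fun _ e => e.elim, fun _ e => e.elim, h.nm'⟩ h0 ex_empty _ _ _ _ hw hw'
  exact fun v hv => by rw [← h1 v hv, Perp.fix (Ψ := ∅) (fun _ e => e.elim) hA]

/-- the numerical end of the proof -/
theorem fin_big (hX : XC.Box) {κ : Kd} {n : ℕ} (hκ : Rk κ n) {x x' : Fin n → Bool} (h1 : Ok κ x) (h2 : Ok κ x')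
    (h3 : κ = .C → (∃ i, x i = true) ∨ ∃ i, x' i = true) {P P' : ℤ → Prop} {r r' : ℝ} (h4 : ∀ μ, P μ ∨ P' μ)
    (h5 : ∀ S : List ℤ, (∀ μ ∈ S, μ * μ = 1 ∧ P μ) → ∀ a b : ℕ, XC.Bd κ x S a b → (a : ℝ) ≤ b * r)
    (h6 : ∀ S : List ℤ, (∀ μ ∈ S, μ * μ = 1 ∧ P' μ) → ∀ a b : ℕ, XC.Bd κ x' S a b → (a : ℝ) ≤ b * r')
    (h7 : 0 < r) (h8 : 0 < r') : 1 < r + r' := by
  have key : XC.Bd κ x [1] 3 4 ∧ XC.Bd κ x [-1] 3 4 ∧ XC.Bd κ x [1, -1] 1 1 →
      XC.Bd κ x' [1] 3 4 ∧ XC.Bd κ x' [-1] 3 4 ∧ XC.Bd κ x' [1, -1] 1 1 → 1 < r + r' := fun a b => by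
    rcases h4 1 with e | e <;> rcases h4 (-1) with e' | e'
    · have := h5 _ (by simp [e, e']) _ _ a.2.2
      push_cast at this
      linarith
    · have := h5 _ (by simp [e]) _ _ a.1
      have := h6 _ (by simp [e']) _ _ b.2.1
      push_cast at *
      linarith
    · have := h5 _ (by simp [e']) _ _ a.2.1
      have := h6 _ (by simp [e]) _ _ b.1
      push_cast at *
      linarith
    · have := h6 _ (by simp [e, e']) _ _ b.2.2
      push_cast at this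
      linarith
  have k1 : ∀ S : List ℤ, (∀ μ ∈ S, μ * μ = 1 ∧ P μ) → XC.Bd κ x S 1 1 → 1 < r + r' := fun S a b => by
    have := h5 S a _ _ b
    push_cast at this
    linarith
  have k2 : ∀ S : List ℤ, (∀ μ ∈ S, μ * μ = 1 ∧ P' μ) → XC.Bd κ x' S 1 1 → 1 < r + r' := fun S a b => by
    have := h6 S a _ _ b
    push_cast at this
    linarith
  have k3 : ∀ x : Fin 3 → Bool, (Finset.univ.filter fun j => x j = false).card ≠ 1 → (∃ i, x i = true) →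
      (Finset.univ.filter fun j => x j = false).card = 0 ∨ (Finset.univ.filter fun j => x j = false).card = 2 := by decide
  rcases hκ with ⟨rfl, h9, h10⟩ | ⟨rfl, rfl | rfl⟩ | ⟨rfl, rfl⟩
  · exact key (hX.d n h9 h10 x (Bool.forall_bool.2 ⟨h1.2 nofun, h1.1 rfl⟩))
      (hX.d n h9 h10 x' (Bool.forall_bool.2 ⟨h2.2 nofun, h2.1 rfl⟩))
  · exact key (hX.b2 x) (hX.b2 x')
  · exact (h4 1).elim (fun e => k1 _ (by simp [e]) (hX.b3 x).1) fun e => k2 _ (by simp [e]) (hX.b3 x').1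
  rcases h3 rfl with h | h
  · have h9 := hX.c3 x (k3 x (h1.2 nofun) h)
    rcases h4 1 with e | e
    · exact k1 _ (by simp [e]) h9.1
    exact (h4 (-1)).elim (fun e' => k1 _ (by simp [e']) h9.2) fun e' => k2 _ (by simp [e, e']) (bd_three _ _)
  · have h9 := hX.c3 x' (k3 x' (h2.2 nofun) h)
    rcases h4 1 with e | e
    swap
    · exact k2 _ (by simp [e]) h9.1
    exact (h4 (-1)).elim (fun e' => k1 _ (by simp [e, e']) (bd_three _ _)) fun e' => k2 _ (by simp [e']) h9.2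

theorem b1_of (hp : p ≠ 2) (H : All p) (h : St D j B) (he : Ex (rts D)) (hz : Cz p (rts D)) : B1 D (exL p) B := by
  intro f χ hχ hl hr hn w c w' c' hw hw'
  by_contra h0
  replace h0 : ¬ Cj (rts D) c c' := h0
  have h1 := LV.Lab.nr_add_le f hχ (mt cj_iff.2 h0)
  have h2 := nr_pos hw
  have h3 := nr_pos hw'
  have i1 := isol_of h hz hw.fx (hn w c hw)
  have i2 := isol_of h hz hw'.fx (hn w' c' hw')
  obtain ⟨n, hn1, hn2⟩ := h.fin
  rcases H.norm _ B n hn1 hn2 h.nm' he with e | ⟨n, blk, hb, φ, hφ⟩ | e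
  · exact h0 (cj_of_spl (H.prod D) hz hr hw hw' e)
  · obtain ⟨m, Φ, -⟩ := (H.fw D).all _ n blk φ hφ
    obtain ⟨τ, hτ⟩ := H.frA D j B h n blk m Φ hb
    rcases (H.ta D).orb j B h n blk m Φ hb τ hτ with e | ⟨μ, e⟩
    · exact h0 (cj_of_spl (H.prod D) hz hr hw hw' e)
    rcases miss_or hl h0 μ with e' | e'
    · linarith [one_le_nr h hχ hw ((H.ta D).cen n blk m Φ hb c i1) fun u hu => e _ _ (e' _ hw) (e' _ hu)]
    · linarith [one_le_nr h hχ hw' ((H.ta D).cen n blk m Φ hb c' i2) fun u hu => e _ _ (e' _ hw') (e' _ hu)]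
  have h4 := pe_of h e.nonempty hr hw hw'
  rcases H.frB D j B h e with ⟨κ, n, hκ, Φ, τ, hτ⟩ | ⟨Φ, hΦ⟩
  · obtain ⟨x, hx, ox⟩ := (H.lab D).pat κ n hκ Φ c i1
    obtain ⟨x', hx', ox'⟩ := (H.lab D).pat κ n hκ Φ c' i2
    obtain ⟨h5, -, h6⟩ := (H.lab D).two hp hz κ n hκ Φ c c' x x' hx ox hx' ox' h4 h0
    obtain ⟨-, -, h7⟩ := (H.lab D).two hp hz κ n hκ Φ c' c x' x hx' ox' hx ox (fun v hv => (h4 v hv).symm)
      (mt (Cj.symm' subset_rfl) h0)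
    exact not_lt.2 h1 (fin_big H.xc hκ ox ox' h5 (fun μ => miss_or hl h0 μ)
      (H.hyp D j B h hz κ n hκ Φ τ hτ f χ hχ c x hx (fun u hu => h6 j B τ h hτ u w' hu hw'.fx) w hw)
      (H.hyp D j B h hz κ n hκ Φ τ hτ f χ hχ c' x' hx' (fun u hu => h7 j B τ h hτ u w hu hw.fx) w' hw') h2 h3)
  have hκ : Rk .D 4 := Or.inl ⟨rfl, le_rfl, by norm_num⟩
  obtain ⟨x, hx, ox⟩ := (H.lab D).pat _ _ hκ Φ c i1
  obtain ⟨x', hx', ox'⟩ := (H.lab D).pat _ _ hκ Φ c' i2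
  by_cases c1 : Cen (rts D) c
  · by_cases c2 : Cen (rts D) c'
    · exact h0 ((H.tri D).cen hp j B h Φ hΦ c c' w w' c1 c2 h4 hw.fx hw'.fx ▸ Cj.refl _ _)
    · linarith [(H.tri D).one j B h hz Φ hΦ f χ hχ c' x' hx' ox' c2 w' hw']
  · linarith [(H.tri D).one j B h hz Φ hΦ f χ hχ c x hx ox c1 w hw]

/-- **the exact system from the boxes** -/
theorem fmX_of (hp : p ≠ 2) (H : All p) : FmX p where
  ok D _ _ _ _ e := ⟨fun _ _ => Cj.symm' subset_rfl, fun _ _ _ => Cj.trans, fun v _ _ h => cj_iff.2 ⟨v, h⟩,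
    fun _ lam _ => ⟨(H.adm D).ex lam e.1, (H.adm D).cz lam e.2⟩, fun _ _ _ _ _ h => h.mono (lev_sub _ _)⟩
  b1 _ _ _ _ := b1_of hp H

end Cfsg.Agent.HZ.L.X
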