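import Cfsg.Agent.HZ.L.X.Bas

/-!
# HZ/L, the exact system: from the datum to the certificates (helper30)

`boxHyp`; the multiplicity function `Hyp.yy` on the signed permutations.
-/

set_option autoImplicit false
set_option linter.unusedSectionVars false
set_option maxHeartbeats 200000

namespace Cfsg.Agent.HZ.L.X

open Cfsg Cfsg.Agent.DL Cfsg.Agent.DL.PP Matrix Cfsg.Agent.KZ.Lie
open Cfsg.Agent.LV.Cl (SG sm sgn sw tt co_single)
open Cfsg.Agent.LV.Lab (yv)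
open Cfsg.Agent.HZ.L.XC (sgd Wc NoE Hy)

namespace Hyp

section pure

variable {n : ℕ} {κ : Kd} {x : Fin n → Bool} {i j : Fin n} {a : Vec (Fin n) × Vec (Fin n)}

theorem two_mem (hn : 2 ≤ n) (v : Fin n → ℤ) : (2 : ℤ) • v ∈ Qv (std κ (b0 n)) := by
  rw [← Finset.univ_sum_single v, Finset.smul_sum]
  refine sum_mem fun i _ => ?_
  have : Nontrivial (Fin n) := Fin.nontrivial_iff_two_le.2 hn
  obtain ⟨j, hj⟩ := exists_ne i
  have h1 := Qv.cor (Ψ := std κ (b0 n)) (Or.inl ⟨i, j, hj.symm, rfl, rfl⟩)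
  have h2 := Qv.cor (Ψ := std κ (b0 n)) (Or.inr (Or.inl ⟨i, j, 1, hj.symm, rfl, rfl, rfl⟩))
  convert Submodule.smul_mem _ (v i) (add_mem h1 h2) using 1
  funext l
  simp only [Pi.smul_apply, Pi.add_apply, Pi.sub_apply, Pi.single_apply, Units.val_one, smul_eq_mul]
  split_ifs <;> ring

theorem sx_pow (i : Fin n) (s : ℤˣ) : sx x i ^ (s : ℤ) = sx x i := by
  rcases Int.units_eq_one_or s with rfl | rfl <;> cases h : x i <;> simp [sx, h]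

theorem sx_two (i : Fin n) (s : ℤˣ) : sx x i ^ (2 * s : ℤ) = 1 := by
  rw [mul_comm, _root_.zpow_mul, sx_pow]
  cases h : x i <;> simp [sx, h]

theorem sx_mul : sx x i * sx x j = 1 ↔ x i = x j := by
  cases h : x i <;> cases h' : x j <;> simp [sx, h, h']

theorem sx_one : sx x i = 1 ↔ x i = true := by
  cases h : x i <;> simp [sx, h]

theorem chr_m : chr (Pi.single i 1 - Pi.single j 1) (sx x) = 1 ↔ x i = x j := by
  rw [chr_sub, chr_single, chr_single, ← sx_mul, show (sx x j)⁻¹ = sx x j by simpa using sx_pow (x := x) j (-1)]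

theorem chr_p (s : ℤˣ) : chr (Pi.single i (s : ℤ) + Pi.single j (s : ℤ)) (sx x) = 1 ↔ x i = x j := by
  rw [chr_add, co_single, co_single, sx_pow, sx_pow, sx_mul]

theorem mem_Wc {h : SG n} : h ∈ Wc κ x ↔ (∀ j, x (h.π j) = x j) ∧ ∀ b, sgd κ b = false → ∏ j with x j = b, h.s j = 1 := by
  simp [Wc]

theorem sw_Wc (h : i ≠ j) (e : ℤˣ) (hx : x i = x j) : sw i j e ∈ Wc κ x := by
  refine mem_Wc.2 ⟨fun l => ?_, fun b _ => ?_⟩
  · rw [LV.Cl.Ey.sw_π, Equiv.swap_apply_def]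
    split_ifs with h1 h2
    exacts [by rw [h1, hx], by rw [h2, hx], rfl]
  · by_cases hb : x i = b
    · rw [← LV.Cl.Ey.sgn_On (LV.Cl.Ey.sw_mem_On e (by simpa using hb) (by simpa [← hx] using hb)), LV.Cl.Ey.sgn_sw h]
    · refine Finset.prod_eq_one fun l hl => if_neg ?_
      rintro (rfl | rfl)
      exacts [hb (Finset.mem_filter.1 hl).2, hb (hx.trans (Finset.mem_filter.1 hl).2)]

theorem tt_Wc (h : sgd κ (x i) = true) : tt i ∈ Wc κ x :=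
  mem_Wc.2 ⟨fun _ => rfl, fun b hb => Finset.prod_eq_one fun l hl => if_neg (by
    rintro rfl
    rw [(Finset.mem_filter.1 hl).2, hb] at h
    exact Bool.false_ne_true h)⟩

theorem mul_Wc {g h : SG n} (hg : g ∈ Wc κ x) (hh : h ∈ Wc κ x) : g * h ∈ Wc κ x := by
  rw [mem_Wc] at hg hh ⊢
  refine ⟨fun l => (hg.1 _).trans (hh.1 l), fun b hb => ?_⟩
  simp only [LV.Cl.mul_s, Finset.prod_mul_distrib]
  rw [LV.Cl.Ey.prod_stab (fun l => by simp [hh.1]) g.s, hg.2 b hb, hh.2 b hb, mul_one]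

variable (κ x) in
/-- the stabiliser as a subgroup -/
def WS : Subgroup (SG n) where
  carrier := Wc κ x
  one_mem' := mem_Wc.2 ⟨fun _ => rfl, fun _ _ => Finset.prod_const_one⟩
  mul_mem' := mul_Wc
  inv_mem' {g} hg := by
    have h1 : ∀ m : ℕ, g ^ m ∈ Wc κ x := fun m => by
      induction m with
      | zero => exact mem_Wc.2 ⟨fun _ => rfl, fun _ _ => Finset.prod_const_one⟩
      | succ m ih => exact pow_succ g m ▸ mul_Wc ih hg
    obtain ⟨m, hm⟩ := mem_powers_iff_mem_zpowers.2 (inv_mem (Subgroup.mem_zpowers g))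
    exact hm ▸ h1 m

theorem ws_sw (h : i ≠ j) (e : ℤˣ) : Ws κ (b0 n) (sw i j e) := ⟨fun _ => rfl, fun _ h => absurd rfl h, fun _ => LV.Cl.Ey.sgn_sw h e⟩

theorem ws_tt (h : κ ≠ .D) (i : Fin n) : Ws κ (b0 n) (tt i) := ⟨fun _ => rfl, fun _ h => absurd rfl h, fun e => absurd e h⟩

theorem rf_mem (ha : a ∈ std κ (b0 n)) (h : chr a.2 (sx x) = 1) : ∃ g ∈ Wc κ x, Ws κ (b0 n) g ∧ rfm a = sm g := by
  rcases ha with ⟨i, j, h1, -, rfl⟩ | ⟨i, j, s, h1, -, -, rfl⟩ | ⟨i, s, -, ⟨rfl, rfl⟩ | ⟨rfl, rfl⟩⟩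
  · exact ⟨_, sw_Wc h1 1 (chr_m.1 h), ws_sw h1 1, rfm_sub h1⟩
  · exact ⟨_, sw_Wc h1 (-1) ((chr_p s).1 h), ws_sw h1 _, rfm_add h1 s⟩
  · exact ⟨_, tt_Wc rfl, ws_tt (by simp) i, rfm_single i (by rw [mul_left_comm, Int.units_coe_mul_self, mul_one])⟩
  · rw [co_single, sx_pow, sx_one] at h
    exact ⟨_, tt_Wc h, ws_tt (by simp) i, rfm_single i (by rw [mul_assoc, Int.units_coe_mul_self, mul_one])⟩

theorem ex_sw (h : i ≠ j) (e : ℤˣ) (hx : x i = x j) : ∃ a ∈ std κ (b0 n), chr a.2 (sx x) = 1 ∧ rfm a = sm (sw i j e) := by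
  rcases Int.units_eq_one_or e with rfl | rfl
  · exact ⟨_, Or.inl ⟨i, j, h, rfl, rfl⟩, chr_m.2 hx, rfm_sub h⟩
  · exact ⟨_, Or.inr (Or.inl ⟨i, j, 1, h, rfl, rfl, rfl⟩), (chr_p 1).2 hx, rfm_add h 1⟩

theorem ex_tt (h : sgd κ (x i) = true) : κ ≠ .D ∧ ∃ a ∈ std κ (b0 n), chr a.2 (sx x) = 1 ∧ rfm a = sm (tt i) := by
  cases κ
  · exact ⟨by simp, _, Or.inr (Or.inr ⟨i, 1, rfl, Or.inl ⟨rfl, rfl⟩⟩), (co_single _ _ _).trans (sx_two i 1), rfm_single i rfl⟩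
  · exact ⟨by simp, _, Or.inr (Or.inr ⟨i, 1, rfl, Or.inr ⟨rfl, rfl⟩⟩), (co_single _ _ _).trans ((sx_pow i 1).trans (sx_one.2 h)),
      rfm_single i rfl⟩
  · exact absurd h Bool.false_ne_true

/-- the roots of the Levi subgroup -/
theorem levi_rt {lam : Fin n → ℤ} {g : SG n} (h0 : ∀ i, 0 ≤ lam i)
    (h1 : ∀ i j, i ≠ j → lam i = lam j → x i = x j ∧ g.π i = i ∧ (lam i ≠ 0 → g.s i = g.s j))
    (h2 : ∀ i, lam i = 0 → g.π i = i ∧ sgd κ (x i) = sgd κ true) (ha : a ∈ std κ (b0 n)) (h : a.1 ⬝ᵥ lam = 0) :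
    chr a.2 (sx x) = 1 ∧ a.1 ⬝ᵥ (lam ᵥ* sm g) = 0 := by
  rcases ha with ⟨i, j, h3, -, rfl⟩ | ⟨i, j, s, h3, -, -, rfl⟩ | ⟨i, s, -, ⟨rfl, rfl⟩ | ⟨rfl, rfl⟩⟩
  · simp only [sub_dotProduct, single_dotProduct, one_mul, sub_eq_zero, vec_sm] at h ⊢
    obtain ⟨h4, h5, h6⟩ := h1 i j h3 h
    refine ⟨chr_m.2 h4, ?_⟩
    rw [h5, (h1 j i h3.symm h.symm).2.1, ← h]
    by_cases h7 : lam i = 0
    · rw [h7, zero_mul, zero_mul]
    · rw [h6 h7]
  · simp only [add_dotProduct, single_dotProduct, ← mul_add, vec_sm, Units.mul_right_eq_zero] at h ⊢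
    have h4 : lam i = 0 := by linarith [h0 i, h0 j]
    have h5 : lam j = 0 := by linarith
    exact ⟨(chr_p s).2 (h1 i j h3 (h4.trans h5.symm)).1, by rw [(h2 i h4).1, (h2 j h5).1, h4, h5, zero_mul, zero_mul, add_zero]⟩
  · simp only [single_dotProduct, vec_sm, Units.mul_right_eq_zero] at h ⊢
    exact ⟨(co_single _ _ _).trans (sx_two i s), by rw [(h2 i h).1, h, zero_mul]⟩
  · simp only [single_dotProduct, vec_sm, mul_assoc, mul_eq_zero, two_ne_zero, false_or, Units.ne_zero] at h ⊢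
    exact ⟨(co_single _ _ _).trans ((sx_pow i s).trans (sx_one.2 (h2 i h).2)), by simp [(h2 i h).1, h]⟩

theorem sm_back (g : SG n) (v : Fin n → ℤ) : sm g *ᵥ (v ᵥ* sm g) = v := funext fun i => by
  obtain ⟨i, rfl⟩ := g.π.surjective i
  rw [sm_vec, vec_sm, mul_left_comm, Int.units_coe_mul_self, mul_one]

theorem sm_fix {g : SG n} {v : Fin n → ℤ} : sm g *ᵥ v = v ↔ ∀ j, v (g.π j) = g.s j * v j :=
  ⟨fun h j => by rw [← sm_vec, h], fun h => funext fun i => by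
    obtain ⟨i, rfl⟩ := g.π.surjective i
    rw [sm_vec, h]⟩

theorem mem_Wl {lam : Fin n → ℤ} {u : SG n} : u ∈ XC.Wl κ lam ↔ sm u *ᵥ lam = lam ∧ Ws κ (b0 n) u := by
  rw [sm_fix]
  cases κ <;> simp [XC.Wl, Ws, sgd]

end pure

variable {p : ℕ} [Fact p.Prime] {k : Type} [Field k] [CharP k p] [IsAlgClosed k] {Y : Type} [Group Y] {N : Type}
  [Fintype N] [DecidableEq N] {ρ : Y →* GL N k} {F : MulAut Y} {G : Subgroup Y} {D : Datum p ρ F G}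
  {j : ℕ} {B : Mat D.R} {c : Lbl D} {κ : Kd} {n : ℕ} {Φ : Fw D κ (b0 n) 2} {τ : SG n} {x : Fin n → Bool}

theorem lift4 (Φ : Fw D κ (b0 n) 2) (hn : 2 ≤ n) (v : Fin n → ℤ) : ∃ y, Φ.P *ᵥ y = (4 : ℤ) • v :=
  (Φ.lift (two_mem hn v)).imp fun _ h => h.2.1.trans (smul_smul 2 2 v)

theorem card_le (hz : Cz p (rts D)) (hc : Fo p c) (hx : Pat Φ c x) : Nat.card (LV.Lab.St D c) ≤ (Wc κ x).card := by
  rw [← Nat.card_eq_finsetCard]
  refine Nat.card_le_card_of_injective (fun u => (⟨Φ.emb u, ?_⟩ : Wc κ x))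
    fun u v e => Subtype.ext (Φ.inj (congrArg Subtype.val e))
  refine stab_le hz hc (H := (WS κ x).comap Φ.emb) (fun a ha h => ?_) u.2
  obtain ⟨g, h1, h2, h3⟩ := rf_mem (Φ.φ ⟨_, rt_mem ha⟩).2 ((hx ⟨_, rt_mem ha⟩).symm.trans h)
  rw [Subgroup.mem_comap, Φ.emb_rf ha h2 h3]
  exact h1

theorem ex_rel (hx : Pat Φ c x) {g : SG n} (hg : Ws κ (b0 n) g) (h : ∃ a ∈ std κ (b0 n), chr a.2 (sx x) = 1 ∧ rfm a = sm g) :
    ∃ v, Rel D v c c ∧ Φ.emb v = g ∧ v⁻¹ = v := by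
  obtain ⟨a, ha, h1, h2⟩ := h
  obtain ⟨⟨_, b, hb, rfl⟩, e⟩ := Φ.φ.surjective ⟨a, ha⟩
  refine ⟨D.rf b, ?_, Φ.emb_rf hb hg (by rw [e]; exact h2), inv_eq_of_mul_eq_one_left (D.rf_mul_self hb)⟩
  exact tl_of_cor (Ψ := {(D.wt b, D.cor b)}) (fun _ h => by rw [h, hx ⟨_, rt_mem hb⟩, e]; exact h1) (rfm_eq hb ▸ rfm_mem rfl)

/-- an integral eigenvector of the signed permutation lifts -/
theorem eig (hn : 2 ≤ n) (h : St D j B) (hτ : Tw Φ B τ) {w : D.W} {μ : ℤ} (hμ : μ * μ = 1)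
    (he : ¬ Eig (rts D) (D.Wm w * B) (μ : ℂ)) : NoE μ (Φ.emb w * τ) := fun v hv => by
  have h1 : v ᵥ* sm (Φ.emb w * τ) = μ • v := funext fun l => by rw [vec_sm, mul_comm, hv, Pi.smul_apply, smul_eq_mul]
  have h2 : sm (Φ.emb w * τ) *ᵥ v = μ • v := by
    have h2 := sm_back (Φ.emb w * τ) v
    rw [h1, mulVec_smul] at h2
    conv_rhs => rw [← h2, smul_smul, hμ, one_smul]
  obtain ⟨y, hy, h3, -⟩ := Φ.lift (two_mem hn v)
  have h4 : (D.Wm w * B) *ᵥ y = μ • y := Φ.P_ext (Submodule.sub_mem _ (Qv.nm (h.nm w) hy) (Submodule.smul_mem _ _ hy)) (by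
    rw [hτ.act, mulVec_smul, h3, mulVec_smul, mulVec_smul, h2, smul_comm μ, smul_comm μ])
  have h5 : Perp (rts D) y := fun a ha => by_contra fun h5 => he ⟨fun i => (y i : ℂ), funext fun i => ?_, a, ha, by
    rw [ev_int]
    exact Int.cast_ne_zero.2 h5⟩
  · rw [(Φ.perp y).1 h5, smul_smul] at h3
    exact (smul_eq_zero.1 h3.symm).resolve_left (by norm_num)
  · have h6 := congrArg (Int.cast : ℤ → ℂ) (congrFun h4 i)
    simpa [mulVec, dotProduct] using h6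

variable (Φ τ) in
/-- the multiplicities on the signed permutations -/
noncomputable def yy (z : D.W → ℤ) : SG n → ℤ := Function.extend (fun w => Φ.emb w * τ) z 0

variable (hτ : Tw Φ B τ) {z : D.W → ℤ}
include hτ

theorem yy_on (w : D.W) : yy Φ τ z (Φ.emb w * τ) = z w := hτ.inj.extend_apply _ _ w

omit hτ in
theorem yy_off {g : SG n} (h : ¬ ∃ w, Φ.emb w * τ = g) : yy Φ τ z g = 0 := Function.extend_apply' _ _ _ h

theorem yy_conj {v : D.W} (hz : ∀ w w', Tc D v w w' → z w = z w') (g : SG n) :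
    yy Φ τ z (Φ.emb v * g * (Φ.emb v)⁻¹) = yy Φ τ z g := by
  by_cases h : ∃ w, Φ.emb w * τ = g
  · obtain ⟨w, rfl⟩ := h
    rw [← hτ.tc_iff.1 (LV.Lab.tc_self' v w), yy_on hτ, yy_on hτ, hz _ _ (LV.Lab.tc_self' v w)]
  · rw [yy_off h, yy_off]
    rintro ⟨w, e⟩
    refine h ⟨v⁻¹ * w * D.Fw v, ?_⟩
    rw [hτ.tc_iff.1 (LV.Lab.tc_self v w), mul_left_inj, mul_right_inj] at e
    exact e

variable [Fintype ↥(GF F G)] {f : Fr D} {χ : ↥(GF F G) → ℂ}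

theorem levi (hn : 2 ≤ n) (h : St D j B) (hχ : IsIrrCharacter _ χ) (hx : Pat Φ c x) (hz : ∀ w, yv f χ c w = z w)
    {lam : Fin n → ℤ} {g : SG n} (hl : ∀ a ∈ std κ (b0 n), a.1 ⬝ᵥ lam = 0 → chr a.2 (sx x) = 1 ∧ a.1 ⬝ᵥ (lam ᵥ* sm g) = 0) :
    ((XC.Wl κ lam).card : ℤ) ∣ ∑ u ∈ XC.Wl κ lam, yy Φ τ z (u * g) := by
  classical
  obtain ⟨l, h1⟩ := lift4 Φ hn lam
  have := Fintype.ofFinite (Wl D l)
  have h2 : ∀ u, u ∈ Wl D l ↔ sm (Φ.emb u) *ᵥ lam = lam := fun u => (Φ.fix_iff u l).trans (by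
    rw [h1, mulVec_smul]
    exact (smul_right_injective _ (by norm_num : (4 : ℤ) ≠ 0)).eq_iff)
  have h3 : XC.Wl κ lam = Finset.univ.image fun u : Wl D l => Φ.emb u := Finset.ext fun u => by
    rw [mem_Wl, ← Φ.rng, Finset.mem_image]
    exact ⟨fun ⟨h3, w, e⟩ => ⟨⟨w, (h2 w).2 (e ▸ h3)⟩, Finset.mem_univ _, e⟩, fun ⟨w, _, e⟩ => ⟨e ▸ (h2 w).1 w.2, w, e⟩⟩
  have h4 : Function.Injective fun u : Wl D l => Φ.emb u := fun _ _ e => Subtype.ext (Φ.inj e)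
  rw [h3, Finset.sum_image h4.injOn, Finset.card_image_of_injective _ h4, Finset.card_univ, ← Nat.card_eq_fintype_card]
  by_cases h5 : ∀ u : Wl D l, yy Φ τ z (Φ.emb u * g) = 0
  · rw [Finset.sum_eq_zero fun u _ => h5 u]
    exact dvd_zero _
  obtain ⟨u, h6⟩ := not_forall.1 h5
  obtain ⟨w, h7⟩ : ∃ w, Φ.emb w * τ = Φ.emb u * g := by_contra fun e => h6 (yy_off e)
  have h8 : Fx D w c := by_contra fun e => h6 (by
    rw [← h7, yy_on hτ]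
    exact Int.cast_injective (α := ℂ) ((hz w).symm.trans ((LV.Lab.yv_zero f χ e).trans Int.cast_zero.symm)))
  have h9 : ∀ a : rts D, a.1.1 ⬝ᵥ l = 0 → (Φ.φ a).1.1 ⬝ᵥ lam = 0 := fun a e => by
    rw [Φ.dot_iff, h1, dotProduct_smul] at e
    exact (smul_eq_zero.1 e).resolve_left (by norm_num)
  obtain ⟨t, ht⟩ := levi_int f (lam := l) h (fun a ha => by
    obtain ⟨b, hb, h10, h11⟩ := h.nm w a ha.1
    obtain ⟨l', h12⟩ := lift4 Φ hn (lam ᵥ* sm g)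
    have h13 := (Φ.perp (l - (D.Wm w * B) *ᵥ l')).2 (by
      rw [mulVec_sub, hτ.act, h12, h1, h7, map_mul, mulVec_smul, ← mulVec_mulVec, sm_back, (h2 u).1 u.2, sub_self]) b hb
    refine ⟨b, ⟨hb, ?_⟩, h10, h11⟩
    rw [dotProduct_sub, dotProduct_mulVec, h11, sub_eq_zero] at h13
    rw [h13]
    refine (Φ.dot_iff ⟨a, ha.1⟩ l').2 ?_
    rw [h12, dotProduct_smul, (hl _ (Φ.φ ⟨a, ha.1⟩).2 (h9 ⟨a, ha.1⟩ ha.2)).2, smul_zero]) h8
    (fun a ha => (hx ⟨a, ha.1⟩).trans (hl _ (Φ.φ ⟨a, ha.1⟩).2 (h9 ⟨a, ha.1⟩ ha.2)).1) hχ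
  refine ⟨t, Int.cast_injective (α := ℂ) ?_⟩
  rw [Int.cast_mul, Int.cast_natCast, ← ht, finsum_eq_sum_of_fintype, Int.cast_sum,
    ← Equiv.sum_comp (Equiv.mulRight u) fun v : Wl D l => ((yy Φ τ z (Φ.emb v * g) : ℤ) : ℂ)]
  refine Finset.sum_congr rfl fun v _ => ?_
  rw [hz, ← yy_on hτ (z := z), map_mul, mul_assoc, h7, Equiv.coe_mulRight, Subgroup.coe_mul, map_mul, mul_assoc]

end Hyp

variable {p : ℕ} [Fact p.Prime] {k : Type} [Field k] [CharP k p] [IsAlgClosed k] {Y : Type} [Group Y] {N : Type}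
  [Fintype N] [DecidableEq N] {ρ : Y →* GL N k} {F : MulAut Y} {G : Subgroup Y} (D : Datum p ρ F G) [Fintype ↥(GF F G)]

open Hyp in
/-- **from the datum to the certificates** -/
theorem boxHyp : BoxHyp D := by
  intro j B h hz κ n hk Φ τ hτ f χ hχ c x hx hfx w hw S hS a b hb
  have hn : 2 ≤ n := by rcases hk with e | e | e <;> omega
  have := Fintype.ofFinite D.W
  choose z h1 using LV.Lab.yv_int f (OddOrderCharacters.VChar.gen_of_irr hχ) c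
  have h2 : ∀ g, Ws κ (b0 n) g → (∃ a ∈ std κ (b0 n), chr a.2 (sx x) = 1 ∧ rfm a = sm g) → ∀ g',
      yy Φ τ z (g * g' * g) = yy Φ τ z g' := fun g h2 h3 g' => by
    obtain ⟨v, h4, rfl, h5⟩ := ex_rel hx h2 h3
    have h6 := yy_conj hτ (z := z) (v := v) (fun w w' e => Int.cast_injective (α := ℂ) (by
      rw [← h1, ← h1, LV.Lab.yv_conj f χ e h4])) g'
    rwa [← map_inv, h5] at h6
  have h3 := hb (yy Φ τ z) ⟨fun i l e h3 h4 => h2 _ (ws_sw h3 e) (ex_sw h3 e h4),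
    fun i h3 => h2 _ (ws_tt (ex_tt h3).1 i) (ex_tt h3).2, fun g h3 => by
      obtain ⟨w, rfl⟩ : ∃ w, Φ.emb w * τ = g := by_contra fun e => h3 (yy_off e)
      have h4 : Has f χ w c := fun e => h3 ((yy_on hτ w).trans (Int.cast_injective (α := ℂ)
        ((h1 w).symm.trans (e.trans Int.cast_zero.symm))))
      exact ⟨hfx w h4.fx, fun μ hμ => eig hn h hτ (hS μ hμ).1 ((hS μ hμ).2 w h4)⟩,
    fun lam g h3 h4 h5 => levi hτ hn h hχ hx h1 fun a => levi_rt h3 h4 h5⟩ fun e => hw ((h1 w).trans (by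
      rw [← yy_on hτ (z := z), e, Pi.zero_apply, Int.cast_zero]))
  have h4 : ∑ u, ‖yv f χ c u‖ ^ 2 = ((∑ g, yy Φ τ z g ^ 2 : ℤ) : ℝ) := by
    rw [← Fintype.sum_of_injective _ hτ.inj (fun u => z u ^ 2) _ (fun g hg => by rw [yy_off hg, zero_pow two_ne_zero])
      fun u => by rw [yy_on hτ], Int.cast_sum]
    exact Finset.sum_congr rfl fun u _ => by rw [h1, Complex.norm_intCast, sq_abs, Int.cast_pow]
  have h5 : (0 : ℝ) < Nat.card (LV.Lab.St D c) := Nat.cast_pos.2 Nat.card_pos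
  rw [LV.Lab.nr_eq, mul_left_comm, le_inv_mul_iff₀ h5, h4, mul_comm]
  refine (mul_le_mul_of_nonneg_left (Nat.cast_le.2 (card_le hz hw.fo hx)) (Nat.cast_nonneg a)).trans ?_
  exact_mod_cast h3

end Cfsg.Agent.HZ.L.X
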