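import Cfsg.Agent.HZ.L.X.FrB0

/-!
# HZ/L/X : `boxFrB` (helper25)
-/

set_option autoImplicit false
set_option linter.unusedSectionVars false

namespace Cfsg.Agent.HZ.L.X

open Cfsg Cfsg.Agent.DL Cfsg.Agent.DL.PP Matrix Cfsg.Agent.KZ.Lie
open Cfsg.Agent.LV.Cl (SG sm)

namespace FrB

theorem nm_inv {R : Type} [Fintype R] [DecidableEq R] {Ψ : RS R} {B : Mat R} (h : Nm B Ψ) {m : ℕ} (hm : 0 < m) (e : B ^ m = 1) :
    ∀ b ∈ Ψ, ∃ a ∈ Ψ, b.1 ᵥ* B = a.1 := fun b hb => by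
  have h1 : ∀ l : ℕ, ∃ a ∈ Ψ, a.1 ᵥ* B ^ l = b.1 := fun l => by
    induction l with
    | zero => exact ⟨b, hb, by rw [pow_zero, vecMul_one]⟩
    | succ l ih =>
      obtain ⟨a, ha, h1⟩ := ih
      obtain ⟨c, hc, -, h2⟩ := h a ha
      exact ⟨c, hc, by rw [pow_succ', ← vecMul_vecMul, h2, h1]⟩
  obtain ⟨a, ha, h2⟩ := h1 (m - 1)
  exact ⟨a, ha, by rw [← h2, vecMul_vecMul, ← pow_succ, Nat.sub_add_cancel hm, e, vecMul_one]⟩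

variable {p : ℕ} [Fact p.Prime] {k : Type} [Field k] [CharP k p] [IsAlgClosed k] {Y : Type} [Group Y] {N : Type}
  [Fintype N] [DecidableEq N] {ρ : Y →* GL N k} {F : MulAut Y} {G : Subgroup Y} {D : Datum p ρ F G}
  {κ : Kd} {n j : ℕ} {B : Mat D.R}

theorem col (Φ : Fw D κ (b0 n) 2) {r : Vec (Fin n) × Vec (Fin n)} (hr : r ∈ std κ (b0 n)) :
    Φ.P *ᵥ (Φ.φ.symm ⟨r, hr⟩).1.2 = (2 : ℤ) • r.2 := by rw [Φ.h2, Equiv.apply_symm_apply]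

theorem row (Φ : Fw D κ (b0 n) 2) {r : Vec (Fin n) × Vec (Fin n)} (hr : r ∈ std κ (b0 n)) :
    r.1 ᵥ* Φ.P = (2 : ℤ) • (Φ.φ.symm ⟨r, hr⟩).1.1 := by rw [← Φ.h1, Equiv.apply_symm_apply]

theorem exists_T (Φ : Fw D κ (b0 n) 2) (hn : 2 ≤ n) (h : St D j B) : ∃ (E : Matrix D.R (Fin n) ℤ) (T : Matrix (Fin n) (Fin n) ℤ),
    Φ.P * E = (4 : ℤ) • (1 : Matrix (Fin n) (Fin n) ℤ) ∧ T * Φ.P = (2 : ℤ) • (Φ.P * B) := by
  have : Nontrivial (Fin n) := Fin.nontrivial_iff_two_le.2 hn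
  have h1 : ∀ i, ∃ (E : Vec D.R) (c : Vec (Fin n)), Φ.P *ᵥ E = (4 : ℤ) • e i ∧ Φ.P *ᵥ (B *ᵥ E) = (2 : ℤ) • c := fun i => by
    obtain ⟨l, hl⟩ := exists_ne i
    obtain ⟨b, hb, h1, -⟩ := h.nm' _ (Φ.φ.symm ⟨_, mem_sub hl.symm⟩).2
    obtain ⟨b', hb', h2, -⟩ := h.nm' _ (Φ.φ.symm ⟨_, mem_add hl.symm⟩).2
    refine ⟨(Φ.φ.symm ⟨_, mem_sub hl.symm⟩).1.2 + (Φ.φ.symm ⟨_, mem_add hl.symm⟩).1.2,
      (Φ.φ ⟨b, hb⟩).1.2 + (Φ.φ ⟨b', hb'⟩).1.2, ?_, ?_⟩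
    · rw [mulVec_add, col, col]
      module
    · rw [mulVec_add, h1, h2, mulVec_add, Φ.h2 ⟨b, hb⟩, Φ.h2 ⟨b', hb'⟩, smul_add]
  choose E c h1 h2 using h1
  have h3 : Φ.P * (of E)ᵀ = (4 : ℤ) • (1 : Matrix (Fin n) (Fin n) ℤ) := Matrix.ext fun i l =>
    (congrFun (h1 l) i).trans (by simp [one_apply, Pi.single_apply])
  have h4 : Φ.P * B * (of E)ᵀ = (2 : ℤ) • (of c)ᵀ := Matrix.ext fun i l => by
    have h4 := congrFun (h2 l) i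
    rwa [mulVec_mulVec] at h4
  obtain ⟨m, hm, h5⟩ := h.fin
  refine ⟨_, (of c)ᵀ, h3, ext_iff_mulVec.2 fun v => two_inj ?_⟩
  have h6 : Perp (rts D) ((4 : ℤ) • v - (of E)ᵀ *ᵥ (Φ.P *ᵥ v)) := (Φ.perp _).2 (by
    rw [mulVec_sub, mulVec_smul, mulVec_mulVec, h3, smul_mulVec, one_mulVec, sub_self])
  have h7 := (Φ.perp (B *ᵥ _)).1 fun b hb => by
    obtain ⟨a, ha, h7⟩ := nm_inv h.nm' hm h5 b hb
    rw [dotProduct_mulVec, h7, h6 a ha]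
  rw [mulVec_mulVec, mulVec_sub, mulVec_smul, mulVec_mulVec, h4, sub_eq_zero, smul_mulVec, mulVec_mulVec] at h7
  rw [← h7, smul_mulVec, smul_smul]
  rfl

theorem cancel (Φ : Fw D κ (b0 n) 2) {E : Matrix D.R (Fin n) ℤ} (hE : Φ.P * E = (4 : ℤ) • (1 : Matrix (Fin n) (Fin n) ℤ))
    {ι : Type} {X X' : Matrix ι (Fin n) ℤ} (h : X * Φ.P = X' * Φ.P) : X = X' := by
  have h1 := congrArg (· * E) h
  simp only [Matrix.mul_assoc, hE, Matrix.mul_smul, Matrix.mul_one] at h1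
  exact Matrix.ext fun i l => mul_left_cancel₀ (by decide : (4 : ℤ) ≠ 0) (congrFun (congrFun h1 i) l)

theorem hf (Φ : Fw D κ (b0 n) 2) (h : St D j B) {E : Matrix D.R (Fin n) ℤ} {T : Matrix (Fin n) (Fin n) ℤ}
    (hE : Φ.P * E = (4 : ℤ) • (1 : Matrix (Fin n) (Fin n) ℤ)) (hT : T * Φ.P = (2 : ℤ) • (Φ.P * B)) : Hf κ T := fun r hr => by
  obtain ⟨b, hb, h1, h2⟩ := h.nm' _ (Φ.φ.symm ⟨r, hr⟩).2
  refine ⟨_, (Φ.φ ⟨b, hb⟩).2, two_inj ?_, ?_⟩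
  · rw [← mulVec_smul, ← col Φ hr, mulVec_mulVec, hT, smul_mulVec, ← mulVec_mulVec, h1, Φ.h2 ⟨b, hb⟩]
  · have h3 : ((Φ.φ ⟨b, hb⟩).1.1 ᵥ* T) ᵥ* Φ.P = ((2 : ℤ) • r.1) ᵥ* Φ.P := by
      rw [vecMul_vecMul, hT, vecMul_smul, ← vecMul_vecMul, Φ.h1, smul_vecMul, h2, smul_vecMul, row Φ hr]
    have h4 := congrArg (· ᵥ* E) h3
    simp only [vecMul_vecMul, Matrix.mul_assoc _ Φ.P, hE, Matrix.mul_smul, Matrix.mul_one, vecMul_smul,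
      vecMul_one] at h4
    exact smul_right_injective _ (by decide) h4

theorem tw (Φ : Fw D κ (b0 n) 2) (h : St D j B) {E : Matrix D.R (Fin n) ℤ}
    (hE : Φ.P * E = (4 : ℤ) • (1 : Matrix (Fin n) (Fin n) ℤ)) {τ : SG n} (hτ : Φ.P * B = sm τ * Φ.P) : Tw Φ B τ := by
  refine ⟨hτ, fun v => eq_mul_inv_of_mul_eq (sm_inj (cancel Φ hE ?_))⟩
  have h1 : B * D.Wm v = D.Wm (D.Fw v) * B := smul_right_injective _ h.q_ne (by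
    show ((p : ℤ) ^ j) • _ = ((p : ℤ) ^ j) • _
    rw [← smul_mul_assoc, ← h.mx, D.Mx_Wm, h.mx, mul_smul_comm])
  rw [map_mul, map_mul, Matrix.mul_assoc, Matrix.mul_assoc, ← hτ, ← Φ.hW, ← Matrix.mul_assoc, ← Φ.hW, ← Matrix.mul_assoc, ← hτ,
    Matrix.mul_assoc, Matrix.mul_assoc, h1]

theorem main (Φ : Fw D κ (b0 n) 2) (hn : 2 ≤ n) (h : St D j B) : (∃ τ, Tw Φ B τ) ∨ n = 4 ∧
    ∃ (E : Matrix D.R (Fin n) ℤ) (T : Matrix (Fin n) (Fin n) ℤ), Φ.P * E = (4 : ℤ) • (1 : Matrix (Fin n) (Fin n) ℤ) ∧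
      T * Φ.P = (2 : ℤ) • (Φ.P * B) ∧ (∀ i l, T i l * T i l = 1) ∧ T * Tᵀ = (4 : ℤ) • (1 : Matrix (Fin n) (Fin n) ℤ) := by
  obtain ⟨E, T, hE, hT⟩ := exists_T Φ hn h
  rcases (hf Φ h hE hT).dich hn with ⟨τ, rfl⟩ | ⟨h1, h2⟩
  · rw [Matrix.smul_mul] at hT
    exact .inl ⟨τ, tw Φ h hE (smul_right_injective _ two_ne_zero hT).symm⟩
  · exact .inr ⟨h1, E, T, hE, hT, h2, orth' (by decide) ((hf Φ h hE hT).orth hn)⟩

/-- the frame is changed by a triality -/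
theorem move (hF : BoxFw D) (Φ : Fw D .D (b0 4) 2) (h : St D j B) {E : Matrix D.R (Fin 4) ℤ} {T H : Matrix (Fin 4) (Fin 4) ℤ}
    (hE : Φ.P * E = (4 : ℤ) • (1 : Matrix (Fin 4) (Fin 4) ℤ)) (hT : T * Φ.P = (2 : ℤ) • (Φ.P * B)) (hH : Tr H)
    (h8 : 8 ∣ (H * T * H) 0 0) : ∃ (Φ' : Fw D .D (b0 4) 2) (τ : SG 4), Tw Φ' B τ := by
  obtain ⟨η, h1, h2⟩ := hH.perm
  obtain ⟨Φ', h3⟩ := hF.two .D 4 (Φ.φ.trans η) (by decide) fun a b => (h2 _ _).trans (Φ.car a b)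
  refine ⟨Φ', (main Φ' (by decide) h).resolve_right fun ⟨_, _, T', _, hT', h4, _⟩ => ?_⟩
  have h5 : ∀ r ∈ std .D (b0 4), r.1 ᵥ* (H * Φ.P - (2 : ℤ) • Φ'.P) = 0 := fun r hr => by
    obtain ⟨a, ha⟩ := Φ'.φ.surjective ⟨r, hr⟩
    rw [show r = (Φ'.φ a).1 from congrArg Subtype.val ha.symm, vecMul_sub, vecMul_smul, Φ'.h1, h3, ← vecMul_vecMul,
      Equiv.trans_apply, h1, smul_vecMul, Φ.h1, sub_self]
  have h6 : H * Φ.P = (2 : ℤ) • Φ'.P := sub_eq_zero.1 (Matrix.ext fun i l => by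
    obtain ⟨i', hi⟩ := exists_ne i
    have h6 := congrFun (h5 _ (mem_sub hi.symm)) l
    have h7 := congrFun (h5 _ (mem_add hi.symm)) l
    generalize H * Φ.P - (2 : ℤ) • Φ'.P = X at *
    simp [sub_vecMul, add_vecMul] at h6 h7 ⊢
    omega)
  have h7 : T' * H = H * T := cancel Φ hE (by
    rw [Matrix.mul_assoc, h6, Matrix.mul_smul, hT', Matrix.mul_assoc, hT, Matrix.mul_smul, ← Matrix.mul_assoc, h6, Matrix.smul_mul])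
  rw [← h7, Matrix.mul_assoc, hH.2.1, Matrix.mul_smul, Matrix.mul_one, Matrix.smul_apply, smul_eq_mul] at h8
  have h9 := mul_self_eq_one_iff.1 (h4 0 0)
  omega

theorem cyc (Φ : Fw D .D (b0 4) 2) {T : Matrix (Fin 4) (Fin 4) ℤ} (hT : T * Φ.P = (2 : ℤ) • (Φ.P * B))
    (h : ∀ l, (∀ i, 8 ∣ NK T i l) ∧ 16 ∣ ∑ i, NK T i l) : Cyc Φ B := fun v => by
  have h1 : ∀ i, i ≠ 0 → ∃ t, (Φ.P *ᵥ v) i - (Φ.P *ᵥ v) 0 = 2 * t := fun i hi => by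
    have h1 := congrArg (· ⬝ᵥ v) (row Φ (mem_sub hi))
    simp only [← dotProduct_mulVec, sub_dotProduct, single_dotProduct, one_mul, smul_dotProduct, smul_eq_mul] at h1
    exact ⟨_, h1⟩
  obtain ⟨t, ht⟩ : ∃ t, Φ.P *ᵥ v = Kb *ᵥ t := by
    obtain ⟨a, ha⟩ := h1 1 (by decide)
    obtain ⟨b, hb⟩ := h1 2 (by decide)
    obtain ⟨c, hc⟩ := h1 3 (by decide)
    refine ⟨![(Φ.P *ᵥ v) 0, a, b, c], funext fun i => ?_⟩
    generalize Φ.P *ᵥ v = x at *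
    fin_cases i <;> simp [Kb, mulVec, dotProduct, Fin.sum_univ_four] <;> omega
  have h2 : ∀ u, T *ᵥ (Φ.P *ᵥ u) = (2 : ℤ) • Φ.P *ᵥ (B *ᵥ u) := fun u => by rw [mulVec_mulVec, hT, smul_mulVec, mulVec_mulVec]
  have h3 : NK T *ᵥ t = (4 : ℤ) • Φ.P *ᵥ (v + B *ᵥ v + B *ᵥ (B *ᵥ v)) := by
    simp only [NK, add_mulVec, smul_mulVec, ← mulVec_mulVec, ← ht, h2, mulVec_smul, mulVec_add]
    module
  have h4 : ∀ i, 8 ∣ (NK T *ᵥ t) i := fun i => by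
    simp only [mulVec, dotProduct]
    exact Finset.dvd_sum fun l _ => ((h l).1 i).mul_right _
  have h5 : 16 ∣ ∑ i, (NK T *ᵥ t) i := by
    simp only [mulVec, dotProduct]
    rw [Finset.sum_comm]
    exact Finset.dvd_sum fun l _ => by rw [← Finset.sum_mul]; exact (h l).2.mul_right _
  rw [h3] at h4 h5
  generalize Φ.P *ᵥ (v + B *ᵥ v + B *ᵥ (B *ᵥ v)) = u at *
  simp only [Pi.smul_apply, smul_eq_mul, Fin.sum_univ_four] at h4 h5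
  refine ⟨fun i => u i / 2, ?_, funext fun i => ?_⟩
  · have := h4 0; have := h4 1; have := h4 2; have := h4 3
    rw [Fin.sum_univ_four, Int.even_iff]
    omega
  · have := h4 i
    simp only [Pi.smul_apply, smul_eq_mul]
    omega

end FrB

open FrB

variable {p : ℕ} [Fact p.Prime] {k : Type} [Field k] [CharP k p] [IsAlgClosed k] {Y : Type} [Group Y] {N : Type}
  [Fintype N] [DecidableEq N] {ρ : Y →* GL N k} {F : MulAut Y} {G : Subgroup Y} {D : Datum p ρ F G}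

theorem boxFrB (hF : BoxFw D) : BoxFrB D := by
  rintro j B h ⟨κ, n, hr, φ, hφ⟩
  have hn : 2 ≤ n := by rcases hr with ⟨-, h1⟩ | ⟨-, h1⟩ | ⟨-, h1⟩ <;> omega
  obtain ⟨Φ, -⟩ := hF.two κ n φ hn hφ
  rcases main Φ hn h with h1 | ⟨rfl, E, T, hE, hT, h1, h2⟩
  · exact .inl ⟨κ, n, hr, Φ, h1⟩
  · obtain rfl : κ = .D := by rcases hr with ⟨h3, -⟩ | ⟨-, h3⟩ | ⟨-, h3⟩ <;> [exact h3; omega; omega]
    rcases chk h1 h2 with h3 | h3 | h3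
    exacts [.inl ⟨_, _, hr, move hF Φ h hE hT tr1 h3⟩, .inl ⟨_, _, hr, move hF Φ h hE hT tr2 h3⟩, .inr ⟨Φ, cyc Φ hT h3⟩]

end Cfsg.Agent.HZ.L.X
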