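import Cfsg.Agent.HZ.L.X.Defs

/-!
# HZ/L, the exact system: isolated labels of one component are colourings (helper67)
-/

set_option autoImplicit false
set_option linter.unusedSectionVars false

namespace Cfsg.Agent.HZ.L.X.PatB

open Cfsg Cfsg.Agent.DL Cfsg.Agent.DL.PP Matrix Cfsg.Agent.KZ.Lie

section pure

variable {n : ℕ} {κ : Kd}

theorem chr_sg (i : Fin n) (a : ℤ) (y : Fin n → ℂˣ) : chr (Pi.single i a) y = y i ^ a := by
  rw [show (Pi.single i a : Fin n → ℤ) = a • Pi.single i 1 by rw [← Pi.single_smul, smul_eq_mul, mul_one], chr_zsmul,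
    chr_single]

theorem zpow_unit {t : ℂˣ} (s : ℤˣ) (h : t ^ (s : ℤ) = 1) : t = 1 := by
  rcases Int.units_eq_one_or s with rfl | rfl <;> simpa using h

theorem std_two {blk : Fin n → ℕ} {r : Vec (Fin n) × Vec (Fin n)} (h : r ∈ std κ blk) : r.1 ⬝ᵥ r.2 = 2 := by
  rcases h with ⟨i, j, h, -, rfl⟩ | ⟨i, j, s, h, -, -, rfl⟩ | ⟨i, s, -, ⟨-, rfl⟩ | ⟨-, rfl⟩⟩
  · simp [h, h.symm]
  · rcases Int.units_eq_one_or s with rfl | rfl <;> simp [h, h.symm]
  · rcases Int.units_eq_one_or s with rfl | rfl <;> simp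
  · rcases Int.units_eq_one_or s with rfl | rfl <;> simp

theorem kill {y : Fin n → ℂˣ} {z : Fin n → ℤ} (h1 : ∀ i j, i ≠ j → y i = y j → z i = z j)
    (h2 : ∀ i j, i ≠ j → y i * y j = 1 → z i + z j = 0) (h3 : κ = .B → ∀ i, y i ^ 2 = 1 → z i = 0)
    (h4 : κ = .C → ∀ i, y i = 1 → z i = 0) : ∀ r ∈ std κ (b0 n), chr r.2 y = 1 → r.1 ⬝ᵥ z = 0 := by
  rintro r (⟨i, j, h, -, rfl⟩ | ⟨i, j, s, h, -, -, rfl⟩ | ⟨i, s, -, ⟨h, rfl⟩ | ⟨h, rfl⟩⟩) e
  · simp only [chr_sub, chr_sg, zpow_one, mul_inv_eq_one] at e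
    simp [h1 i j h e]
  · simp only [chr_add, chr_sg, ← mul_zpow] at e
    simp only [add_dotProduct, single_dotProduct, ← mul_add, h2 i j h (zpow_unit s e), mul_zero]
  · simp only [chr_sg, _root_.zpow_mul] at e
    simp only [single_dotProduct, h3 h i (by simpa only [zpow_ofNat] using zpow_unit s e), mul_zero]
  · simp only [chr_sg] at e
    simp only [single_dotProduct, h4 h i (zpow_unit s e), mul_zero]

theorem colour {y : Fin n → ℂˣ} (h : ∀ z : Fin n → ℤ, (∀ r ∈ std κ (b0 n), chr r.2 y = 1 → r.1 ⬝ᵥ z = 0) → z = 0) :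
    ∃ x, y = sx x ∧ Ok κ x := by
  classical
  have h1 : ∀ i, y i * y i = 1 := fun i₀ => by
    by_contra hc
    let g : ℂˣ → ℤ := fun t => if t = y i₀ then 1 else if t * y i₀ = 1 then -1 else 0
    have g1 : ∀ t, t * t = 1 → g t = 0 := fun t ht => by
      have a1 : t ≠ y i₀ := fun e => hc (e ▸ ht)
      have a2 : t * y i₀ ≠ 1 := fun e => a1 (mul_left_cancel (ht.trans e.symm))
      simp only [g, if_neg a1, if_neg a2]
    have g2 : ∀ t u, t * u = 1 → g t + g u = 0 := fun t u e => by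
      obtain rfl : u = t⁻¹ := eq_inv_of_mul_eq_one_right e
      have a1 : t⁻¹ = y i₀ ↔ t * y i₀ = 1 := by rw [mul_eq_one_iff_inv_eq]
      have a2 : t⁻¹ * y i₀ = 1 ↔ t = y i₀ := by rw [inv_mul_eq_one]
      simp only [g, a1, a2]
      split_ifs with b1 b2 <;> first | rfl | exact absurd (b1 ▸ b2) hc
    have h2 := congrFun (h (fun i => g (y i)) (kill (fun i j _ e => by rw [e]) (fun i j _ e => g2 _ _ e)
      (fun _ i e => g1 _ (by rw [← sq, e])) fun _ i e => g1 _ (by rw [e, one_mul]))) i₀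
    simp [g] at h2
  have h2 : ∀ i, y i = 1 ∨ y i = -1 := fun i => by
    have h3 := mul_self_eq_one_iff.1 (show (y i : ℂ) * y i = 1 by rw [← Units.val_mul, h1, Units.val_one])
    exact h3.imp (fun e => Units.ext e) fun e => Units.ext e
  have h0 : (1 : ℂˣ) ≠ -1 := fun e => by
    have := congrArg Units.val e
    norm_num at this
  have h3 : ∀ i₀, (∀ i, y i = y i₀ → i = i₀) → κ ≠ .B → (κ = .C → y i₀ ≠ 1) → False := fun i₀ hi hB hC => by
    have a1 : ∀ i j, i ≠ j → y i = y j → i ≠ i₀ ∧ j ≠ i₀ := fun i j hij e =>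
      ⟨fun e' => hij (e'.trans (hi j (e' ▸ e.symm)).symm), fun e' => hij ((hi i (e' ▸ e)).trans e'.symm)⟩
    have h4 := congrFun (h (Pi.single i₀ 1) (kill (fun i j hij e => by simp [(a1 i j hij e).1, (a1 i j hij e).2])
      (fun i j hij e => by
        have e' : y i = y j := mul_right_cancel (e.trans (h1 j).symm)
        simp [(a1 i j hij e').1, (a1 i j hij e').2]) (fun e => absurd e hB) fun e i e' => by
        have : i ≠ i₀ := fun e'' => hC e (e'' ▸ e')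
        simp [this])) i₀
    simp at h4
  refine ⟨fun i => decide (y i = 1), funext fun i => ?_, fun hD e => ?_, fun hB e => ?_⟩
  · rcases h2 i with e | e <;> simp [sx, e, h0.symm]
  · obtain ⟨i₀, e⟩ := Finset.card_eq_one.1 e
    have a1 : ∀ i, y i = 1 ↔ i = i₀ := fun i => by simpa using Finset.ext_iff.1 e i
    exact h3 i₀ (fun i e' => (a1 i).1 (e'.trans ((a1 i₀).2 rfl))) (by rw [hD]; exact Kd.noConfusion)
      fun e' => by rw [hD] at e'; cases e'
  · obtain ⟨i₀, e⟩ := Finset.card_eq_one.1 e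
    have a1 : ∀ i, ¬ y i = 1 ↔ i = i₀ := fun i => by simpa using Finset.ext_iff.1 e i
    exact h3 i₀ (fun i e' => (a1 i).1 (e' ▸ (a1 i₀).2 rfl)) hB fun _ => (a1 i₀).2 rfl

end pure

variable {p : ℕ} [Fact p.Prime] {k : Type} [Field k] [CharP k p] [IsAlgClosed k] {Y : Type} [Group Y] {N : Type}
  [Fintype N] [DecidableEq N] {ρ : Y →* GL N k} {F : MulAut Y} {G : Subgroup Y} {D : Datum p ρ F G}
  {κ : Kd} {n : ℕ} {blk : Fin n → ℕ} {m : ℤ}

/-- a central element of the coroot lattice is zero -/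
theorem eq_zero (Φ : Fw D κ blk m) {v : Vec D.R} (hv : v ∈ AddSubgroup.closure (Prod.snd '' rts D))
    (h : Perp (rts D) v) : v = 0 := by
  have := D.fW
  have := Fintype.ofFinite D.W
  have h1 : ∑ w, D.Wm w *ᵥ v = 0 := by
    clear h
    induction hv using AddSubgroup.closure_induction with
    | mem x hx =>
      obtain ⟨a, ha, rfl⟩ := hx
      have h2 : a.1 ⬝ᵥ a.2 = 2 := (Φ.car ⟨a, ha⟩ ⟨a, ha⟩).symm.trans (std_two (Φ.φ ⟨a, ha⟩).2)
      obtain ⟨u, hu⟩ := mem_WW.1 (rfm_mem ha)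
      have h3 : D.Wm u *ᵥ a.2 = -a.2 := by
        rw [hu, rfm, sub_mulVec, one_mulVec, vecMulVec_mulVec, h2]
        funext i
        simp
        ring
      have h4 : ∑ w, D.Wm w *ᵥ a.2 = -∑ w, D.Wm w *ᵥ a.2 := by
        rw [← Finset.sum_neg_distrib]
        refine (Fintype.sum_equiv (Equiv.mulRight u) _ _ fun w => ?_).symm
        rw [Equiv.coe_mulRight, D.Wm_mul, ← mulVec_mulVec, h3, mulVec_neg]
      funext i
      have h5 := congrFun h4 i
      simp only [Pi.neg_apply, Pi.zero_apply] at h5 ⊢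
      omega
    | zero => simp
    | add x y _ _ hx hy => simp only [mulVec_add, Finset.sum_add_distrib, hx, hy, add_zero]
    | neg x _ hx => simp only [mulVec_neg, Finset.sum_neg_distrib, hx, neg_zero]
  simp only [h.fix (Wm_mem _), Finset.sum_const, Finset.card_univ] at h1
  exact (smul_eq_zero.1 h1).resolve_left Fintype.card_ne_zero

/-- a label in the coordinates of the frame -/
theorem exists_y (Φ : Fw D κ blk m) (c : Lbl D) : ∃ y : Fin n → ℂˣ, ∀ a : rts D, chr a.1.2 c = chr (Φ.φ a).1.2 y := by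
  let : DivisibleBy (Additive ℂˣ) ℤ := divisibleByOfSMulRightSurj _ _ fun h a => exists_zpow_eq h a.toMul
  let g : Vec D.R →+ Additive ℂˣ := AddMonoidHom.mk' (fun v => Additive.ofMul (chr v c)) fun v w => by
    rw [chr_add, ofMul_mul]
  obtain ⟨J, hJ⟩ := (Module.Baer.of_divisible (Additive ℂˣ)).extension_property_addMonoidHom
    ((Φ.P.mulVecLin.toAddMonoidHom).comp (AddSubgroup.closure (Prod.snd '' rts D)).subtype)
    ((injective_iff_map_eq_zero _).2 fun v hv => Subtype.ext (eq_zero Φ v.2 ((Φ.perp _).2 hv)))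
    (g.comp (AddSubgroup.closure (Prod.snd '' rts D)).subtype)
  refine ⟨fun i => (J (Pi.single i m)).toMul, fun a => ?_⟩
  have h1 : J (Φ.P *ᵥ a.1.2) = Additive.ofMul (chr a.1.2 c) :=
    DFunLike.congr_fun hJ ⟨a.1.2, AddSubgroup.subset_closure ⟨a.1, a.2, rfl⟩⟩
  have h2 : Φ.P *ᵥ a.1.2 = ∑ i, (Φ.φ a).1.2 i • Pi.single i m := by
    rw [Φ.h2]
    funext j
    simp [Finset.sum_apply, Pi.single_apply, mul_comm]
  rw [h2, map_sum] at h1
  rw [chr_apply (Φ.φ a).1.2, ← toMul_ofMul (chr a.1.2 c), ← h1, toMul_sum]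
  simp only [map_zsmul, toMul_zsmul]

theorem exists_lam (Φ : Fw D κ (b0 n) m) (hn : 2 ≤ n) (z : Fin n → ℤ) : ∃ lam, Φ.P *ᵥ lam = (2 * m) • z := by
  have h1 : ∀ i : Fin n, ∃ v, Φ.P *ᵥ v = Pi.single i (2 * m) := fun i => by
    have : Nontrivial (Fin n) := Fin.nontrivial_iff_two_le.2 hn
    obtain ⟨j, hj⟩ := exists_ne i
    obtain ⟨a, ha⟩ := Φ.φ.surjective ⟨_, .inl ⟨i, j, hj.symm, rfl, rfl⟩⟩
    obtain ⟨b, hb⟩ := Φ.φ.surjective ⟨_, .inr (.inl ⟨i, j, 1, hj.symm, rfl, rfl, rfl⟩)⟩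
    refine ⟨a.1.2 + b.1.2, ?_⟩
    rw [mulVec_add, Φ.h2, Φ.h2, ha, hb]
    funext t
    simp only [Pi.add_apply, Pi.smul_apply, Pi.sub_apply, Pi.single_apply, smul_eq_mul, Units.val_one]
    split_ifs <;> ring
  choose v hv using h1
  refine ⟨∑ i, z i • v i, ?_⟩
  simp only [mulVec_sum, mulVec_smul, hv]
  funext j
  simp [Finset.sum_apply, Pi.single_apply, mul_comm]

end Cfsg.Agent.HZ.L.X.PatB

namespace Cfsg.Agent.HZ.L.X

open Cfsg Cfsg.Agent.DL Cfsg.Agent.DL.PP Matrix Cfsg.Agent.KZ.Lie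

variable {p : ℕ} [Fact p.Prime] {k : Type} [Field k] [CharP k p] [IsAlgClosed k] {Y : Type} [Group Y] {N : Type}
  [Fintype N] [DecidableEq N] {ρ : Y →* GL N k} {F : MulAut Y} {G : Subgroup Y} (D : Datum p ρ F G)

/-- **isolated labels are colourings** -/
theorem pat : ∀ κ n, Rk κ n → ∀ (Φ : Fw D κ (b0 n) 2) c, Isol (rts D) c → ∃ x, Pat Φ c x ∧ Ok κ x := by
  intro κ n hn Φ c hc
  obtain ⟨y, hy⟩ := PatB.exists_y Φ c
  obtain ⟨x, rfl, hx⟩ := PatB.colour (κ := κ) (y := y) fun z hz => by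
    obtain ⟨lam, hl⟩ := PatB.exists_lam Φ (by rcases hn with h | h | h <;> omega) z
    have h1 := (Φ.perp lam).1 (hc lam fun a ha => by
      have h2 := hz _ (Φ.φ ⟨a, ha.1⟩).2 ((hy ⟨a, ha.1⟩).symm.trans ha.2)
      have h3 := congrArg (· ⬝ᵥ lam) (Φ.h1 ⟨a, ha.1⟩)
      simp only [← dotProduct_mulVec, hl, dotProduct_smul, h2, smul_dotProduct, smul_eq_mul] at h3
      omega)
    rw [hl] at h1
    exact (smul_eq_zero.1 h1).resolve_left (by norm_num)
  exact ⟨x, hy, hx⟩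

end Cfsg.Agent.HZ.L.X
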