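import Cfsg.Agent.HZ.L.X.Lab
import Cfsg.Agent.HZ.L.X.Pat

/-!
# HZ/L, the exact system: the box of the labels (helper36)
-/

set_option autoImplicit false

namespace Cfsg.Agent.HZ.L.X

open Cfsg Cfsg.Agent.DL

variable {p : ℕ} [Fact p.Prime] {k : Type} [Field k] [CharP k p] [IsAlgClosed k] {Y : Type} [Group Y] {N : Type}
  [Fintype N] [DecidableEq N] {ρ : Y →* GL N k} {F : MulAut Y} {G : Subgroup Y} (D : Datum p ρ F G)

/-- **the labels for one component** -/
theorem boxLab : BoxLab D := ⟨pat D, two D⟩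

end Cfsg.Agent.HZ.L.X
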