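import Cfsg.Agent.HZ.L.X.NormA

/-!
# HZ/L/X, normal form of the exact types (helper55)
-/

set_option autoImplicit false
set_option linter.unusedSectionVars false
set_option synthInstance.maxSize 4096

namespace Cfsg.Agent.HZ.L.X

namespace Norm

open Matrix Set

variable {R R' : Type} [Fintype R] [DecidableEq R] [Fintype R'] [DecidableEq R']

/-- the root does not lie in a component of type `A` -/
def Pr (Ψ : RS R) (a : Vec R × Vec R) : Prop :=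
  (∃ b ∈ Ψ, a.1 ⬝ᵥ b.2 ≠ b.1 ⬝ᵥ a.2) ∨ ∃ b₁ ∈ Ψ, ∃ b₂ ∈ Ψ, ∃ b₃ ∈ Ψ, b₁.1 ⬝ᵥ b₂.2 = 0 ∧ b₁.1 ⬝ᵥ b₃.2 = 0 ∧
    b₂.1 ⬝ᵥ b₃.2 = 0 ∧ a.1 ⬝ᵥ b₁.2 ≠ 0 ∧ a.1 ⬝ᵥ b₂.2 ≠ 0 ∧ a.1 ⬝ᵥ b₃.2 ≠ 0

theorem Pr.map {Ψ : RS R} {Ψ' : RS R'} {f : Vec R × Vec R → Vec R' × Vec R'} (hf : MapsTo f Ψ Ψ') (cf : Ca f Ψ)
    {a : Vec R × Vec R} (ha : a ∈ Ψ) (h : Pr Ψ a) : Pr Ψ' (f a) := by
  rcases h with ⟨b, hb, h⟩ | ⟨b₁, h₁, b₂, h₂, b₃, h₃, h⟩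
  · exact .inl ⟨f b, hf hb, by rwa [cf a ha b hb, cf b hb a ha]⟩
  · refine .inr ⟨f b₁, hf h₁, f b₂, hf h₂, f b₃, hf h₃, ?_⟩
    rwa [cf _ h₁ _ h₂, cf _ h₁ _ h₃, cf _ h₂ _ h₃, cf _ ha _ h₁, cf _ ha _ h₂, cf _ ha _ h₃]

theorem Pr.mono {Ψ Ψ' : RS R} (e : Ψ ⊆ Ψ') {a : Vec R × Vec R} (ha : a ∈ Ψ) (h : Pr Ψ a) : Pr Ψ' a :=
  h.map (f := id) e (fun _ _ _ _ => rfl) ha

theorem Pr.left {Ψ₁ Ψ₂ : RS R} (o : Ort Ψ₁ Ψ₂) {a : Vec R × Vec R} (ha : a ∈ Ψ₁) (h : Pr (Ψ₁ ∪ Ψ₂) a) : Pr Ψ₁ a := by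
  have k : ∀ b ∈ Ψ₁ ∪ Ψ₂, a.1 ⬝ᵥ b.2 ≠ 0 → b ∈ Ψ₁ := fun b hb h => hb.resolve_right fun hb => h (o a ha b hb).1
  rcases h with ⟨b, hb | hb, h⟩ | ⟨b₁, h₁, b₂, h₂, b₃, h₃, h⟩
  · exact .inl ⟨b, hb, h⟩
  · exact (h ((o a ha b hb).1.trans (o a ha b hb).2.symm)).elim
  · exact .inr ⟨b₁, k _ h₁ h.2.2.2.1, b₂, k _ h₂ h.2.2.2.2.1, b₃, k _ h₃ h.2.2.2.2.2, h⟩

theorem not_pr {Ψ : RS R} (h : TyA Ψ) {a : Vec R × Vec R} (ha : a ∈ Ψ) : ¬ Pr Ψ a := fun hp => by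
  obtain ⟨n, blk, z, h⟩ := h
  obtain ⟨f, hf, cf⟩ := exists_bijOn h
  have hp' := hp.map hf.1 cf ha
  obtain ⟨i, j, h0, -, e⟩ := (mem_stdA z).1 (hf.1 ha)
  rw [e] at hp'
  rcases hp' with ⟨b, hb, h⟩ | ⟨b₁, h₁, b₂, h₂, b₃, h₃, h⟩
  · obtain ⟨k, l, -, -, rfl⟩ := (mem_stdA z).1 hb
    exact h (dotProduct_comm _ _)
  · obtain ⟨k₁, l₁, g₁, -, rfl⟩ := (mem_stdA z).1 h₁
    obtain ⟨k₂, l₂, g₂, -, rfl⟩ := (mem_stdA z).1 h₂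
    obtain ⟨k₃, l₃, g₃, -, rfl⟩ := (mem_stdA z).1 h₃
    simp only [ne_eq, ea_dot_eq g₁ g₂, ea_dot_eq g₁ g₃, ea_dot_eq g₂ g₃, ea_dot_eq h0 g₁, ea_dot_eq h0 g₂, ea_dot_eq h0 g₃,
      Fin.ext_iff] at h
    omega

theorem exists_ne3 {n : ℕ} (hn : 4 ≤ n) (i j k : Fin n) : ∃ l, l ≠ i ∧ l ≠ j ∧ l ≠ k := by
  obtain ⟨l, -, hl⟩ := Finset.exists_mem_notMem_of_card_lt_card (s := {i, j, k}) (t := Finset.univ)
    (lt_of_le_of_lt Finset.card_le_three (by rw [Finset.card_univ, Fintype.card_fin]; omega))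
  exact ⟨l, by simpa using hl⟩

theorem pr_std {κ : Kd} {n : ℕ} (h : Rk κ n) {a : Vec (Fin n) × Vec (Fin n)} (ha : a ∈ std κ (b0 n)) :
    Pr (std κ (b0 n)) a := by
  have ma : ∀ i j : Fin n, i ≠ j → ea i j ∈ std κ (b0 n) := fun i j h => mem_std.2 (.inl ⟨i, j, h, rfl, rfl⟩)
  have md : ∀ i j : Fin n, i ≠ j → ed i j 1 ∈ std κ (b0 n) := fun i j h => mem_std.2 (.inr (.inl ⟨i, j, 1, h, rfl, rfl, rfl⟩))
  have h2 : ∀ i : Fin n, ∃ j, j ≠ i := fun i => by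
    have : Nontrivial (Fin n) := Fin.nontrivial_iff_two_le.2 (by rcases h with h | h | h <;> omega)
    exact exists_ne i
  rcases h with ⟨rfl, h4, -⟩ | ⟨rfl, -⟩ | ⟨rfl, -⟩
  · have k : ∀ i j : Fin n, i ≠ j → (∀ k, k ≠ i → k ≠ j → a.1 k = 0) → a.1 i ≠ 0 → a.1 j ≠ 0 → Pr (std .D (b0 n)) a := by
      intro i j h h0 hi hj
      obtain ⟨k, k1, k2, -⟩ := exists_ne3 h4 i j j
      obtain ⟨l, l1, l2, l3⟩ := exists_ne3 h4 i j k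
      refine .inr ⟨_, ma i k k1.symm, _, md i k k1.symm, _, ma j l l2.symm, ?_, ?_, ?_, ?_, ?_, ?_⟩ <;>
        simp [ea, ed, h0 k k1 k2, h0 l l1 l2, *, h.symm, k1.symm, k2.symm, l3.symm]
    rcases mem_std.1 ha with ⟨i, j, h1, -, rfl⟩ | ⟨i, j, s, h1, -, -, rfl⟩ | ⟨i, s, -, ⟨h2, -⟩ | ⟨h2, -⟩⟩
    · exact k i j h1 (fun k k1 k2 => by simp [ea, k1, k2]) (by simp [ea, h1]) (by simp [ea, h1.symm])
    · exact k i j h1 (fun k k1 k2 => by simp [ed, k1, k2]) (by simp [ed, h1]) (by simp [ed, h1.symm])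
    · cases h2
    · cases h2
  · have mb : ∀ i : Fin n, eb i 1 ∈ std .B (b0 n) := fun i => mem_std.2 (.inr (.inr ⟨i, 1, rfl, .inl ⟨rfl, rfl⟩⟩))
    rcases mem_std.1 ha with ⟨i, j, h1, -, rfl⟩ | ⟨i, j, s, h1, -, -, rfl⟩ | ⟨i, s, -, ⟨-, rfl⟩ | ⟨h2, -⟩⟩
    · exact .inl ⟨_, mb i, by simp [ea, eb, h1]⟩
    · exact .inl ⟨_, mb i, by rcases Int.units_eq_one_or s with rfl | rfl <;> simp [ed, eb, h1]⟩
    · obtain ⟨j, hj⟩ := h2 i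
      exact .inl ⟨_, ma i j hj.symm, by rcases Int.units_eq_one_or s with rfl | rfl <;> simp [ea, eb, hj.symm]⟩
    · cases h2
  · have mc : ∀ i : Fin n, ec i 1 ∈ std .C (b0 n) := fun i => mem_std.2 (.inr (.inr ⟨i, 1, rfl, .inr ⟨rfl, rfl⟩⟩))
    rcases mem_std.1 ha with ⟨i, j, h1, -, rfl⟩ | ⟨i, j, s, h1, -, -, rfl⟩ | ⟨i, s, -, ⟨h2, -⟩ | ⟨-, rfl⟩⟩
    · exact .inl ⟨_, mc i, by simp [ea, ec, h1]⟩
    · exact .inl ⟨_, mc i, by rcases Int.units_eq_one_or s with rfl | rfl <;> simp [ed, ec, h1]⟩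
    · cases h2
    · obtain ⟨j, hj⟩ := h2 i
      exact .inl ⟨_, ma i j hj.symm, by rcases Int.units_eq_one_or s with rfl | rfl <;> simp [ea, ec, hj.symm]⟩

theorem pr_big {Ψ : RS R} (h : Big Ψ) {a : Vec R × Vec R} (ha : a ∈ Ψ) : Pr Ψ a := by
  obtain ⟨κ, n, hk, h⟩ := h
  obtain ⟨f, hf, cf⟩ := exists_bijOn h.symm
  obtain ⟨b, hb, rfl⟩ := hf.2.2 ha
  exact (pr_std hk hb).map hf.1 cf hb

theorem nm_pow {Ψ : RS R} {B : Mat R} (h : Nm B Ψ) (k : ℕ) : Nm (B ^ k) Ψ := by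
  induction k with
  | zero => exact fun a ha => ⟨a, ha, by simp, by simp⟩
  | succ k ih =>
    intro a ha
    obtain ⟨b, hb, h1, h2⟩ := h a ha
    obtain ⟨c, hc, h3, h4⟩ := ih b hb
    exact ⟨c, hc, by rw [pow_succ, ← mulVec_mulVec, h1, h3], by rw [pow_succ, ← vecMul_vecMul, h4, h2]⟩

theorem dec_of {Ψ₁ Ψ₂ : RS R} {B : Mat R} {n : ℕ} (hn : 0 < n) (hB : B ^ n = 1) (h : Nm B (Ψ₁ ∪ Ψ₂)) (o : Ort Ψ₁ Ψ₂)
    (h1 : TyA Ψ₁) (h2 : Big Ψ₂) : Dec (Ψ₁ ∪ Ψ₂) Ψ₁ Ψ₂ B := by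
  choose! θ t1 t2 t3 using h
  have ct : Ca θ (Ψ₁ ∪ Ψ₂) := fun a ha b hb => by rw [← t2 b hb, dotProduct_mulVec, t3 a ha]
  have n2 : Nm B Ψ₂ := fun a ha => ⟨θ a, (t1 a (.inr ha)).resolve_left fun h => not_pr h1 h
    ((((pr_big h2 ha).mono subset_union_right ha).map t1 ct (.inr ha)).left o h), t2 a (.inr ha), t3 a (.inr ha)⟩
  refine ⟨rfl, o, fun a ha => ⟨θ a, (t1 a (.inl ha)).resolve_right fun h => ?_, t2 a (.inl ha), t3 a (.inl ha)⟩, n2⟩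
  obtain ⟨k, rfl⟩ := Nat.exists_eq_succ_of_ne_zero hn.ne'
  obtain ⟨c, hc, h3, h4⟩ := nm_pow n2 k _ h
  have e : c = a := Prod.ext (by rw [← t3 a (.inl ha), ← h4, vecMul_vecMul, ← pow_succ, hB, vecMul_one])
    (by rw [← h3, ← t2 a (.inl ha), mulVec_mulVec, ← pow_succ, hB, one_mulVec])
  subst e
  exact not_pr h1 ha (((pr_big h2 hc).mono subset_union_right hc).left o ha)

theorem forall_std {κ : Kd} {blk : R → ℕ} {P : Vec R × Vec R → Prop} : (∀ a ∈ std κ blk, P a) ↔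
    (∀ i j, i ≠ j → blk i = blk j → P (ea i j)) ∧ (∀ i j s, i ≠ j → blk i = 0 → blk j = 0 → P (ed i j s)) ∧
      (∀ i s, blk i = 0 → κ = .B → P (eb i s)) ∧ ∀ i s, blk i = 0 → κ = .C → P (ec i s) := by
  refine ⟨fun h => ⟨fun i j h1 h2 => h _ (mem_std.2 (.inl ⟨i, j, h1, h2, rfl⟩)),
    fun i j s h1 h2 h3 => h _ (mem_std.2 (.inr (.inl ⟨i, j, s, h1, h2, h3, rfl⟩))),
    fun i s h1 h2 => h _ (mem_std.2 (.inr (.inr ⟨i, s, h1, .inl ⟨h2, rfl⟩⟩))),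
    fun i s h1 h2 => h _ (mem_std.2 (.inr (.inr ⟨i, s, h1, .inr ⟨h2, rfl⟩⟩)))⟩, fun h a ha => ?_⟩
  rcases mem_std.1 ha with ⟨i, j, h1, h2, rfl⟩ | ⟨i, j, s, h1, h2, h3, rfl⟩ | ⟨i, s, h1, ⟨h2, rfl⟩ | ⟨h2, rfl⟩⟩
  · exact h.1 i j h1 h2
  · exact h.2.1 i j s h1 h2 h3
  · exact h.2.2.1 i s h1 h2
  · exact h.2.2.2 i s h1 h2

theorem iso_B1 : Iso (std .B (b0 1)) (std .D ![1, 1]) := by
  refine iso_of_inv (fun a => (![a.1 0, -a.1 0], ![a.1 0, -a.1 0])) (fun b => (![b.1 0], ![2 * b.1 0])) ?_ ?_ <;>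
    simp only [forall_std] <;> simp only [mem_std, reduceCtorEq] <;> decide +kernel

theorem iso_C1 : Iso (std .C (b0 1)) (std .D ![1, 1]) := by
  refine iso_of_inv (fun a => (![a.2 0, -a.2 0], ![a.2 0, -a.2 0])) (fun b => (![2 * b.1 0], ![b.1 0])) ?_ ?_ <;>
    simp only [forall_std] <;> simp only [mem_std, reduceCtorEq] <;> decide +kernel

/-- `D₂ → A₁ A₁` -/
def f2 (x : Fin 2 → ℤ) : Fin 4 → ℤ := ![(x 0 - x 1) / 2, -((x 0 - x 1) / 2), (x 0 + x 1) / 2, -((x 0 + x 1) / 2)]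

/-- `A₁ A₁ → D₂` -/
def g2 (y : Fin 4 → ℤ) : Fin 2 → ℤ := ![y 0 + y 2, y 2 - y 0]

theorem iso_D2 : Iso (std .D (b0 2)) (std .D ![1, 1, 2, 2]) := by
  refine iso_of_inv (fun a => (f2 a.1, f2 a.2)) (fun b => (g2 b.1, g2 b.2)) ?_ ?_ <;>
    simp only [forall_std] <;> simp only [mem_std, reduceCtorEq] <;> decide +kernel

/-- `D₃ → A₃` -/
def f3 (x : Fin 3 → ℤ) : Fin 4 → ℤ :=
  ![(x 0 + x 1 + x 2) / 2, (x 0 - x 1 - x 2) / 2, (-x 0 + x 1 - x 2) / 2, (-x 0 - x 1 + x 2) / 2]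

/-- `A₃ → D₃` -/
def g3 (y : Fin 4 → ℤ) : Fin 3 → ℤ := ![y 0 + y 1, y 0 + y 2, y 0 + y 3]

theorem iso_D3 : Iso (std .D (b0 3)) (std .D ![1, 1, 1, 1]) := by
  refine iso_of_inv (fun a => (f3 a.1, f3 a.2)) (fun b => (g3 b.1, g3 b.2)) ?_ ?_ <;>
    simp only [forall_std] <;> simp only [mem_std, reduceCtorEq] <;> decide +kernel

/-- rotation -/
def r1 (x : Fin 2 → ℤ) : Fin 2 → ℤ := ![x 0 + x 1, x 0 - x 1]

/-- rotation -/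
def r2 (x : Fin 2 → ℤ) : Fin 2 → ℤ := ![(x 0 + x 1) / 2, (x 0 - x 1) / 2]

theorem iso_C2 : Iso (std .C (b0 2)) (std .B (b0 2)) := by
  refine iso_of_inv (fun a => (r2 a.1, r1 a.2)) (fun b => (r1 b.1, r2 b.2)) ?_ ?_ <;>
    simp only [forall_std] <;> simp only [mem_std, reduceCtorEq] <;> decide +kernel

theorem tyA_empty {Ψ : RS R} (h : Ψ = ∅) : TyA Ψ :=
  ⟨0, b0 0, fun i => i.elim0, iso_empty h (eq_empty_of_forall_notMem fun a ha => by simp [mem_std] at ha)⟩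

theorem one_block {κ : Kd} {m : ℕ} (h : m ≤ 3 ∨ κ = .D ∧ m ≤ 7) : TyA (std κ (b0 m)) ∨ Big (std κ (b0 m)) := by
  by_cases hr : Rk κ m
  · exact .inr ⟨κ, m, hr, Iso.refl _⟩
  have hm : m ≤ 3 := by
    rcases h with h | ⟨rfl, h⟩
    · exact h
    · by_contra h'
      exact hr (.inl ⟨rfl, by omega, h⟩)
  have t : ∀ {n : ℕ} (blk : Fin n → ℕ), (∀ i, blk i ≠ 0) → Iso (std κ (b0 m)) (std .D blk) →
      TyA (std κ (b0 m)) ∨ Big (std κ (b0 m)) := fun blk h1 h2 => .inl ⟨_, blk, h1, h2⟩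
  interval_cases m
  · exact .inl (tyA_empty (eq_empty_of_forall_notMem fun a ha => by simp [mem_std] at ha))
  · cases κ
    · exact t _ (by decide) iso_B1
    · exact t _ (by decide) iso_C1
    · exact .inl (tyA_empty (eq_empty_of_forall_notMem fun a ha => by simp [mem_std, Subsingleton.elim _ (0 : Fin 1)] at ha))
  · cases κ
    · exact (hr (.inr (.inl ⟨rfl, .inl rfl⟩))).elim
    · exact .inr ⟨.B, 2, .inr (.inl ⟨rfl, .inl rfl⟩), iso_C2⟩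
    · exact t _ (by decide) iso_D2
  · cases κ
    · exact (hr (.inr (.inl ⟨rfl, .inr rfl⟩))).elim
    · exact (hr (.inr (.inr ⟨rfl, rfl⟩))).elim
    · exact t _ (by decide) iso_D3

theorem split_std (κ : Kd) {n : ℕ} (blk : Fin n → ℕ) : ∃ Φ₁ Φ₂ : RS (Fin n), std κ blk = Φ₁ ∪ Φ₂ ∧ Ort Φ₁ Φ₂ ∧ TyA Φ₁ ∧
    Iso Φ₂ (std κ (b0 (Nat.card {i // blk i = 0}))) := by
  let φ := (Finite.equivFin {i // blk i = 0}).symm
  let e : Fin (Nat.card {i // blk i = 0}) → Fin n := fun i => (φ i).1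
  have he : Function.Injective e := Subtype.val_injective.comp φ.injective
  have h0 : ∀ i, blk (e i) = 0 := fun i => (φ i).2
  have h1 : ∀ i, blk i = 0 → ∃ j, e j = i := fun i hi => ⟨φ.symm ⟨i, hi⟩, by simp [e]⟩
  let b : Fin n → ℕ := fun i => if blk i = 0 then 2 * i + 1 else 2 * blk i
  have z : ∀ i, b i ≠ 0 := fun i => by simp only [b]; split_ifs <;> omega
  have hb : ∀ i j, i ≠ j → (b i = b j ↔ blk i = blk j ∧ blk i ≠ 0) := fun i j h => by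
    have := Fin.val_ne_of_ne h
    simp only [b]; split_ifs <;> omega
  refine ⟨std .D b, pf e '' std κ (b0 _), ?_, ?_, tyA_std z, (iso_pf he _).symm⟩
  · ext a
    rw [mem_union, mem_stdA z, mem_pf, mem_std]
    constructor
    · rintro (⟨i, j, k1, k2, rfl⟩ | ⟨i, j, s, k1, k2, k3, rfl⟩ | ⟨i, s, k1, k2⟩)
      · by_cases hi : blk i = 0
        · obtain ⟨j, rfl⟩ := h1 j (k2 ▸ hi)
          obtain ⟨i, rfl⟩ := h1 i hi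
          exact .inr (.inl ⟨i, j, fun h => k1 (congrArg e h), rfl, rfl⟩)
        · exact .inl ⟨i, j, k1, (hb i j k1).2 ⟨k2, hi⟩, rfl⟩
      · obtain ⟨j, rfl⟩ := h1 j k3
        obtain ⟨i, rfl⟩ := h1 i k2
        exact .inr (.inr (.inl ⟨i, j, s, fun h => k1 (congrArg e h), rfl, rfl, rfl⟩))
      · obtain ⟨i, rfl⟩ := h1 i k1
        exact .inr (.inr (.inr ⟨i, s, rfl, k2⟩))
    · rintro (⟨i, j, k1, k2, rfl⟩ | ⟨i, j, k1, -, rfl⟩ | ⟨i, j, s, k1, -, -, rfl⟩ | ⟨i, s, -, k2⟩)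
      · exact .inl ⟨i, j, k1, ((hb i j k1).1 k2).1, rfl⟩
      · exact .inl ⟨_, _, he.ne k1, (h0 i).trans (h0 j).symm, rfl⟩
      · exact .inr (.inl ⟨_, _, s, he.ne k1, h0 i, h0 j, rfl⟩)
      · exact .inr (.inr ⟨_, s, h0 i, k2⟩)
  · rintro a ha c hc
    obtain ⟨i, j, k1, k2, rfl⟩ := (mem_stdA z).1 ha
    obtain ⟨k2, k3⟩ := (hb i j k1).1 k2
    have n1 : ∀ l, i ≠ e l := fun l h => k3 (h ▸ h0 l)
    have n2 : ∀ l, j ≠ e l := fun l h => k3 (k2.trans (h ▸ h0 l))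
    rcases mem_pf.1 hc with ⟨k, l, -, -, rfl⟩ | ⟨k, l, s, -, -, -, rfl⟩ | ⟨k, s, -, ⟨-, rfl⟩ | ⟨-, rfl⟩⟩ <;>
      simp [ea, ed, eb, ec, Pi.single_apply, n1, n2, (n1 _).symm, (n2 _).symm]

theorem ex_tyA {Ψ : RS R} (h : TyA Ψ) : Ex Ψ := by
  obtain ⟨n, blk, z, h⟩ := h
  have : IsEmpty {i // blk i = 0} := ⟨fun i => z _ i.2⟩
  exact ⟨n, .D, blk, h, .inl (by simp)⟩

theorem ex_big {Ψ : RS R} (h : Big Ψ) : Ex Ψ := by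
  obtain ⟨κ, n, hk, h⟩ := h
  have : Nat.card {i // b0 n i = 0} = n := by simp
  refine ⟨n, κ, b0 n, h, ?_⟩
  rw [this]
  rcases hk with ⟨rfl, -, h⟩ | ⟨-, h⟩ | ⟨-, h⟩
  · exact .inr ⟨rfl, h⟩
  · exact .inl (by omega)
  · exact .inl (by omega)

theorem big_nonempty {Ψ : RS R} (h : Big Ψ) : Ψ.Nonempty := by
  obtain ⟨κ, n, hk, h⟩ := h
  have : Nontrivial (Fin n) := Fin.nontrivial_iff_two_le.2 (by rcases hk with h | h | h <;> omega)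
  obtain ⟨i, j, hij⟩ := exists_pair_ne (Fin n)
  exact iso_nonempty h ⟨_, mem_std.2 (.inl ⟨i, j, hij, rfl, rfl⟩)⟩

end Norm

open Norm in
/-- **normal form of the exact types** -/
theorem boxNorm : BoxNorm := by
  intro R _ _ Ψ B n hn hB hN ⟨m, κ, blk, h, hm⟩
  obtain ⟨Φ₁, Φ₂, e, o, t, h2⟩ := split_std κ blk
  obtain ⟨Ψ₁, Ψ₂, rfl, o', i1, i2⟩ := iso_split (e ▸ h) o
  have t1 := tyA_iso i1 t
  rcases one_block hm with h3 | h3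
  · exact .inr (.inl (tyA_union t1 (tyA_iso (i2.trans h2) h3) o'))
  · have t2 := big_iso (i2.trans h2) h3
    rcases Ψ₁.eq_empty_or_nonempty with rfl | h4
    · exact .inr (.inr (by rwa [Set.empty_union]))
    · exact .inl ⟨Ψ₁, Ψ₂, dec_of hn hB hN o' t1 t2, h4, big_nonempty t2, ex_tyA t1, ex_big t2⟩

end Cfsg.Agent.HZ.L.X
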