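import Cfsg.Agent.HZ.L.X.Defs

/-!
# HZ/L, the exact system: products (helper83)
-/

set_option autoImplicit false
set_option linter.unusedSectionVars false

namespace Cfsg.Agent.HZ.L.X

open Cfsg Cfsg.Agent.DL Cfsg.Agent.DL.PP Matrix Cfsg.Agent.KZ.Lie

namespace Prd

variable {R : Type} [Fintype R] [DecidableEq R] {Ψ : RS R} {A : Mat R}

theorem rfm_mulVec (a : Vec R × Vec R) (v : Vec R) : rfm a *ᵥ v = v - (a.1 ⬝ᵥ v) • a.2 := by
  rw [rfm, sub_mulVec, one_mulVec, vecMulVec_mulVec]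
  simp

theorem dot_ww {x : Vec R} (hx : ∀ b ∈ Ψ, x ⬝ᵥ b.2 = 0) (hA : A ∈ WW Ψ) (v : Vec R) : x ⬝ᵥ A *ᵥ v = x ⬝ᵥ v := by
  induction hA using Submonoid.closure_induction generalizing v with
  | mem y hy =>
    obtain ⟨a, ha, rfl⟩ := hy
    rw [rfm_mulVec, dotProduct_sub, dotProduct_smul, hx a ha, smul_zero, sub_zero]
  | one => rw [one_mulVec]
  | mul y z _ _ hy hz => rw [← mulVec_mulVec, hy, hz]

theorem exists_div {M : Type} [AddCommGroup M] (f : M →ₗ[ℤ] ℤ) {n : ℤ} (hn : n ≠ 0) (h : ∀ x, n ∣ f x) :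
    ∃ l : M →ₗ[ℤ] ℤ, ∀ x, f x = n * l x := by
  choose l hl using h
  exact ⟨(AddMonoidHom.mk' l fun x y => mul_left_cancel₀ hn (by rw [← hl, map_add, hl, hl, mul_add])).toIntLinearMap, hl⟩

variable {p : ℕ} [Fact p.Prime] {k : Type} [Field k] [CharP k p] [IsAlgClosed k] {Y : Type} [Group Y] {N : Type}
  [Fintype N] [DecidableEq N] {ρ : Y →* GL N k} {F : MulAut Y} {G : Subgroup Y} {D : Datum p ρ F G}

/-- the projection, up to a power of `p` -/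
theorem split (h : Cz p (rts D)) {Ψ₁ Ψ₂ : RS D.R} {B : Mat D.R} (d : Dec (rts D) Ψ₁ Ψ₂ B) :
    ∃ m : ℕ, ∀ v, ∃ lam, Perp Ψ₂ lam ∧ Perp Ψ₁ (p ^ m • v - lam) := by
  classical
  obtain ⟨m, hm⟩ := h
  refine ⟨m, fun v => ?_⟩
  have h1 : Ψ₁ ⊆ rts D := d.union ▸ Set.subset_union_left
  have h2 : Ψ₂ ⊆ rts D := d.union ▸ Set.subset_union_right
  let H := Subgroup.closure (D.rf '' {b | D.Rt b ∧ (D.wt b, D.cor b) ∈ Ψ₂})
  let _ := Fintype.ofFinite H
  let s := ∑ u : H, D.Wm u *ᵥ v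
  have h3 : ∀ a ∈ Ψ₁, a.1 ⬝ᵥ s = Fintype.card H * (a.1 ⬝ᵥ v) := fun a ha => by
    rw [dotProduct_sum, Finset.sum_congr rfl fun (u : H) _ => dot_ww (fun b hb => (d.orth a ha b hb).1)
      ((mem_WW_sub h2).2 ⟨u, u.2, rfl⟩) v, Finset.sum_const, Finset.card_univ, nsmul_eq_mul]
  have h4 : Perp Ψ₂ s := fun a ha => by
    obtain ⟨b, hb, rfl⟩ := h2 ha
    have h5 : rfm (D.wt b, D.cor b) *ᵥ s = s := by
      rw [rfm_eq hb, mulVec_sum]
      exact Fintype.sum_equiv (Equiv.mulLeft (⟨D.rf b, Subgroup.subset_closure ⟨b, ⟨hb, ha⟩, rfl⟩⟩ : H)) _ _ fun u => by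
        rw [mulVec_mulVec, ← D.Wm_mul]; rfl
    have h6 := congrArg (D.wt b ⬝ᵥ ·) h5
    simp only [rfm_mulVec, dotProduct_sub, dotProduct_smul, wt_dot_cor D b hb, Cfsg.Agent.Nodes.Coroot.cpr_self _ _ hb, smul_eq_mul] at h6
    show D.wt b ⬝ᵥ s = 0
    omega
  have h5 : (Fintype.card H : ℤ) ≠ 0 := Nat.cast_ne_zero.2 Fintype.card_ne_zero
  obtain ⟨l, hl⟩ := exists_div ((dotProductBilin ℤ ℤ).flip s ∘ₗ (Submodule.span ℤ (Prod.fst '' rts D)).subtype) h5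
    fun ⟨x, hx⟩ => by
      show _ ∣ x ⬝ᵥ s
      induction hx using Submodule.span_induction with
      | mem x hx =>
        obtain ⟨a, ha, rfl⟩ := hx
        rcases d.union.le ha with ha | ha
        · exact ⟨_, h3 a ha⟩
        · rw [h4 a ha]; exact dvd_zero _
      | zero => rw [zero_dotProduct]; exact dvd_zero _
      | add x y _ _ hx hy => rw [add_dotProduct]; exact dvd_add hx hy
      | smul c x _ hx => rw [smul_dotProduct]; exact hx.mul_left c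
  obtain ⟨lam, h6⟩ := hm l
  have h7 : ∀ a ∈ rts D, Fintype.card H * (a.1 ⬝ᵥ lam) = p ^ m * (a.1 ⬝ᵥ s) := fun a ha => by
    rw [h6 ⟨a.1, Submodule.subset_span ⟨a, ha, rfl⟩⟩, mul_left_comm, ← hl]
    rfl
  refine ⟨lam, fun a ha => mul_left_cancel₀ h5 ?_, fun a ha => mul_left_cancel₀ h5 ?_⟩
  · rw [h7 a (h2 ha), h4 a ha, mul_zero, mul_zero]
  · rw [dotProduct_sub, mul_sub, h7 a (h1 ha), h3 a ha, dotProduct_smul, nsmul_eq_mul]
    push_cast
    ring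

end Prd

variable {p : ℕ} [Fact p.Prime] {k : Type} [Field k] [CharP k p] [IsAlgClosed k] {Y : Type} [Group Y] {N : Type}
  [Fintype N] [DecidableEq N] {ρ : Y →* GL N k} {F : MulAut Y} {G : Subgroup Y}

open Prd in
/-- **products** -/
theorem boxProd (D : Datum p ρ F G) : BoxProd D := by
  rintro h Ψ₁ Ψ₂ B d c c' ⟨n, h1, h2⟩ ⟨n', h3, h4⟩ ⟨A, hA, h5⟩ ⟨A', hA', h6⟩
  obtain ⟨m, hm⟩ := split h d
  refine ⟨A * A', mul_mem (WW_mono (d.union ▸ Set.subset_union_left) hA) (WW_mono (d.union ▸ Set.subset_union_right) hA'),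
    fun v => ?_⟩
  obtain ⟨lam, h7, h8⟩ := hm v
  have h9 : chr ((A * A') *ᵥ (p ^ m • v)) c' = chr (p ^ m • v) c := by
    rw [← add_sub_cancel lam (p ^ m • v), add_sub_assoc', add_sub_assoc, mulVec_add, chr_add, chr_add, ← mulVec_mulVec,
      ← mulVec_mulVec, h7.fix hA', h5 _ h7, Perp.fix (fun a ha => (dot_ww (fun b hb => (d.orth a ha b hb).1) hA' _).trans
        (h8 a ha)) hA, h6 _ h8]
  rw [mulVec_smul, chr_nsmul, chr_nsmul, ← div_eq_one, ← div_pow] at h9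
  have h10 : (chr ((A * A') *ᵥ v) c' / chr v c) ^ (n * n') = 1 := by
    rw [div_pow, ← map_pow, ← map_pow, pow_mul c, h2, mul_comm, pow_mul c', h4, one_pow, one_pow, map_one, map_one, div_one]
  rw [← div_eq_one, ← orderOf_eq_one_iff]
  exact Nat.eq_one_of_dvd_coprimes (Nat.Coprime.pow_left m (((Fact.out : p.Prime).coprime_iff_not_dvd).2
    ((Fact.out : p.Prime).not_dvd_mul h1 h3))) (orderOf_dvd_of_pow_eq_one h9) (orderOf_dvd_of_pow_eq_one h10)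

end Cfsg.Agent.HZ.L.X
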