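import Cfsg.Agent.HZ.L.X.TAa

/-!
# HZ/L/X, type `A`: isolated labels are central, and the twisted classes without the eigenvalue `μ` (helper4)
-/

set_option autoImplicit false
set_option linter.unusedSectionVars false

namespace Cfsg.Agent.HZ.L.X

open Cfsg Cfsg.Agent.DL Cfsg.Agent.DL.PP Matrix Cfsg.Agent.KZ.Lie Equiv
open Cfsg.Agent.LV.Cl (SG sm sgn)

variable {p : ℕ} [Fact p.Prime] {k : Type} [Field k] [CharP k p] [IsAlgClosed k] {Y : Type} [Group Y] {N : Type}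
  [Fintype N] [DecidableEq N] {ρ : Y →* GL N k} {F : MulAut Y} {G : Subgroup Y} {D : Datum p ρ F G}

namespace TA

theorem exists_rf (a b : rts D) : ∃ c : rts D, c.1.2 = b.1.2 - (a.1.1 ⬝ᵥ b.1.2) • a.1.2 := by
  obtain ⟨_, a, ha, rfl⟩ := a
  obtain ⟨_, b, hb, rfl⟩ := b
  refine ⟨⟨_, rt_mem (hb.act (D.rf a))⟩, ?_⟩
  show D.cor (D.act (D.rf a) b) = D.cor b - (D.wt a ⬝ᵥ D.cor b) • D.cor a
  rw [D.cor_act _ hb, D.Wm_rf ha, sub_mulVec, one_mulVec, vecMulVec_mulVec]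
  simp

variable {n : ℕ} {blk : Fin n → ℕ} {m : ℤ} (Φ : Fw D .D blk m)

/-- the root with the coordinates `e i - e j` -/
def rt {i j : Fin n} (h : i ≠ j) (e : blk i = blk j) : rts D := Φ.φ.symm ⟨_, ee_mem h e⟩

theorem φ_rt {i j : Fin n} (h : i ≠ j) (e : blk i = blk j) : (Φ.φ (rt Φ h e)).1 = (ee i j, ee i j) := by
  rw [rt, apply_symm_apply]

theorem eq_rt {a : rts D} {i j : Fin n} (h : i ≠ j) (e : blk i = blk j) (h1 : (Φ.φ a).1 = (ee i j, ee i j)) :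
    a = rt Φ h e := Φ.φ.injective (Subtype.ext (h1.trans (φ_rt Φ h e).symm))

theorem exists_rt (hb : ∀ i, blk i ≠ 0) (a : rts D) : ∃ i j, ∃ (h : i ≠ j) (e : blk i = blk j), a = rt Φ h e := by
  obtain ⟨i, j, h, e, h1⟩ := (mem_std hb).1 (Φ.φ a).2
  exact ⟨i, j, h, e, eq_rt Φ h e h1⟩

/-- the coroots -/
def co (i j : Fin n) : Vec D.R := if h : i ≠ j ∧ blk i = blk j then (rt Φ h.1 h.2).1.2 else 0

theorem co_eq {i j : Fin n} (h : i ≠ j) (e : blk i = blk j) : co Φ i j = (rt Φ h e).1.2 := dif_pos ⟨h, e⟩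

theorem co_self (i : Fin n) : co Φ i i = 0 := dif_neg fun h => h.1 rfl

theorem co_ne {i j : Fin n} (h : blk i ≠ blk j) : co Φ i j = 0 := dif_neg fun e => h e.2

theorem P_co {i j : Fin n} (e : blk i = blk j) : Φ.P *ᵥ co Φ i j = m • ee i j := by
  by_cases h : i = j
  · rw [h, co_self, mulVec_zero, ee, sub_self, smul_zero]
  · rw [co_eq Φ h e, Φ.h2, φ_rt]

theorem eq_co (hb : ∀ i, blk i ≠ 0) {a : rts D} {i j : Fin n} (h : i ≠ j) (e : Φ.P *ᵥ a.1.2 = m • ee i j) :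
    a.1.2 = co Φ i j := by
  obtain ⟨u, v, h1, e1, rfl⟩ := exists_rt Φ hb a
  rw [Φ.h2, φ_rt] at e
  obtain ⟨rfl, rfl⟩ := ee_inj h1 (smul_right_injective _ Φ.pos.ne' e)
  rw [co_eq]

theorem dot_co {i j : Fin n} (h : i ≠ j) (e : blk i = blk j) {u v : Fin n} (e' : blk u = blk v) :
    (rt Φ h e).1.1 ⬝ᵥ co Φ u v = ee u v i - ee u v j := by
  by_cases h' : u = v
  · rw [h', co_self, dotProduct_zero, ee, sub_self, Pi.zero_apply, Pi.zero_apply, sub_self]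
  · rw [co_eq Φ h' e', ← Φ.car, φ_rt, φ_rt, ee_dot]

theorem co_add (hb : ∀ i, blk i ≠ 0) {i j l : Fin n} (e : blk i = blk j) (e' : blk j = blk l) :
    co Φ i j + co Φ j l = co Φ i l := by
  by_cases h1 : i = j
  · rw [h1, co_self, zero_add]
  by_cases h2 : j = l
  · rw [← h2, co_self, add_zero]
  by_cases h3 : i = l
  · subst h3
    obtain ⟨c, hc⟩ := exists_rf (rt Φ h1 e) (rt Φ h1 e)
    rw [← co_eq, dot_co Φ h1 e e, ee_apply, ee_apply, if_pos rfl, if_pos rfl, if_neg h1, if_neg h2] at hc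
    have h4 : c.1.2 = -co Φ i j := by rw [hc]; module
    rw [← eq_co Φ hb (a := c) h2 (by rw [h4, mulVec_neg, P_co Φ e, ee, ee, ← smul_neg, neg_sub]), h4, add_neg_cancel,
      co_self]
  · obtain ⟨c, hc⟩ := exists_rf (rt Φ h1 e) (rt Φ h2 e')
    rw [← co_eq, ← co_eq, dot_co Φ h1 e e', ee_apply, ee_apply, if_pos rfl, if_neg h1, if_neg h2, if_neg h3] at hc
    have h4 : c.1.2 = co Φ i j + co Φ j l := by rw [hc]; module
    rw [← h4]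
    exact eq_co Φ hb h3 (by rw [h4, mulVec_add, P_co Φ e, P_co Φ e', ← smul_add, ee, ee, ee, sub_add_sub_cancel])

/-- the vector with the coordinates `y`, up to the sizes of the blocks -/
noncomputable def lf (y : Fin n → ℂ) : D.R → ℂ := ∑ u, ∑ v, y u • fun r => (co Φ u v r : ℂ)

theorem ev_lf {i j : Fin n} (h : i ≠ j) (e : blk i = blk j) (y : Fin n → ℂ) :
    ev (rt Φ h e).1.1 (lf Φ y) = 0 ↔ y i = y j := by
  have h1 : ∀ u v, ev (rt Φ h e).1.1 (fun r => (co Φ u v r : ℂ)) =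
      if blk u = blk v then ((if i = u then 1 else 0) - if i = v then 1 else 0) -
        ((if j = u then 1 else 0) - if j = v then 1 else 0) else 0 := fun u v => by
    rw [ev_int]
    by_cases e' : blk u = blk v
    · rw [if_pos e', dot_co Φ h e e', ee_apply, ee_apply]
      push_cast
      rfl
    · rw [if_neg e', co_ne Φ e', dotProduct_zero, Int.cast_zero]
  have h2 : ∀ u, ∑ v, ev (rt Φ h e).1.1 (fun r => (co Φ u v r : ℂ)) =
      ((Finset.univ.filter fun v => blk u = blk v).card : ℂ) * ((if i = u then 1 else 0) - if j = u then 1 else 0) :=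
    fun u => by
    have h3 : ∀ v, ev (rt Φ h e).1.1 (fun r => (co Φ u v r : ℂ)) =
        (if blk u = blk v then (1 : ℂ) else 0) * ((if i = u then 1 else 0) - if j = u then 1 else 0) -
          ((if i = v then (if blk u = blk v then 1 else 0) else 0) -
            if j = v then (if blk u = blk v then 1 else 0) else 0) := fun v => by
      rw [h1]
      split_ifs <;> simp
    simp only [h3, Finset.sum_sub_distrib, ← Finset.sum_mul, Finset.sum_ite_eq, Finset.mem_univ, if_true, e, sub_self,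
      sub_zero, Finset.sum_boole]
  have h3 : ev (rt Φ h e).1.1 (lf Φ y) = ((Finset.univ.filter fun v => blk j = blk v).card : ℂ) * (y i - y j) := by
    have h4 : ev (rt Φ h e).1.1 (lf Φ y) = ∑ u, y u * ∑ v, ev (rt Φ h e).1.1 (fun r => (co Φ u v r : ℂ)) := by
      simp only [lf, ev, dotProduct_sum, dotProduct_smul, smul_eq_mul, Finset.mul_sum]
    simp only [h4, h2, mul_sub, mul_ite, mul_one, mul_zero, Finset.sum_sub_distrib, Finset.sum_ite_eq, Finset.mem_univ,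
      if_true, e]
    ring
  rw [h3, mul_eq_zero, sub_eq_zero, or_iff_right]
  exact Nat.cast_ne_zero.2 (Finset.card_ne_zero.2 ⟨j, by simp⟩)

include Φ in
theorem cen (hb : ∀ i, blk i ≠ 0) {c : Lbl D} (h : Isol (rts D) c) : Cen (rts D) c := fun a ha => by
  classical
  obtain ⟨i, j, h1, e, h2⟩ := exists_rt Φ hb ⟨a, ha⟩
  let y : Fin n → ℂ := fun u => if blk i = blk u ∧ chr (co Φ i u) c = 1 then 1 else 0
  obtain ⟨lam, hl⟩ := exists_pat (lf Φ y)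
  have h3 : Perp (rts D) lam := h lam fun b hb' => by
    obtain ⟨u, v, h4, e', h5⟩ := exists_rt Φ hb ⟨b, hb'.1⟩
    have h6 : chr (co Φ u v) c = 1 := by rw [co_eq Φ h4 e', ← h5]; exact hb'.2
    have h7 : b.1 = (rt Φ h4 e').1.1 := by rw [← h5]
    rw [hl b hb'.1, h7, ev_lf]
    refine if_congr ⟨fun x => ⟨x.1.trans e', ?_⟩, fun x => ⟨x.1.trans e'.symm, ?_⟩⟩ rfl rfl
    · rw [← co_add Φ hb x.1 e', chr_add, x.2, h6, mul_one]
    · have h8 := x.2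
      rwa [← co_add Φ hb (x.1.trans e'.symm) e', chr_add, h6, mul_one] at h8
  have h4 := (ev_lf Φ h1 e y).1 ((hl _ (rt Φ h1 e).2).1 (h3 _ (rt Φ h1 e).2))
  have h5 : y i = 1 := if_pos ⟨rfl, by rw [co_self, chr_zero]⟩
  have h6 : a.2 = co Φ i j := by rw [co_eq Φ h1 e, ← h2]
  rw [h6]
  by_contra h7
  exact one_ne_zero (h5.symm.trans (h4.trans (if_neg fun x => h7 x.2)))

/-- `A` acts on the roots through the signed permutation `g` -/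
structure Ac (A : Mat D.R) (g : SG n) : Prop where
  nm : Nm A (rts D)
  hP : Φ.P * A = sm g * Φ.P

variable {Φ} {A : Mat D.R} {g : SG n}

theorem Ac.img (h : Ac Φ A g) {a b : rts D} (e : A *ᵥ a.1.2 = b.1.2) : sm g *ᵥ (Φ.φ a).1.2 = (Φ.φ b).1.2 :=
  smul_right_injective _ Φ.pos.ne' (by
    show m • _ = m • _
    rw [← Φ.h2, ← e, mulVec_mulVec, h.hP, ← mulVec_mulVec, Φ.h2, mulVec_smul])

theorem Ac.key (h : Ac Φ A g) (hb : ∀ i, blk i ≠ 0) {i j : Fin n} (e : blk i = blk j) :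
    blk (g.π i) = blk (g.π j) ∧ g.s i = g.s j ∧ A *ᵥ co Φ i j = (g.s i : ℤ) • co Φ (g.π i) (g.π j) := by
  by_cases h1 : i = j
  · rw [h1, co_self, co_self, mulVec_zero, smul_zero]
    exact ⟨rfl, rfl, rfl⟩
  obtain ⟨b, hb', h2, -⟩ := h.nm _ (rt Φ h1 e).2
  obtain ⟨u, v, h3, e', h4⟩ := exists_rt Φ hb ⟨b, hb'⟩
  have h5 := h.img (a := rt Φ h1 e) (b := ⟨b, hb'⟩) h2
  rw [h4, φ_rt, φ_rt] at h5
  have h6 : A *ᵥ co Φ i j = co Φ u v := by rw [co_eq Φ h1 e, co_eq Φ h3 e', ← h4, h2]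
  obtain ⟨h7, ⟨h8, rfl, rfl⟩ | ⟨h8, rfl, rfl⟩⟩ := sm_ee h3 h5
  · exact ⟨e', h7, by rw [h6, h8, Units.val_one, one_smul]⟩
  · refine ⟨e'.symm, h7, ?_⟩
    rw [h6, h8, Units.val_neg, Units.val_one, neg_one_smul, eq_neg_iff_add_eq_zero, co_add Φ hb e' e'.symm, co_self]

theorem Ac.iff (h : Ac Φ A g) (hb : ∀ i, blk i ≠ 0) (i j : Fin n) : blk (g.π i) = blk (g.π j) ↔ blk i = blk j :=
  blk_iff (f := blk) (fun _ _ e => (h.key hb e).1) i j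

theorem Ac.isE (h : Ac Φ A g) (hb : ∀ i, blk i ≠ 0) {μ : ℂ} {y : Fin n → ℂ}
    (e : ∀ l, ((g.s l : ℤ) : ℂ) * y l = μ * y (g.π l)) : IsE A μ (lf Φ y) := by
  have h1 : ∀ u v, A.map (Int.cast : ℤ → ℂ) *ᵥ (fun r => (co Φ u v r : ℂ)) =
      ((g.s u : ℤ) : ℂ) • fun r => (co Φ (g.π u) (g.π v) r : ℂ) := fun u v => by
    have h2 : A *ᵥ co Φ u v = (g.s u : ℤ) • co Φ (g.π u) (g.π v) := by
      by_cases e' : blk u = blk v
      · exact (h.key hb e').2.2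
      · rw [co_ne Φ e', co_ne Φ fun x => e' ((h.iff hb u v).1 x), mulVec_zero, smul_zero]
    funext r
    have h3 := congrArg (Int.cast : ℤ → ℂ) (congrFun h2 r)
    simpa [mulVec, dotProduct] using h3
  show A.map _ *ᵥ lf Φ y = μ • lf Φ y
  rw [lf, mulVec_sum, Finset.smul_sum, ← Equiv.sum_comp g.π fun u => μ • ∑ v, y u • fun r => (co Φ u v r : ℂ)]
  refine Finset.sum_congr rfl fun u _ => ?_
  rw [mulVec_sum, Finset.smul_sum, ← Equiv.sum_comp g.π fun v => μ • y (g.π u) • fun r => (co Φ (g.π u) v r : ℂ)]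
  refine Finset.sum_congr rfl fun v _ => ?_
  rw [mulVec_smul, h1, smul_smul, smul_smul, ← e, mul_comm]

variable (Φ) in
/-- the roots inside a union of blocks -/
def sb (O : Fin n → Prop) : RS D.R := {a | ∃ e : a ∈ rts D, (Φ.φ ⟨a, e⟩).1 ∈ std .D (bO blk O)}

theorem mem_sb (hb : ∀ i, blk i ≠ 0) {O : Fin n → Prop} {a : Vec D.R × Vec D.R} :
    a ∈ sb Φ O ↔ ∃ i j, ∃ (h : i ≠ j) (e : blk i = blk j), O i ∧ O j ∧ a = (rt Φ h e).1 := by
  refine ⟨fun ⟨e, h⟩ => ?_, fun ⟨i, j, h, e, h1, h2, h3⟩ => ?_⟩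
  · obtain ⟨i, j, h1, h2, h3, h4, h5⟩ := (mem_bO hb).1 h
    exact ⟨i, j, h1, h2, h3, h4, congrArg Subtype.val (eq_rt Φ h1 h2 h5)⟩
  · subst h3
    exact ⟨(rt Φ h e).2, (mem_bO hb).2 ⟨i, j, h, e, h1, h2, φ_rt Φ h e⟩⟩

theorem ex_sb (hb : ∀ i, blk i ≠ 0) (O : Fin n → Prop) : Ex (sb Φ O) := by
  refine ⟨n, .D, bO blk O, iso_sub Φ.φ Φ.car fun a ha => ?_, Or.inl ?_⟩
  · obtain ⟨i, j, h1, h2, -, -, rfl⟩ := (mem_bO hb).1 ha
    exact ee_mem h1 h2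
  · have : IsEmpty {i // bO blk O i = 0} := ⟨fun i => bO_ne hb O i.1 i.2⟩
    rw [Nat.card_of_isEmpty]
    exact Nat.zero_le _

theorem Ac.nm_sb (h : Ac Φ A g) (hb : ∀ i, blk i ≠ 0) {O : Fin n → Prop} (hO : ∀ i, O i → O (g.π i)) :
    Nm A (sb Φ O) := fun a ha => by
  obtain ⟨i, j, h1, e, h2, h3, rfl⟩ := (mem_sb hb).1 ha
  obtain ⟨b, hb', h4, h5⟩ := h.nm _ (rt Φ h1 e).2
  refine ⟨b, ?_, h4, h5⟩
  obtain ⟨u, v, h6, e', h7⟩ := exists_rt Φ hb ⟨b, hb'⟩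
  have h8 := h.img (a := rt Φ h1 e) (b := ⟨b, hb'⟩) h4
  rw [h7, φ_rt, φ_rt] at h8
  refine (mem_sb hb).2 ⟨u, v, h6, e', ?_, ?_, congrArg Subtype.val h7⟩
  all_goals obtain ⟨-, ⟨-, rfl, rfl⟩ | ⟨-, rfl, rfl⟩⟩ := sm_ee h6 h8 <;> exact hO _ ‹_›

theorem orth_sb (hb : ∀ i, blk i ≠ 0) {O O' : Fin n → Prop} (hO : ∀ i, O i → ¬ O' i) {a b : Vec D.R × Vec D.R}
    (ha : a ∈ sb Φ O) (hb' : b ∈ sb Φ O') : a.1 ⬝ᵥ b.2 = 0 := by
  obtain ⟨i, j, h1, e, h2, h3, rfl⟩ := (mem_sb hb).1 ha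
  obtain ⟨u, v, h4, e', h5, h6, rfl⟩ := (mem_sb hb).1 hb'
  have h7 : ∀ x y, O x → O' y → x ≠ y := fun x y a b c => hO x a (c ▸ b)
  rw [← co_eq, dot_co Φ h1 e e', ee_apply, ee_apply, if_neg (h7 _ _ h2 h5), if_neg (h7 _ _ h2 h6), if_neg (h7 _ _ h3 h5),
    if_neg (h7 _ _ h3 h6), sub_self]

theorem Ac.spl (h : Ac Φ A g) (hb : ∀ i, blk i ≠ 0) {O : Fin n → Prop} (hO : ∀ i, O (g.π i) ↔ O i)
    (hO' : ∀ i j, blk i = blk j → O i → O j) {i j u v : Fin n} (h1 : i ≠ j) (e : blk i = blk j) (h2 : O i) (h3 : u ≠ v)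
    (e' : blk u = blk v) (h4 : ¬ O u) : Spl (rts D) A := by
  refine ⟨sb Φ O, sb Φ fun i => ¬ O i, ⟨Set.ext fun a => ⟨fun ha => ?_, fun ha => ha.elim (·.1) (·.1)⟩, fun a ha b hb' =>
    ⟨orth_sb hb (fun _ x y => y x) ha hb', orth_sb hb (fun _ x => x) hb' ha⟩, h.nm_sb hb fun i => (hO i).2,
    h.nm_sb hb fun i x y => x ((hO i).1 y)⟩, ⟨_, (mem_sb hb).2 ⟨i, j, h1, e, h2, hO' i j e h2, rfl⟩⟩,
    ⟨_, (mem_sb hb).2 ⟨u, v, h3, e', h4, fun x => h4 (hO' v u e'.symm x), rfl⟩⟩, ex_sb hb _, ex_sb hb _⟩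
  obtain ⟨x, y, h5, h6, h7⟩ := exists_rt Φ hb ⟨a, ha⟩
  by_cases h8 : O x
  · exact Or.inl ((mem_sb hb).2 ⟨x, y, h5, h6, h8, hO' x y h6 h8, congrArg Subtype.val h7⟩)
  · exact Or.inr ((mem_sb hb).2 ⟨x, y, h5, h6, h8, fun z => h8 (hO' y x h6.symm z), congrArg Subtype.val h7⟩)

/-- without the eigenvalue every block lies in a cycle -/
theorem Ac.cyc (h : Ac Φ A g) (hb : ∀ i, blk i ≠ 0) {μ : ℂ} {κ : Fin n → ℂ}
    (e : ∀ l, ((g.s l : ℤ) : ℂ) * κ l = μ * κ (g.π l)) (hκ : ∀ i j, i ≠ j → blk i = blk j → κ i ≠ 0)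
    (hE : ¬ Eig (rts D) A μ) (i j : Fin n) (e' : blk i = blk j) : g.π.SameCycle i j := by
  classical
  by_cases h1 : i = j
  · rw [h1]
  by_contra h2
  refine hE ⟨lf Φ fun l => if g.π.SameCycle i l then κ l else 0, h.isE hb fun l => ?_, _, (rt Φ h1 e').2, fun h3 => ?_⟩
  · simp only [Perm.sameCycle_apply_right]
    split_ifs
    · exact e l
    · simp
  · have h4 := (ev_lf Φ h1 e' _).1 h3
    rw [if_pos (Perm.SameCycle.refl _ _), if_neg h2] at h4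
    exact hκ i j h1 e' h4

theorem orb {j : ℕ} {B : Mat D.R} (hS : St D j B) (hb : ∀ i, blk i ≠ 0) {τ : SG n} (hT : Tw Φ B τ) :
    Spl (rts D) B ∨ ∃ μ : ℂ, ∀ w w', ¬ Eig (rts D) (D.Wm w * B) μ → ¬ Eig (rts D) (D.Wm w' * B) μ → ∃ v, Tc D v w w' := by
  have hA : Ac Φ B τ := ⟨hS.nm', hT.hB⟩
  have hA' : ∀ w, Ac Φ (D.Wm w * B) (Φ.emb w * τ) := fun w =>
    ⟨hS.nm w, by rw [← Matrix.mul_assoc, Φ.hW, Matrix.mul_assoc, hT.hB, map_mul, Matrix.mul_assoc]⟩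
  obtain ⟨μ, κ, h1, h2, h3, h4⟩ := exists_eigf (f := blk) (γ := τ.π) (fun l => ((τ.s l : ℤ) : ℂ)) (hA.iff hb)
    (fun i j e => by rw [(hA.key hb e).2.1]) (U := fun i => ∃ l, i ≠ l ∧ blk i = blk l)
    (fun i => ⟨fun ⟨l, a, b⟩ => ⟨τ.π.symm l, fun x => a (by rw [x, apply_symm_apply]),
        (hA.iff hb _ _).1 (by rwa [apply_symm_apply])⟩,
      fun ⟨l, a, b⟩ => ⟨τ.π l, fun x => a (τ.π.injective x), (hA.iff hb _ _).2 b⟩⟩)
    fun i j e ⟨l, a, b⟩ => (em (j = l)).elim (fun x => ⟨i, fun y => a (y.symm.trans x), e.symm⟩)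
      fun x => ⟨l, x, e.symm.trans b⟩
  by_cases hκ : ∀ i j, i ≠ j → blk i = blk j → κ i ≠ 0
  · refine Or.inr ⟨μ, fun w w' e e' => ?_⟩
    have hw : ∀ w, Ws .D blk (Φ.emb w) := fun w => (Φ.rng _).1 ⟨w, rfl⟩
    have hs : ∀ w l, (Φ.emb w * τ).s l = τ.s l := fun w l => by rw [LV.Cl.mul_s, (hw w).2.1 _ (hb _), one_mul]
    have hπ : ∀ w l, blk ((Φ.emb w * τ).π l) = blk (τ.π l) := fun w l => (hw w).1 _
    have hc : ∀ w, ¬ Eig (rts D) (D.Wm w * B) μ → ∀ i j, blk i = blk j → (Φ.emb w * τ).π.SameCycle i j := fun w e =>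
      (hA' w).cyc hb (fun l => by rw [hs, h2 _ _ (hπ w l), h4]) hκ e
    obtain ⟨σ, h5, h6⟩ := exists_conj (f := blk) (γ := (Φ.emb w * τ).π) (γ' := (Φ.emb w' * τ).π)
      (fun i j e => by rw [hπ, hπ, hA.iff hb, e]) (hc w e) (hc w' e')
    obtain ⟨v, hv⟩ := (Φ.rng ⟨σ, 1⟩).2 ⟨h5, fun _ _ => rfl, fun _ =>
      show ∏ _l : Fin n, (1 : ℤˣ) = 1 from Finset.prod_const_one⟩
    refine ⟨v, Φ.inj ?_⟩
    have h7 : Φ.emb w' * τ * Φ.emb v = Φ.emb v * (Φ.emb w * τ) := by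
      rw [hv]
      refine LV.Cl.SG.ext h6.symm (funext fun l => ?_)
      show (Φ.emb w' * τ).s (σ l) * 1 = 1 * (Φ.emb w * τ).s l
      rw [hs, hs, (hA.key hb (h5 l)).2.1, mul_comm]
    rw [map_mul, map_mul, hT.tw, ← mul_assoc, ← mul_assoc, h7, ← mul_assoc, mul_inv_cancel_right]
  · push Not at hκ
    obtain ⟨u, v, h5, h6, h7⟩ := hκ
    obtain ⟨i, hi⟩ := Function.ne_iff.1 (h1 ⟨u, v, h5, h6⟩)
    obtain ⟨l, h8, h9⟩ : ∃ l, i ≠ l ∧ blk i = blk l := by_contra fun x => hi (h3 i x)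
    have h0 : ∀ l, κ l ≠ 0 → μ * κ (τ.π l) ≠ 0 := fun l x => by
      rw [← h4]
      exact mul_ne_zero (Int.cast_ne_zero.2 (τ.s l).ne_zero) x
    refine Or.inl (hA.spl hb (O := fun i => κ i ≠ 0) (fun x => ⟨fun y z => ?_, fun y => right_ne_zero_of_mul (h0 x y)⟩)
      (fun a b x y => h2 a b x ▸ y) h8 h9 hi h5 h6 fun x => x h7)
    have h10 := h4 x
    rw [z, mul_zero] at h10
    exact mul_ne_zero (left_ne_zero_of_mul (h0 i hi)) y h10.symm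

end TA

variable (D) in
/-- **type `A`** -/
theorem boxTA : BoxTA D :=
  ⟨fun _ _ _ Φ hb _ h => TA.cen Φ hb h, fun _ _ hS _ _ _ _ hb _ hT => TA.orb hS hb hT⟩

end Cfsg.Agent.HZ.L.X
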