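import Cfsg.Agent.HZ.L.X.Bas
import Cfsg.Agent.HZ.L.X.Prod

/-!
# HZ/L, the exact system: triality (helper60)
-/

set_option autoImplicit false
set_option linter.unusedSectionVars false

namespace Cfsg.Agent.HZ.L.X

open Cfsg Cfsg.Agent.DL Cfsg.Agent.DL.PP Matrix Cfsg.Agent.KZ.Lie Finset
open Cfsg.Agent.LV.Lab (yv)

namespace TriB

/-! ### finite checks -/

/-- the `3`-cycle -/
def sg : Fin 4 → Fin 4 := ![0, 2, 3, 1]

/-- a sign change -/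
def dl (i : Fin 4) : Fin 4 → ℤˣ := Pi.mulSingle i (-1)

/-- the sign vectors which are trivial on `S` -/
def Tt (S : Finset (Fin 4)) : Finset (Fin 4 → ℤˣ) := {u | ∀ i ∈ S, u i = 1}

/-- four orthogonal roots -/
def al (l : Fin 4 → Fin 4) : Fin 4 → Fin 4 → ℤ :=
  ![Pi.single (l 0) 1 - Pi.single (l 1) 1, Pi.single (l 0) 1 + Pi.single (l 1) 1,
    Pi.single (l 2) 1 - Pi.single (l 3) 1, Pi.single (l 2) 1 + Pi.single (l 3) 1]

theorem sum_eq (y : (Fin 4 → ℤˣ) → ℤ) : ∑ t, y t = ∑ a, ∑ b, ∑ c, ∑ d, y ![a, b, c, d] :=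
  (Fintype.sum_equiv (⟨fun x : ℤˣ × ℤˣ × ℤˣ × ℤˣ => ![x.1, x.2.1, x.2.2.1, x.2.2.2], fun t => (t 0, t 1, t 2, t 3),
    fun _ => rfl, fun t => by ext i; fin_cases i <;> rfl⟩) _ _ fun _ => rfl).symm.trans
    (by simp only [Fintype.sum_prod_type]; rfl)

theorem four {a b c d : ℤ} (h0 : a ≠ 0) (h1 : 2 ∣ a + b) (h2 : 2 ∣ a + c) (h3 : 2 ∣ c + d) :
    4 ≤ a ^ 2 + b ^ 2 + c ^ 2 + d ^ 2 := by
  have h4 : ∀ x : ℤ, x ≠ 0 → 1 ≤ x ^ 2 := fun x h => Int.add_one_le_of_lt (a := 0) (by positivity)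
  rcases Int.even_or_odd' a with ⟨n, rfl | rfl⟩
  · have := h4 n (by omega)
    nlinarith [sq_nonneg b, sq_nonneg c, sq_nonneg d]
  · have := h4 _ h0
    have := h4 b (by omega)
    have := h4 c (by omega)
    have := h4 d (by omega)
    omega

/-- four values of equal parity -/
theorem arith {y : (Fin 4 → ℤˣ) → ℤ} (h0 : y 1 ≠ 0) (h1 : ∀ i t, y (dl i * t * dl (sg i)) = y t)
    (h2 : ∀ S ∈ ({{0}, {1, 2, 3}} : Finset (Finset (Fin 4))), ∀ t, (#(Tt S) : ℤ) ∣ ∑ u ∈ Tt S, y (u * t)) :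
    16 ≤ ∑ t, y t ^ 2 := by
  have h3 : ∀ t, y t = y ![t 0, t 1 * t 2 * t 3, 1, 1] := fun t => by
    have h4 : ∀ t : Fin 4 → ℤˣ, ∃ i, t = dl i * ![t 0, t 1 * t 2 * t 3, 1, 1] * dl (sg i) := by decide
    obtain ⟨i, e⟩ := h4 t
    exact (congrArg y e).trans (h1 i _)
  generalize hY : (fun a b => y ![a, b, 1, 1]) = Y
  have h4 : ∀ t, y t = Y (t 0) (t 1 * t 2 * t 3) := fun t => hY ▸ h3 t
  have h5 := h2 {0} (by simp) 1
  have h6 := h2 {1, 2, 3} (by simp) 1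
  have h7 := h2 {1, 2, 3} (by simp) ![1, -1, 1, 1]
  rw [show #(Tt {0}) = 8 by decide] at h5
  rw [show #(Tt {1, 2, 3}) = 2 by decide] at h6 h7
  simp only [Tt, sum_filter, sum_eq, h4, UnitsInt.univ] at h0 h5 h6 h7 ⊢
  simp at h0 h5 h6 h7 ⊢
  have := four (a := Y 1 1) (b := Y (-1) 1) (c := Y 1 (-1)) (d := Y (-1) (-1)) h0 (by omega) (by omega) (by omega)
  omega

theorem sg_surj : ∀ S ∈ ({{0}, {1, 2, 3}} : Finset (Finset (Fin 4))), ∀ k ∈ S, ∃ l ∈ S, sg l = k := by decide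

theorem exists_hom {W : Type*} [Group W] {s : Fin 4 → W} (h2 : ∀ i, s i * s i = 1) (hc : ∀ i j, i ≠ j → Commute (s i) (s j)) :
    ∃ e : (Fin 4 → ℤˣ) →* W, ∀ i, e (dl i) = s i := by
  let φ : Fin 4 → ℤˣ →* W := fun i => MonoidHom.mk' (fun u => if u = 1 then 1 else s i) fun u v => by
    rcases Int.units_eq_one_or u with rfl | rfl <;> rcases Int.units_eq_one_or v with rfl | rfl <;> simp [h2]
  refine ⟨MonoidHom.noncommPiCoprod φ fun i j h x y => ?_, fun i => MonoidHom.noncommPiCoprod_mulSingle _ _ _⟩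
  simp only [φ, MonoidHom.mk'_apply]
  split_ifs
  exacts [Commute.refl _, Commute.one_left _, Commute.one_right _, hc i j h]

theorem cyc3 : ∀ σ : Fin 4 → Fin 4, Function.Injective σ →
    (∀ i j, (![1, 1, 0, 0] i + ![1, 1, 0, 0] (σ i) + ![1, 1, 0, 0] (σ (σ i)) : ZMod 2) =
      ![1, 1, 0, 0] j + ![1, 1, 0, 0] (σ j) + ![1, 1, 0, 0] (σ (σ j))) →
    ∃ τ : Fin 4 → Fin 4, Function.Bijective τ ∧ ∀ i, σ (τ i) = τ (sg i) := by
  decide +kernel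

theorem pairs : ∀ x : Fin 4 → Bool, #{j | x j = true} ≠ 1 → #{j | x j = false} ≠ 1 → (∃ i j, x i ≠ x j) →
    ∃ l ∈ [![0, 1, 2, 3], ![0, 2, 1, 3], ![0, 3, 1, 2]],
      (∀ k, ∃ i j, ∃ s t : ℤˣ, i ≠ j ∧ x i = x j ∧ al l k = Pi.single i (s : ℤ) + Pi.single j (t : ℤ)) ∧
      (∀ k k', al l k ⬝ᵥ al l k' = if k = k' then 2 else 0) ∧ ∀ i j, ∀ s t : ℤˣ, i ≠ j →
        (∃ k, ∃ ε : ℤˣ, Pi.single i (s : ℤ) + Pi.single j (t : ℤ) = (ε : ℤ) • al l k) ∨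
          x i ≠ x j ∧ ∀ k, Odd ((Pi.single i (s : ℤ) + Pi.single j (t : ℤ)) ⬝ᵥ al l k) := by
  decide +kernel

theorem std_iff {n : ℕ} {b : Vec (Fin n) × Vec (Fin n)} : b ∈ std .D (b0 n) ↔ ∃ i j, ∃ s t : ℤˣ, i ≠ j ∧
    b = (Pi.single i (s : ℤ) + Pi.single j (t : ℤ), Pi.single i (s : ℤ) + Pi.single j (t : ℤ)) := by
  constructor
  · rintro (⟨i, j, h, -, rfl⟩ | ⟨i, j, s, h, -, -, rfl⟩ | ⟨i, s, -, ⟨h, -⟩ | ⟨h, -⟩⟩)
    · exact ⟨i, j, 1, -1, h, by simp [sub_eq_add_neg, Pi.single_neg]⟩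
    · exact ⟨i, j, s, s, h, rfl⟩
    · cases h
    · cases h
  · rintro ⟨i, j, s, t, h, rfl⟩
    by_cases e : s = t
    · exact .inr (.inl ⟨i, j, s, h, rfl, rfl, e ▸ rfl⟩)
    rcases Int.units_eq_one_or s with rfl | rfl <;> rcases Int.units_eq_one_or t with rfl | rfl
    · exact absurd rfl e
    · exact .inl ⟨i, j, h, rfl, by simp [sub_eq_add_neg, Pi.single_neg]⟩
    · exact .inl ⟨j, i, h.symm, rfl, by simp [sub_eq_add_neg, Pi.single_neg, add_comm]⟩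
    · exact absurd rfl e

theorem chr_sx {n : ℕ} (x : Fin n → Bool) (i j : Fin n) (s t : ℤˣ) :
    chr (Pi.single i (s : ℤ) + Pi.single j (t : ℤ)) (sx x) = if x i = x j then 1 else -1 := by
  have h : ∀ (i : Fin n) (s : ℤˣ), chr (Pi.single i (s : ℤ)) (sx x) = sx x i := fun i s => by
    rw [show (Pi.single i (s : ℤ) : Fin n → ℤ) = (s : ℤ) • Pi.single i 1 by rw [← Pi.single_smul, smul_eq_mul, mul_one],
      chr_zsmul, chr_single, sx]
    rcases Int.units_eq_one_or s with rfl | rfl <;> split_ifs <;> simp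
  rw [chr_add, h, h, sx, sx]
  cases x i <;> cases x j <;> simp

theorem qv_even {z : Fin 4 → ℤ} (h : Even (∑ i, z i)) : z ∈ Qv (std .D (b0 4)) := by
  obtain ⟨d, h⟩ := h
  have h1 : ∀ (i j : Fin 4) (t : ℤˣ) (m : ℤ), i ≠ j →
      m • (Pi.single i ((1 : ℤˣ) : ℤ) + Pi.single j (t : ℤ) : Fin 4 → ℤ) ∈ Qv (std .D (b0 4)) := fun i j t m e =>
    Submodule.smul_mem _ _ (Qv.cor (std_iff.2 ⟨i, j, 1, t, e, rfl⟩))
  convert add_mem (add_mem (h1 0 1 (-1) (z 0) (by decide)) (h1 1 2 (-1) (z 0 + z 1) (by decide)))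
    (add_mem (h1 2 3 (-1) (d - z 3) (by decide)) (h1 2 3 1 d (by decide))) using 1
  rw [Fin.sum_univ_four] at h
  funext i
  fin_cases i <;> simp
  all_goals omega

/-! ### the combinatorial layer -/

section Comb

variable {R : Type} [Fintype R] [DecidableEq R] {Ψ : RS R} {c : Lb R} {a : Fin 4 → Vec R × Vec R} {A B : Mat R}

/-- the roots of the label are four orthogonal pairs -/
structure Fam (Ψ : RS R) (c : Lb R) (a : Fin 4 → Vec R × Vec R) : Prop where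
  mem : ∀ i, a i ∈ Ψ
  one : ∀ i, chr (a i).2 c = 1
  dot : ∀ i j, (a i).1 ⬝ᵥ (a j).2 = if i = j then 2 else 0
  rt : ∀ b ∈ Ψ, (∃ i, ∃ ε : ℤˣ, b = (ε : ℤ) • a i) ∨
    chr b.2 c = -1 ∧ ∀ i, Odd (b.1 ⬝ᵥ (a i).2) ∧ Odd ((a i).1 ⬝ᵥ b.2)

/-- triality without coordinates -/
def Cy (Ψ : RS R) (B : Mat R) : Prop := ∀ v, ∃ y ∈ Qv Ψ, Perp Ψ (v + B *ᵥ v + B *ᵥ (B *ᵥ v) - y)

/-- `A` maps `a` to `± b` -/
def Mp (A : Mat R) (a b : Vec R × Vec R) : Prop :=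
  ∃ ε : ℤˣ, A *ᵥ a.2 = (ε : ℤ) • b.2 ∧ ∀ v, b.1 ⬝ᵥ (A *ᵥ v) = ε * (a.1 ⬝ᵥ v)

theorem Mp.rfm {a b : Vec R × Vec R} (h : Mp A a b) : A * rfm a = rfm b * A := by
  obtain ⟨ε, h1, h2⟩ := h
  refine Matrix.ext_of_mulVec_single fun i => ?_
  rw [← mulVec_mulVec, ← mulVec_mulVec, rfm_vec, rfm_vec, mulVec_sub, mulVec_smul, h1, h2, smul_smul, mul_comm]

theorem rfm_smul (ε : ℤˣ) (a : Vec R × Vec R) : rfm ((ε : ℤ) • a) = rfm a := by
  rcases Int.units_eq_one_or ε with rfl | rfl <;> simp [rfm, neg_vecMulVec, vecMulVec_neg]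

theorem Cy.mul (h : Cy Ψ B) (hB : Nm B Ψ) (hA : A ∈ WW Ψ) : Cy Ψ (A * B) := fun v => by
  obtain ⟨y, hy, h⟩ := h v
  have h1 := Qv.sub hA (B *ᵥ v)
  refine ⟨_, add_mem hy (add_mem (add_mem h1 (Qv.nm hB h1)) (Qv.sub hA (B *ᵥ (A *ᵥ (B *ᵥ v))))), ?_⟩
  convert h using 1
  simp only [← mulVec_mulVec, mulVec_sub]
  abel

theorem unit_two (ε : ℤˣ) : ((ε : ℤ) : ZMod 2) = 1 := by rcases Int.units_eq_one_or ε with rfl | rfl <;> rfl

namespace Fam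

variable (H : Fam Ψ c a)
include H

theorem comp {τ : Fin 4 → Fin 4} (h : Function.Bijective τ) : Fam Ψ c (a ∘ τ) where
  mem _ := H.mem _
  one _ := H.one _
  dot i j := (H.dot _ _).trans (by simp only [h.1.eq_iff])
  rt b hb := (H.rt b hb).imp (fun ⟨i, e⟩ => (h.2 i).imp fun _ e' => by subst e'; exact e) fun e => ⟨e.1, fun _ => e.2 _⟩

theorem chr_one (i : Fin 4) (ε : ℤˣ) : chr ((ε : ℤ) • a i).2 c = 1 := by rw [Prod.smul_snd, chr_zsmul, H.one, _root_.one_zpow]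

theorem of_one {b : Vec R × Vec R} (hb : b ∈ Ψ) (h : chr b.2 c = 1) : ∃ i, ∃ ε : ℤˣ, b = (ε : ℤ) • a i :=
  (H.rt b hb).resolve_right fun e => absurd (congrArg Units.val (h.symm.trans e.1)) (by norm_num)

theorem odd {q : ℤ} (hA : Nm A Ψ) (h : ∀ v, chr (A *ᵥ v) c ^ q = chr v c) (hc : ¬ Cen Ψ c) : Odd q :=
  Int.not_even_iff_odd.1 fun e => hc fun b hb => by
    obtain ⟨b', hb', h1, -⟩ := hA b hb
    rw [← h, h1]
    rcases H.rt b' hb' with ⟨i, ε, rfl⟩ | h2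
    · rw [H.chr_one, _root_.one_zpow]
    · rw [h2.1, e.neg_one_zpow]

theorem par {v : Vec R} (hv : v ∈ Qv Ψ) (i j : Fin 4) : (((a i).1 ⬝ᵥ v : ℤ) : ZMod 2) = ((a j).1 ⬝ᵥ v : ℤ) := by
  refine Qv.ind (P := fun v => (((a i).1 ⬝ᵥ v : ℤ) : ZMod 2) = ((a j).1 ⬝ᵥ v : ℤ)) hv (by simp) (fun b hb => ?_)
    (fun x y e e' => by simp only [dotProduct_add, Int.cast_add, e, e'])
    fun m x e => by simp only [dotProduct_smul, smul_eq_mul, Int.cast_mul, e]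
  rcases H.rt b hb with ⟨l, ε, rfl⟩ | h
  · simp only [Prod.smul_snd, dotProduct_smul, H.dot, smul_eq_mul, Int.cast_mul, unit_two]
    split_ifs <;> rfl
  · rw [ZMod.intCast_eq_one_iff_odd.2 (h.2 i).2, ZMod.intCast_eq_one_iff_odd.2 (h.2 j).2]

theorem cow {p : ℕ} (hp : Odd (p : ℤ)) (hz : Cz p Ψ) : ∃ E, ∀ i, (((a i).1 ⬝ᵥ E : ℤ) : ZMod 2) = ![1, 1, 0, 0] i := by
  obtain ⟨m, hz⟩ := hz
  obtain ⟨l, hl⟩ := Prd.exists_div ((dotProductBilin ℤ ℤ).flip ((a 0).2 + (a 1).2) ∘ₗ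
    (Submodule.span ℤ (Prod.fst '' Ψ)).subtype) two_ne_zero fun ⟨x, hx⟩ => by
      show 2 ∣ x ⬝ᵥ _
      induction hx using Submodule.span_induction with
      | mem x hx =>
        obtain ⟨b, hb, rfl⟩ := hx
        rcases H.rt b hb with ⟨l, ε, rfl⟩ | h
        · simp only [Prod.smul_fst, smul_dotProduct, dotProduct_add, H.dot, smul_eq_mul]
          split_ifs <;> simp
        · exact dotProduct_add b.1 _ _ ▸ ((h.2 0).1.add_odd (h.2 1).1).two_dvd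
      | zero => simp
      | add x y _ _ e e' => exact add_dotProduct x y _ ▸ dvd_add e e'
      | smul m x _ e => exact smul_dotProduct m x _ ▸ e.mul_left m
  obtain ⟨E, hE⟩ := hz l
  refine ⟨E, fun i => ?_⟩
  have h1 : (a i).1 ⬝ᵥ _ = _ := hl ⟨_, Submodule.subset_span ⟨_, H.mem i, rfl⟩⟩
  rw [show (a i).1 ⬝ᵥ E = _ from hE ⟨_, Submodule.subset_span ⟨_, H.mem i, rfl⟩⟩, Int.cast_mul,
    ZMod.intCast_eq_one_iff_odd.2 hp.pow, one_mul]
  generalize l _ = z at h1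
  rw [dotProduct_add, H.dot, H.dot] at h1
  fin_cases i <;> simp at h1 ⊢
  all_goals first | (obtain rfl : z = 1 := by omega); rfl | (subst h1; rfl)

/-- the twist is a `3`-cycle -/
theorem exists_cyc {p : ℕ} {q : ℤ} (hp : Odd (p : ℤ)) (hz : Cz p Ψ) (hq : Odd q) (hA : Nm A Ψ)
    (h : ∀ v, chr (A *ᵥ v) c ^ q = chr v c) (hy : Cy Ψ A) :
    ∃ τ, Function.Bijective τ ∧ ∀ i, Mp A (a (τ i)) (a (τ (sg i))) := by
  have h1 : ∀ i, ∃ j, Mp A (a i) (a j) := fun i => by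
    obtain ⟨b, hb, h1, h2⟩ := hA _ (H.mem i)
    rcases H.rt b hb with ⟨j, ε, rfl⟩ | h3
    · refine ⟨j, ε, h1, fun v => ?_⟩
      rw [← h2, ← dotProduct_mulVec, Prod.smul_fst, smul_dotProduct, smul_eq_mul, ← mul_assoc, ← Units.val_mul,
        Int.units_mul_self, Units.val_one, one_mul]
    · have h4 := h (a i).2
      rw [h1, h3.1, hq.neg_one_zpow, H.one] at h4
      exact absurd (congrArg Units.val h4) (by norm_num)
  choose σ hσ using h1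
  obtain ⟨E, hE⟩ := H.cow hp hz
  obtain ⟨y, hy, h2⟩ := hy E
  have h3 : ∀ i v, (((a (σ i)).1 ⬝ᵥ (A *ᵥ v) : ℤ) : ZMod 2) = ((a i).1 ⬝ᵥ v : ℤ) := fun i v => by
    obtain ⟨ε, -, e⟩ := hσ i
    rw [e, Int.cast_mul, unit_two, one_mul]
  have h4 : ∀ i, (![1, 1, 0, 0] i + ![1, 1, 0, 0] (σ i) + ![1, 1, 0, 0] (σ (σ i)) : ZMod 2) =
      ((a (σ (σ i))).1 ⬝ᵥ y : ℤ) := fun i => by
    have h5 := h2 _ (H.mem (σ (σ i)))
    rw [dotProduct_sub, sub_eq_zero] at h5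
    simp only [← h5, dotProduct_add, Int.cast_add, h3, hE]
    ring
  obtain ⟨τ, h5, h6⟩ := cyc3 σ (fun i j e => by
    obtain ⟨ε, -, h5⟩ := hσ i
    obtain ⟨ε', -, h6⟩ := hσ j
    have h7 := (h5 (a i).2).symm.trans (e ▸ h6 (a i).2)
    by_contra h8
    simp [H.dot, Ne.symm h8] at h7) fun i j => by rw [h4, h4, H.par hy]
  exact ⟨τ, h5, fun i => h6 i ▸ hσ _⟩

theorem lev_nf {S : Finset (Fin 4)} (hS : S ∈ ({{0}, {1, 2, 3}} : Finset (Finset (Fin 4)))) {b : Vec R × Vec R}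
    (hb : b ∈ lev Ψ (∑ k ∈ S, (a k).2)) : ∃ i ∉ S, ∃ ε : ℤˣ, b = (ε : ℤ) • a i := by
  have h1 := hb.2
  rw [dotProduct_sum] at h1
  rcases H.rt b hb.1 with ⟨i, ε, rfl⟩ | h
  · refine ⟨i, fun e => ?_, ε, rfl⟩
    simp only [Prod.smul_fst, smul_dotProduct, H.dot] at h1
    simp [e] at h1
  · have h0 := Int.odd_iff.1 (h.2 0).1
    have h2 := Int.odd_iff.1 (h.2 1).1
    have h3 := Int.odd_iff.1 (h.2 2).1
    have h4 := Int.odd_iff.1 (h.2 3).1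
    simp only [mem_insert, mem_singleton] at hS
    rcases hS with rfl | rfl <;> simp at h1 <;> omega

theorem lev_nm {S : Finset (Fin 4)} (hS : S ∈ ({{0}, {1, 2, 3}} : Finset (Finset (Fin 4)))) (hA : Nm A Ψ)
    (h : ∀ i, ∃ ε : ℤˣ, A *ᵥ (a i).2 = (ε : ℤ) • (a (sg i)).2) : Nm A (lev Ψ (∑ k ∈ S, (a k).2)) := fun b hb => by
  obtain ⟨b', hb', h1, h2⟩ := hA b hb.1
  refine ⟨b', ⟨hb', ?_⟩, h1, h2⟩
  rw [dotProduct_sum]
  refine sum_eq_zero fun k hk => ?_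
  obtain ⟨l, hl, rfl⟩ := sg_surj S hS k hk
  obtain ⟨i, hi, ε, rfl⟩ := H.lev_nf hS hb
  obtain ⟨ε', e⟩ := h l
  have h3 := dotProduct_mulVec b'.1 A (a l).2
  rw [h2, e, Prod.smul_fst, smul_dotProduct, dotProduct_smul, H.dot, if_neg (ne_of_mem_of_not_mem hl hi).symm] at h3
  simpa using h3

end Fam

end Comb

/-! ### data -/

variable {p : ℕ} [Fact p.Prime] {k : Type} [Field k] [CharP k p] [IsAlgClosed k] {Y : Type} [Group Y] {N : Type}
  [Fintype N] [DecidableEq N] {ρ : Y →* GL N k} {F : MulAut Y} {G : Subgroup Y} {D : Datum p ρ F G}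
  {j : ℕ} {B : Mat D.R} {c : Lbl D} {w : D.W} {a : Fin 4 → Vec D.R × Vec D.R}

theorem lift (Φ : Fw D .D (b0 4) 2) {u : Vec D.R} {z : Fin 4 → ℤ} (hz : Even (∑ i, z i)) (h : Φ.P *ᵥ u = (2 : ℤ) • z) :
    ∃ y ∈ Qv (rts D), Perp (rts D) (u - y) :=
  (Φ.lift (qv_even hz)).imp fun _ e => ⟨e.1, (Φ.perp _).2 (by rw [mulVec_sub, h, e.2.1, sub_self])⟩

theorem cy {Φ : Fw D .D (b0 4) 2} (h : Cyc Φ B) : Cy (rts D) B := fun v => (h v).elim fun _ e => lift Φ e.1 e.2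

theorem fx_pow (h : St D j B) (hc : Fx D w c) (v : Vec D.R) : chr ((D.Wm w * B) *ᵥ v) c ^ (p : ℤ) ^ j = chr v c := by
  rw [← chr_zsmul, ← smul_mulVec, ← h.WM]
  exact hc v

theorem cen (hp : p ≠ 2) (h : St D j B) (Φ : Fw D .D (b0 4) 2) (hy : Cyc Φ B) {c' : Lbl D} {w' : D.W}
    (h1 : Cen (rts D) c) (h2 : Cen (rts D) c') (h3 : PE (rts D) c c') (h4 : Fx D w c) (h5 : Fx D w' c') : c = c' := by
  have h6 : ∀ u, (∃ y ∈ Qv (rts D), Perp (rts D) (u - y)) → chr u (c' / c) = 1 := fun u ⟨y, hy, e⟩ => by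
    rw [← sub_add_cancel u y, map_div, chr_add, chr_add, h3 _ e, h1.chr hy, h2.chr hy, div_self']
  have h7 : ∀ v, chr v (c' / c) ^ (2 : ℤ) = 1 := fun v => by
    rw [← chr_zsmul]
    refine h6 _ (lift Φ ?_ (mulVec_smul _ _ _))
    have h7 : ∀ i l : Fin 4, i ≠ l → Even ((Φ.P *ᵥ v) i + (Φ.P *ᵥ v) l) := fun i l e => by
      have h8 := Φ.dot (Φ.φ.symm ⟨_, std_iff.2 ⟨i, l, 1, 1, e, rfl⟩⟩) v
      simp only [Equiv.apply_symm_apply, add_dotProduct, single_dotProduct, Units.val_one, one_mul] at h8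
      exact h8 ▸ even_two_mul _
    rw [Fin.sum_univ_four, add_assoc]
    exact (h7 0 1 (by decide)).add (h7 2 3 (by decide))
  have h8 : ∀ {c w}, Cen (rts D) c → Fx D w c → ∀ v, chr (B *ᵥ v) c ^ (p : ℤ) ^ j = chr v c := fun {c w} e e' v => by
    rw [← fx_pow h e' v, ← mulVec_mulVec, tl_of_cor e (Wm_mem w)]
  have h9 : ∀ v, chr (B *ᵥ v) (c' / c) = chr v (c' / c) := fun v => by
    obtain ⟨m, hm⟩ : Odd ((p : ℤ) ^ j) := ((Int.odd_coe_nat p).2 ((Fact.out : p.Prime).odd_of_ne_two hp)).pow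
    rw [map_div _ c' c, map_div _ c' c, ← h8 h1 h4 v, ← h8 h2 h5 v, ← div_zpow, ← map_div, hm, _root_.zpow_add,
      _root_.zpow_mul, h7, _root_.one_zpow, one_mul, zpow_one]
  refine eq_of_chr D fun v => (div_eq_one.1 ?_).symm
  have h10 := h6 _ (cy hy v)
  rwa [chr_add, chr_add, h9 (B *ᵥ v), h9, ← zpow_two, h7, one_mul, map_div] at h10

theorem exists_fam (Φ : Fw D .D (b0 4) 2) {x : Fin 4 → Bool} (h1 : Pat Φ c x) (h2 : Ok .D x) (h3 : ¬ Cen (rts D) c) :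
    ∃ a, Fam (rts D) c a := by
  obtain ⟨l, -, h4, h5, h6⟩ := pairs x (h2.1 rfl) (h2.2 nofun) (by
    by_contra e
    push Not at e
    refine h3 fun b hb => ?_
    obtain ⟨i, l, s, t, -, h4⟩ := std_iff.1 (Φ.φ ⟨b, hb⟩).2
    rw [h1 ⟨b, hb⟩, h4, chr_sx, if_pos (e i l)])
  have h7 : ∀ i, (al l i, al l i) ∈ std .D (b0 4) := fun i => by
    obtain ⟨i, j, s, t, e, -, e'⟩ := h4 i
    exact std_iff.2 ⟨i, j, s, t, e, by rw [e']⟩
  refine ⟨fun i => (Φ.φ.symm ⟨_, h7 i⟩).1, fun i => (Φ.φ.symm _).2, fun i => ?_, fun i j => ?_, fun b hb => ?_⟩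
  · obtain ⟨i, j, s, t, -, e, e'⟩ := h4 i
    rw [h1, Equiv.apply_symm_apply]
    exact (congrArg (chr · _) e').trans ((chr_sx ..).trans (if_pos e))
  · rw [← Φ.car, Equiv.apply_symm_apply, Equiv.apply_symm_apply, h5]
  obtain ⟨i, j, s, t, e, h8⟩ := std_iff.1 (Φ.φ ⟨b, hb⟩).2
  rcases h6 i j s t e with ⟨m, ε, e'⟩ | e'
  on_goal 1 => refine .inl ⟨m, ε, Prod.ext ?_ ?_⟩
  on_goal 3 => refine .inr ⟨?_, fun m => ⟨?_, ?_⟩⟩
  · refine smul_right_injective _ (two_ne_zero (α := ℤ)) ((Φ.h1 ⟨b, hb⟩).symm.trans ?_)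
    beta_reduce
    rw [Prod.smul_fst, smul_comm, ← Φ.h1, Equiv.apply_symm_apply, h8, e', smul_vecMul]
  · refine Φ.P_ext (Submodule.sub_mem _ (Qv.cor hb) (Submodule.smul_mem _ _ (Qv.cor (Φ.φ.symm _).2))) ((Φ.h2 ⟨b, hb⟩).trans ?_)
    rw [Prod.smul_snd, mulVec_smul, Φ.h2, Equiv.apply_symm_apply, h8, e', smul_comm]
  · rw [h1 ⟨b, hb⟩, h8, chr_sx, if_neg e'.1]
  · rw [← Φ.car ⟨b, hb⟩, Equiv.apply_symm_apply, h8]
    exact e'.2 m
  · rw [← Φ.car _ ⟨b, hb⟩, Equiv.apply_symm_apply, h8, dotProduct_comm]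
    exact e'.2 m

theorem core [Fintype ↥(GF F G)] (h : St D j B) (hz : Cz p (rts D)) (H : Fam (rts D) c a)
    (hA : ∀ i, Mp (D.Wm w * B) (a i) (a (sg i))) (f : Fr D) {χ : ↥(GF F G) → ℂ} (hχ : IsIrrCharacter _ χ)
    (hw : Has f χ w c) : 1 ≤ LV.Lab.nr f χ c := by
  classical
  have := Fintype.ofFinite D.W
  choose b hb hab using H.mem
  have h1 : ∀ i, D.Wm (D.rf (b i)) = rfm (a i) := fun i => by rw [hab, rfm_eq (hb i)]
  obtain ⟨e, he⟩ := exists_hom (s := fun i => D.rf (b i)) (fun i => D.rf_mul_self (hb i)) fun i l n => D.Wm_injective (by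
    rw [D.Wm_mul, D.Wm_mul, h1, h1]
    exact Mp.rfm ⟨1, by simp [rfm_vec, H.dot, n], fun v => by
      simp [rfm_vec, H.dot, n.symm, -zsmul_eq_mul]⟩)
  have h2 : ∀ t i, D.Wm (e t) *ᵥ (a i).2 = (t i : ℤ) • (a i).2 := fun t i => by
    induction t using Pi.mulSingle_induction with
    | one => simp [D.Wm_one]
    | mul s t hs ht => rw [map_mul, D.Wm_mul, ← mulVec_mulVec, ht, mulVec_smul, hs, smul_smul, mul_comm]; rfl
    | mulSingle l m =>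
      rcases Int.units_eq_one_or m with rfl | rfl
      · simp [D.Wm_one]
      · rw [show e (Pi.mulSingle l (-1)) = _ from he l, h1, rfm_vec, H.dot, Pi.mulSingle_apply]
        by_cases n : l = i
        · subst n
          simp [two_smul]
        · simp [n, Ne.symm n]
  have h3 : Function.Injective e := fun s t n => funext fun i => by
    have h3 := congrArg ((a i).1 ⬝ᵥ ·) ((h2 s i).symm.trans (n ▸ h2 t i))
    simpa [H.dot, Units.val_inj, -zsmul_eq_mul] using h3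
  have h4 : ∀ u, Rel D u c c → u ∈ e.range := fun u => stab_le hz hw.fo fun β hβ n => by
    obtain ⟨i, ε, n⟩ := H.of_one (rt_mem hβ) n
    exact ⟨dl i, D.Wm_injective (by rw [he, h1, ← rfm_eq hβ, n, rfm_smul])⟩
  have h5 : ∀ t, Rel D (e t) c c := fun t => by
    induction t using Pi.mulSingle_induction with
    | one => exact map_one e ▸ rel_one D c
    | mul s t hs ht => exact map_mul e s t ▸ ht.trans hs
    | mulSingle l m =>
      rcases Int.units_eq_one_or m with rfl | rfl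
      · rw [Pi.mulSingle_one, map_one]
        exact rel_one D c
      · rw [show e (Pi.mulSingle l (-1)) = _ from he l, rel_iff, h1]
        exact tl_of_cor (Ψ := Zc (rts D) c) (fun _ n => n.2) (rfm_mem ⟨H.mem l, H.one l⟩)
  choose y hy using fun t => LV.Lab.yv_int f (Uni.gen_of_irr hχ) c (e t * w)
  have h6 := arith (y := y) (fun n => hw (show yv f χ c w = 0 by simpa [n] using hy 1)) (fun i t => Int.cast_injective (α := ℂ) (by
    rw [← hy, ← hy]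
    refine (LV.Lab.yv_conj f χ (h.tc_iff.2 ?_) (h5 (dl i))).symm
    rw [D.Wm_mul, D.Wm_mul, mul_assoc _ _ B, mul_assoc _ _ B, mul_assoc, ← mul_assoc (D.Wm (e (dl i))), ← D.Wm_mul,
      ← map_mul, he, h1, (hA i).rfm, ← h1, ← he, ← mul_assoc, ← D.Wm_mul, ← map_mul, mul_assoc _ (dl _),
      show dl (sg i) * dl (sg i) = 1 by revert i; decide, mul_one])) fun S hS t => by
    have h6 : (Wl D (∑ k ∈ S, (a k).2) : Set D.W) = e '' Tt S := Set.ext fun u => by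
      refine ⟨fun hu => ?_, ?_⟩
      · obtain ⟨s, rfl⟩ := h4 u (tl_of_cor (fun β hβ => by
          obtain ⟨i, -, ε, rfl⟩ := H.lev_nf hS hβ
          exact H.chr_one i ε) (mem_WW_lev.2 ⟨u, hu, rfl⟩))
        refine ⟨s, mem_filter.2 ⟨mem_univ _, fun i hi => ?_⟩, rfl⟩
        have h6 := congrArg ((a i).1 ⬝ᵥ ·) (show D.Wm (e s) *ᵥ _ = _ from hu)
        simpa [mulVec_sum, h2, dotProduct_sum, H.dot, hi, -zsmul_eq_mul] using h6
      · rintro ⟨s, hs, rfl⟩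
        show D.Wm _ *ᵥ _ = _
        rw [mulVec_sum]
        exact sum_congr rfl fun i hi => by rw [h2, (mem_filter.1 hs).2 i hi, Units.val_one, one_smul]
    obtain ⟨z, h7⟩ := levi_int f h (w₁ := e t * w) (H.lev_nm hS (h.nm _) fun i => by
      obtain ⟨ε, n, -⟩ := hA i
      exact ⟨ε * t (sg i), by rw [D.Wm_mul, mul_assoc, ← mulVec_mulVec, n, mulVec_smul, h2, smul_smul, Units.val_mul]⟩)
      (fun v => by rw [D.Wm_mul, mul_assoc, ← mulVec_mulVec, h5 t, hw.fx v]) (fun β hβ => by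
        obtain ⟨i, -, ε, rfl⟩ := H.lev_nf hS hβ
        exact H.chr_one i ε) hχ
    refine ⟨z, Int.cast_injective (α := ℂ) ?_⟩
    rw [show ∑ᶠ u : Wl D _, _ = _ from finsum_set_coe_eq_finsum_mem (f := fun u => yv f χ c (u * (e t * w))) _,
      show Nat.card (Wl D _) = _ from Nat.card_coe_set_eq _, h6, finsum_mem_image h3.injOn, finsum_mem_coe_finset,
      Set.ncard_image_of_injective _ h3, Set.ncard_coe_finset] at h7
    push_cast
    rw [← h7]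
    exact sum_congr rfl fun u _ => by rw [← hy, map_mul, mul_assoc]
  have h7 : Nat.card (LV.Lab.St D c) ≤ 16 := (Subgroup.card_le_of_le (K := e.range) h4).trans
    ((Nat.card_le_card_of_surjective _ e.rangeRestrict_surjective).trans (by simp))
  rw [LV.Lab.nr_eq, le_inv_mul_iff₀ (Nat.cast_pos.2 Nat.card_pos), mul_one]
  refine le_trans ?_ (sum_le_univ_sum_of_nonneg (s := univ.image fun t => e t * w) fun _ => sq_nonneg _)
  rw [sum_image fun s _ t _ n => h3 (mul_right_cancel n)]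
  simp only [hy, Complex.norm_intCast, sq_abs]
  exact_mod_cast (Int.ofNat_le.2 h7).trans h6

end TriB

variable {p : ℕ} [Fact p.Prime] {k : Type} [Field k] [CharP k p] [IsAlgClosed k] {Y : Type} [Group Y] {N : Type}
  [Fintype N] [DecidableEq N] {ρ : Y →* GL N k} {F : MulAut Y} {G : Subgroup Y}

/-- **triality** -/
theorem boxTri (D : Datum p ρ F G) [Fintype ↥(GF F G)] : BoxTri D where
  cen hp _ _ h Φ hy _ _ _ _ := TriB.cen hp h Φ hy
  one j B h hz Φ hy f χ hχ c x h1 h2 h3 w hw := by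
    obtain ⟨a, H⟩ := TriB.exists_fam Φ h1 h2 h3
    have hq := H.odd (h.nm w) (TriB.fx_pow h hw.fx) h3
    obtain ⟨τ, h4, h5⟩ := H.exists_cyc ((Int.odd_pow' h.pos.ne').1 hq) hz hq (h.nm w) (TriB.fx_pow h hw.fx)
      ((TriB.cy hy).mul h.nm' (Wm_mem w))
    exact TriB.core h hz (H.comp h4) h5 f hχ hw

end Cfsg.Agent.HZ.L.X
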