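import Cfsg.Agent.HZ.L.Bas
import Cfsg.Agent.HZ.L.XC.Defs
import Cfsg.Agent.LV.Cl.Co
import Cfsg.Agent.LV.Cl.Em
import Cfsg.Agent.LV.Lab.One

/-!
# HZ/L, the exact system: definitions and boxes (helper52)

Plan: `notes/HZ/x.md`.  A frame `Fw` identifies the roots of a datum with a standard system, the Weyl group with a group of
signed permutations (`LV.Cl.SG`); `Tw` is the signed permutation of the twist `B`.
-/

set_option autoImplicit false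
set_option linter.unusedSectionVars false

namespace Cfsg.Agent.HZ.L.X

open Cfsg Cfsg.Agent.DL Cfsg.Agent.DL.PP Matrix Cfsg.Agent.KZ.Lie
open Cfsg.Agent.LV.Cl (SG sm sgn)
open Cfsg.Agent.LV.Lab (yv)

section Comb

variable {R : Type} [Fintype R] [DecidableEq R]

/-- the roots of the label -/
def Zc (Ψ : RS R) (c : Lb R) : RS R := {a | a ∈ Ψ ∧ chr a.2 c = 1}

/-- isolated labels -/
def Isol (Ψ : RS R) (c : Lb R) : Prop := ∀ lam, Perp (Zc Ψ c) lam → Perp Ψ lam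

/-- central labels -/
def Cen (Ψ : RS R) (c : Lb R) : Prop := ∀ a ∈ Ψ, chr a.2 c = 1

/-- labels with the same central character -/
def PE (Ψ : RS R) (c c' : Lb R) : Prop := ∀ v, Perp Ψ v → chr v c' = chr v c

/-- all components are of type `A` -/
def TyA (Ψ : RS R) : Prop := ∃ (n : ℕ) (blk : Fin n → ℕ), (∀ i, blk i ≠ 0) ∧ Iso Ψ (std .D blk)

/-- the irreducible exact types which are not of type `A` -/
def Rk (κ : Kd) (n : ℕ) : Prop := κ = .D ∧ 4 ≤ n ∧ n ≤ 7 ∨ κ = .B ∧ (n = 2 ∨ n = 3) ∨ κ = .C ∧ n = 3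

/-- one block -/
abbrev b0 (n : ℕ) : Fin n → ℕ := fun _ => 0

/-- one component `D₄ .. D₇`, `B₂`, `B₃`, `C₃` -/
def Big (Ψ : RS R) : Prop := ∃ κ n, Rk κ n ∧ Iso Ψ (std κ (b0 n))

/-- a stable decomposition into two exact factors -/
def Spl (Ψ : RS R) (B : Mat R) : Prop := ∃ Ψ₁ Ψ₂, Dec Ψ Ψ₁ Ψ₂ B ∧ Ψ₁.Nonempty ∧ Ψ₂.Nonempty ∧ Ex Ψ₁ ∧ Ex Ψ₂

end Comb

/-- the Weyl group of the standard system -/
def Ws (κ : Kd) {n : ℕ} (blk : Fin n → ℕ) (g : SG n) : Prop :=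
  (∀ i, blk (g.π i) = blk i) ∧ (∀ i, blk i ≠ 0 → g.s i = 1) ∧ (κ = .D → sgn g = 1)

/-- the label with the colours `x` -/
noncomputable def sx {n : ℕ} (x : Fin n → Bool) : Fin n → ℂˣ := fun i => if x i then 1 else -1

/-- the colourings of isolated labels -/
def Ok (κ : Kd) {n : ℕ} (x : Fin n → Bool) : Prop :=
  (κ = .D → (Finset.univ.filter fun j => x j = true).card ≠ 1) ∧
    (κ ≠ .B → (Finset.univ.filter fun j => x j = false).card ≠ 1)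

/-- (pure) **normal form of the exact types** -/
def BoxNorm : Prop := ∀ {R : Type} [Fintype R] [DecidableEq R] (Ψ : RS R) (B : Mat R) (n : ℕ), 0 < n → B ^ n = 1 →
  Nm B Ψ → Ex Ψ → Spl Ψ B ∨ TyA Ψ ∨ Big Ψ

variable {p : ℕ} [Fact p.Prime] {k : Type} [Field k] [CharP k p] [IsAlgClosed k] {Y : Type} [Group Y] {N : Type}
  [Fintype N] [DecidableEq N] {ρ : Y →* GL N k} {F : MulAut Y} {G : Subgroup Y} (D : Datum p ρ F G)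

/-- a frame: `P / m` gives the coordinates of a cocharacter -/
structure Fw (κ : Kd) {n : ℕ} (blk : Fin n → ℕ) (m : ℤ) where
  P : Matrix (Fin n) D.R ℤ
  φ : rts D ≃ std κ blk
  pos : 0 < m
  car : ∀ a b, (φ a).1.1 ⬝ᵥ (φ b).1.2 = a.1.1 ⬝ᵥ b.1.2
  h1 : ∀ a, (φ a).1.1 ᵥ* P = m • a.1.1
  h2 : ∀ a, P *ᵥ a.1.2 = m • (φ a).1.2
  perp : ∀ v, Perp (rts D) v ↔ P *ᵥ v = 0
  emb : D.W →* SG n
  inj : Function.Injective emb
  hW : ∀ w, P * D.Wm w = sm (emb w) * P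
  rng : ∀ g, (∃ w, emb w = g) ↔ Ws κ blk g

variable {D}

section

variable {κ : Kd} {n : ℕ} {blk : Fin n → ℕ} {m : ℤ}

/-- the twist is the signed permutation `τ` -/
structure Tw (Φ : Fw D κ blk m) (B : Mat D.R) (τ : SG n) : Prop where
  hB : Φ.P * B = sm τ * Φ.P
  tw : ∀ v, Φ.emb (D.Fw v) = τ * Φ.emb v * τ⁻¹

/-- the label has the colours `x` -/
def Pat (Φ : Fw D κ blk m) (c : Lbl D) (x : Fin n → Bool) : Prop := ∀ a : rts D, chr a.1.2 c = chr (Φ.φ a).1.2 (sx x)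

end

/-- triality: the twist permutes the three classes of minuscule coweights cyclically -/
def Cyc (Φ : Fw D .D (b0 4) 2) (B : Mat D.R) : Prop :=
  ∀ v, ∃ z : Fin 4 → ℤ, Even (∑ i, z i) ∧ Φ.P *ᵥ (v + B *ᵥ v + B *ᵥ (B *ᵥ v)) = (2 : ℤ) • z

variable (D)

/-- **frames exist** -/
structure BoxFw : Prop where
  all : ∀ (κ : Kd) (n : ℕ) (blk : Fin n → ℕ) (φ : rts D ≃ std κ blk),
    (∀ a b, (φ a).1.1 ⬝ᵥ (φ b).1.2 = a.1.1 ⬝ᵥ b.1.2) → ∃ (m : ℤ) (Φ : Fw D κ blk m), Φ.φ = φ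
  two : ∀ (κ : Kd) (n : ℕ) (φ : rts D ≃ std κ (b0 n)), 2 ≤ n →
    (∀ a b, (φ a).1.1 ⬝ᵥ (φ b).1.2 = a.1.1 ⬝ᵥ b.1.2) → ∃ Φ : Fw D κ (b0 n) 2, Φ.φ = φ

/-- the twist in type `A` -/
def BoxFrA : Prop := ∀ j B, St D j B → ∀ (n : ℕ) (blk : Fin n → ℕ) (m : ℤ) (Φ : Fw D .D blk m), (∀ i, blk i ≠ 0) →
  ∃ τ, Tw Φ B τ

/-- the twist for one component -/
def BoxFrB : Prop := ∀ j B, St D j B → Big (rts D) →
  (∃ κ n, Rk κ n ∧ ∃ (Φ : Fw D κ (b0 n) 2) (τ : SG n), Tw Φ B τ) ∨ ∃ Φ : Fw D .D (b0 4) 2, Cyc Φ B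

/-- type `A` -/
structure BoxTA : Prop where
  cen : ∀ (n : ℕ) (blk : Fin n → ℕ) (m : ℤ) (_ : Fw D .D blk m), (∀ i, blk i ≠ 0) → ∀ c, Isol (rts D) c → Cen (rts D) c
  orb : ∀ j B, St D j B → ∀ (n : ℕ) (blk : Fin n → ℕ) (m : ℤ) (Φ : Fw D .D blk m), (∀ i, blk i ≠ 0) → ∀ τ, Tw Φ B τ →
    Spl (rts D) B ∨ ∃ μ : ℂ, ∀ w w', ¬ Eig (rts D) (D.Wm w * B) μ → ¬ Eig (rts D) (D.Wm w' * B) μ → ∃ v, Tc D v w w'

/-- the labels for one component -/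
structure BoxLab : Prop where
  pat : ∀ κ n, Rk κ n → ∀ (Φ : Fw D κ (b0 n) 2) c, Isol (rts D) c → ∃ x, Pat Φ c x ∧ Ok κ x
  two : p ≠ 2 → Cz p (rts D) → ∀ κ n, Rk κ n → ∀ (Φ : Fw D κ (b0 n) 2) c c' x x', Pat Φ c x → Ok κ x → Pat Φ c' x' →
    Ok κ x' → PE (rts D) c c' → ¬ Cj (rts D) c c' →
    (κ = .C → (∃ i, x i = true) ∨ ∃ i, x' i = true) ∧ (κ = .D → n = 4 → Cen (rts D) c ∨ Cen (rts D) c') ∧
      ∀ j B τ, St D j B → Tw Φ B τ → ∀ w w', Fx D w c → Fx D w' c' → ∀ i, x ((Φ.emb w * τ).π i) = x i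

/-- Levi subsystems -/
structure BoxAdm : Prop where
  ex : ∀ lam, Ex (rts D) → Ex (lev (rts D) lam)
  cz : ∀ lam, Cz p (rts D) → Cz p (lev (rts D) lam)

/-- products -/
def BoxProd : Prop := Cz p (rts D) → ∀ Ψ₁ Ψ₂ B, Dec (rts D) Ψ₁ Ψ₂ B → ∀ c c' : Lbl D, Fo p c → Fo p c' →
  (∃ h ∈ WW Ψ₁, ∀ v, Perp Ψ₂ v → chr (h *ᵥ v) c' = chr v c) → (∃ h ∈ WW Ψ₂, ∀ v, Perp Ψ₁ v → chr (h *ᵥ v) c' = chr v c) →
  Cj (rts D) c c'

variable [Fintype ↥(GF F G)]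

/-- from the datum to the certificates -/
def BoxHyp : Prop := ∀ j B, St D j B → Cz p (rts D) → ∀ κ n, Rk κ n → ∀ (Φ : Fw D κ (b0 n) 2) τ, Tw Φ B τ →
  ∀ (f : Fr D) χ, IsIrrCharacter _ χ → ∀ c x, Pat Φ c x → (∀ w, Fx D w c → ∀ i, x ((Φ.emb w * τ).π i) = x i) →
  ∀ w, Has f χ w c → ∀ S : List ℤ, (∀ μ ∈ S, μ * μ = 1 ∧ ∀ w', Has f χ w' c → ¬ Eig (rts D) (D.Wm w' * B) (μ : ℂ)) →
  ∀ a b : ℕ, XC.Bd κ x S a b → (a : ℝ) ≤ b * LV.Lab.nr f χ c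

/-- triality -/
structure BoxTri : Prop where
  cen : p ≠ 2 → ∀ j B, St D j B → ∀ Φ : Fw D .D (b0 4) 2, Cyc Φ B → ∀ c c' w w', Cen (rts D) c → Cen (rts D) c' →
    PE (rts D) c c' → Fx D w c → Fx D w' c' → c = c'
  one : ∀ j B, St D j B → Cz p (rts D) → ∀ Φ : Fw D .D (b0 4) 2, Cyc Φ B → ∀ (f : Fr D) χ, IsIrrCharacter _ χ →
    ∀ c x, Pat Φ c x → Ok .D x → ¬ Cen (rts D) c → ∀ w, Has f χ w c → 1 ≤ LV.Lab.nr f χ c

end Cfsg.Agent.HZ.L.X
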