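import Cfsg.Agent.HZ.L.X.Defs

/-!
# HZ/L/X : automorphisms of the systems `B`, `C`, `D` (helper25)

`Hf κ T` : the matrix `T / 2` permutes the standard system.  `dich` : `T / 2` is a signed permutation, or `n = 4` and all entries
of `T` are signs.  `chk` : the second case.
-/

set_option autoImplicit false

namespace Cfsg.Agent.HZ.L.X.FrB

open Cfsg Matrix Cfsg.Agent.KZ.Lie
open Cfsg.Agent.LV.Cl (SG sm)

variable {n : ℕ} {κ : Kd} {T : Matrix (Fin n) (Fin n) ℤ}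

/-- the basis vectors -/
abbrev e (i : Fin n) : Fin n → ℤ := Pi.single i 1

theorem mem_sub {i j : Fin n} (h : i ≠ j) : (e i - e j, e i - e j) ∈ std κ (b0 n) := .inl ⟨i, j, h, rfl, rfl⟩

theorem mem_add {i j : Fin n} (h : i ≠ j) : (e i + e j, e i + e j) ∈ std κ (b0 n) := .inr (.inl ⟨i, j, 1, h, rfl, rfl, rfl⟩)

theorem two_e (i : Fin n) (s : ℤ) : (Pi.single i (2 * s) : Fin n → ℤ) = (2 : ℤ) • Pi.single i s := by
  rw [← Pi.single_smul', smul_eq_mul]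

theorem kind {r : Vec (Fin n) × Vec (Fin n)} (h : r ∈ std κ (b0 n)) :
    r.1 = r.2 ∨ κ = .B ∧ r.2 = (2 : ℤ) • r.1 ∨ κ = .C ∧ r.1 = (2 : ℤ) • r.2 := by
  rcases h with ⟨i, j, -, -, rfl⟩ | ⟨i, j, s, -, -, -, rfl⟩ | ⟨i, s, -, ⟨h, rfl⟩ | ⟨h, rfl⟩⟩
  exacts [.inl rfl, .inl rfl, .inr (.inl ⟨h, two_e i s⟩), .inr (.inr ⟨h, two_e i s⟩)]

theorem two_inj {ι : Type} {x y : ι → ℤ} (h : (2 : ℤ) • x = (2 : ℤ) • y) : x = y := smul_right_injective _ two_ne_zero h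

/-- `T / 2` permutes the standard system -/
def Hf (κ : Kd) (T : Matrix (Fin n) (Fin n) ℤ) : Prop :=
  ∀ r ∈ std κ (b0 n), ∃ r' ∈ std κ (b0 n), T *ᵥ r.2 = (2 : ℤ) • r'.2 ∧ r'.1 ᵥ* T = (2 : ℤ) • r.1

theorem Hf.eig (h : Hf κ T) {r : Vec (Fin n) × Vec (Fin n)} (hr : r ∈ std κ (b0 n)) :
    ∃ μ : ℤ, (μ = 4 ∨ κ = .B ∧ μ = 8 ∨ κ = .C ∧ μ = 2) ∧ (Tᵀ * T) *ᵥ r.2 = μ • r.1 := by
  obtain ⟨r', h1, h2, h3⟩ := h r hr
  rw [← mulVec_mulVec, mulVec_transpose, h2]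
  rcases kind h1 with h4 | ⟨h0, h4⟩ | ⟨h0, h4⟩
  · exact ⟨4, .inl rfl, by rw [← h4, smul_vecMul, h3, smul_smul]; rfl⟩
  · exact ⟨8, .inr (.inl ⟨h0, rfl⟩), by rw [h4, smul_vecMul, smul_vecMul, h3, smul_smul, smul_smul]; rfl⟩
  · exact ⟨2, .inr (.inr ⟨h0, rfl⟩), by rw [← h4, h3]⟩

theorem Hf.orth (h : Hf κ T) (hn : 2 ≤ n) : Tᵀ * T = (4 : ℤ) • (1 : Matrix (Fin n) (Fin n) ℤ) := by
  have : Nontrivial (Fin n) := Fin.nontrivial_iff_two_le.2 hn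
  have h0 : ∀ i, (Tᵀ * T) *ᵥ e i = (4 : ℤ) • e i := fun i => by
    obtain ⟨j, hj⟩ := exists_ne i
    obtain ⟨μ, m1, h1⟩ := h.eig (mem_sub hj.symm)
    obtain ⟨μ', m2, h2⟩ := h.eig (mem_add hj.symm)
    simp only [mulVec_sub, mulVec_add] at h1 h2
    have h5 := congrFun h1 i
    cases κ
    · obtain ⟨ν, m3, h3⟩ := h.eig (.inr (.inr ⟨i, 1, rfl, .inl ⟨rfl, rfl⟩⟩))
      obtain ⟨ν', -, h4⟩ := h.eig (.inr (.inr ⟨j, 1, rfl, .inl ⟨rfl, rfl⟩⟩))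
      simp only [two_e, mulVec_smul, Units.val_one] at h3 h4
      have h6 := congrFun h3 i
      have h7 := congrFun h4 i
      simp [hj.symm] at h5 h6 h7 m1 m3
      refine two_inj (h3.trans ?_)
      rw [smul_smul, show ν = 2 * 4 by omega]
    · obtain ⟨ν, m3, h3⟩ := h.eig (.inr (.inr ⟨i, 1, rfl, .inr ⟨rfl, rfl⟩⟩))
      obtain ⟨ν', -, h4⟩ := h.eig (.inr (.inr ⟨j, 1, rfl, .inr ⟨rfl, rfl⟩⟩))
      simp only [two_e, Units.val_one, smul_smul] at h3 h4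
      have h6 := congrFun h3 i
      have h7 := congrFun h4 i
      simp [hj.symm] at h5 h6 h7 m1 m3
      rw [h3, show ν * 2 = 4 by omega]
    · simp at m1 m2
      refine two_inj ?_
      subst m1 m2
      linear_combination (exp := 1) h1 + h2
  ext i j
  simpa [one_apply, Pi.single_apply] using congrFun (h0 j) i

theorem orth' {a : ℤ} (ha : a ≠ 0) (h : Tᵀ * T = a • (1 : Matrix (Fin n) (Fin n) ℤ)) :
    T * Tᵀ = a • (1 : Matrix (Fin n) (Fin n) ℤ) := by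
  have h1 : T.det ≠ 0 := fun e => by
    have h1 := congrArg det h
    rw [det_mul, e, mul_zero, det_smul, det_one, mul_one] at h1
    exact pow_ne_zero _ ha h1.symm
  have h2 : (T * Tᵀ - a • (1 : Matrix (Fin n) (Fin n) ℤ)) * T = 0 := by
    rw [sub_mul, mul_assoc, h, mul_smul_comm, smul_mul_assoc, mul_one, one_mul, sub_self]
  exact sub_eq_zero.1 (Matrix.ext fun i => congrFun (eq_zero_of_vecMul_eq_zero h1 (congrFun h2 i)))

theorem sq4 {f : Fin n → ℤ} (h : ∑ i, f i * f i = 4) :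
    (∃ (k : Fin n) (s : ℤˣ), ∀ i, f i = 2 * if i = k then (s : ℤ) else 0) ∨ ∀ i, f i * f i ≤ 1 := by
  refine or_iff_not_imp_right.2 fun h1 => ?_
  obtain ⟨k, hk⟩ := not_forall.1 h1
  rw [← Finset.add_sum_erase _ _ (Finset.mem_univ k)] at h
  have h2 := Finset.sum_nonneg (s := Finset.univ.erase k) fun i _ => mul_self_nonneg (f i)
  have h3 : f k = 2 ∨ f k = -2 := by
    have h3 : f k ≤ 2 := by nlinarith
    have h4 : -2 ≤ f k := by nlinarith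
    generalize f k = a at *
    interval_cases a <;> simp_all
  have h4 : ∀ i, i ≠ k → f i = 0 := fun i hi => mul_self_eq_zero.1
    ((Finset.sum_eq_zero_iff_of_nonneg fun i _ => mul_self_nonneg (f i)).1 (by rcases h3 with e | e <;> rw [e] at h <;> omega) i
      (Finset.mem_erase.2 ⟨hi, Finset.mem_univ i⟩))
  rcases h3 with h3 | h3
  · exact ⟨k, 1, fun i => by split_ifs with e <;> [(rw [e, h3]; rfl); rw [h4 i e, mul_zero]]⟩
  · exact ⟨k, -1, fun i => by split_ifs with e <;> [(rw [e, h3]; rfl); rw [h4 i e, mul_zero]]⟩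

/-- **the dichotomy** -/
theorem Hf.dich (h : Hf κ T) (hn : 2 ≤ n) :
    (∃ τ : SG n, T = (2 : ℤ) • sm τ) ∨ n = 4 ∧ ∀ i j, T i j * T i j = 1 := by
  have h1 := h.orth hn
  have h2 := orth' (by decide) h1
  have c1 : ∀ j, ∑ i, T i j * T i j = 4 := fun j => by simpa [mul_apply] using congrFun (congrFun h1 j) j
  have c2 : ∀ i, ∑ j, T i j * T i j = 4 := fun i => by simpa [mul_apply] using congrFun (congrFun h2 i) i
  by_cases h3 : ∀ j, ∃ (k : Fin n) (s : ℤˣ), ∀ i, T i j = 2 * if i = k then (s : ℤ) else 0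
  · choose π s h3 using h3
    have h4 : Function.Injective π := fun i j e => by
      by_contra h4
      have h5 := congrFun (congrFun h1 i) j
      simp [mul_apply, h3, e, h4] at h5
    exact .inl ⟨⟨Equiv.ofBijective π (Finite.injective_iff_bijective.1 h4), s⟩, Matrix.ext fun i j => h3 j i⟩
  · obtain ⟨j, hj⟩ := not_forall.1 h3
    have h4 := (sq4 (c1 j)).resolve_left hj
    obtain ⟨k, hk⟩ : ∃ k, T k j ≠ 0 := by
      by_contra h5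
      have h6 := c1 j
      simp [fun k => not_not.1 fun e => h5 ⟨k, e⟩] at h6
    have h5 : ∀ l, ¬ 2 ∣ T k l := fun l => by
      have h5 : T k j = 1 ∨ T k j = -1 := mul_self_eq_one_iff.1 (le_antisymm (h4 k) (mul_self_pos.2 hk))
      by_cases e : l = j
      · rw [e]; omega
      · obtain ⟨r', -, h6, -⟩ := h _ (mem_sub e)
        have h7 := congrFun h6 k
        simp [mulVec_sub] at h7
        omega
    have h6 := (sq4 (c2 k)).resolve_left fun ⟨_, _, e⟩ => h5 j ⟨_, e j⟩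
    have h7 : n = 4 := by
      have h7 := c2 k
      rw [Finset.sum_congr rfl fun l _ => le_antisymm (h6 l) (Int.add_one_le_iff.2 (mul_self_pos.2 fun e => h5 l ⟨0, e⟩))] at h7
      simp at h7
      omega
    subst h7
    refine .inr ⟨rfl, fun i l => ?_⟩
    have h8 := (sq4 (c1 l)).resolve_left fun ⟨_, _, e⟩ => h5 l ⟨_, e k⟩
    exact (Finset.sum_eq_sum_iff_of_le fun i _ => h8 i).1 (c1 l) i (Finset.mem_univ i)

theorem sm_inj : Function.Injective (sm (n := n)) := fun a b h => by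
  have h1 : ∀ j, a.π j = b.π j ∧ a.s j = b.s j := fun j => by
    have h1 : (if a.π j = a.π j then (a.s j : ℤ) else 0) = if a.π j = b.π j then (b.s j : ℤ) else 0 :=
      congrFun (congrFun h (a.π j)) j
    rw [if_pos rfl] at h1
    split_ifs at h1 with e
    exacts [⟨e, Units.ext h1⟩, absurd h1 (Units.ne_zero _)]
  exact SG.ext (Equiv.ext fun j => (h1 j).1) (funext fun j => (h1 j).2)

/-! ### triality -/

/-- the first triality matrix -/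
def H1 : Matrix (Fin 4) (Fin 4) ℤ := !![1, 1, 1, 1; 1, 1, -1, -1; 1, -1, 1, -1; 1, -1, -1, 1]

/-- the second triality matrix -/
def H2 : Matrix (Fin 4) (Fin 4) ℤ := !![1, 1, 1, -1; 1, 1, -1, 1; 1, -1, 1, 1; -1, 1, 1, 1]

/-- a basis of twice the coweight lattice -/
def Kb : Matrix (Fin 4) (Fin 4) ℤ := !![1, 0, 0, 0; 1, 2, 0, 0; 1, 0, 2, 0; 1, 0, 0, 2]

/-- the sign vectors -/
def sl : List (Fin 4 → ℤ) :=
  [1, -1].flatMap fun a => [1, -1].flatMap fun b => [1, -1].flatMap fun c => [1, -1].map fun d => ![a, b, c, d]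

/-- the norm of the twist -/
def NK (T : Matrix (Fin 4) (Fin 4) ℤ) : Matrix (Fin 4) (Fin 4) ℤ := (4 : ℤ) • Kb + (2 : ℤ) • (T * Kb) + T * (T * Kb)

/-- one class is fixed or the norm is trivial -/
abbrev Pp (T : Matrix (Fin 4) (Fin 4) ℤ) : Prop :=
  8 ∣ (H1 * T * H1) 0 0 ∨ 8 ∣ (H2 * T * H2) 0 0 ∨ ∀ j, (∀ i, 8 ∣ NK T i j) ∧ 16 ∣ ∑ i, NK T i j

theorem chk0 : ∀ a ∈ sl, ∀ b ∈ sl, a ⬝ᵥ b = 0 → ∀ c ∈ sl, a ⬝ᵥ c = 0 → b ⬝ᵥ c = 0 → ∀ d ∈ sl, a ⬝ᵥ d = 0 → b ⬝ᵥ d = 0 →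
    c ⬝ᵥ d = 0 → Pp (of ![a, b, c, d]) := by decide +kernel

theorem chk {T : Matrix (Fin 4) (Fin 4) ℤ} (h1 : ∀ i j, T i j * T i j = 1)
    (h2 : T * Tᵀ = (4 : ℤ) • (1 : Matrix (Fin 4) (Fin 4) ℤ)) : Pp T := by
  have h3 : ∀ i, T i ∈ sl := fun i => by
    have h3 : ∀ j, T i j ∈ [1, -1] := fun j => by simpa using mul_self_eq_one_iff.1 (h1 i j)
    refine List.mem_flatMap.2 ⟨_, h3 0, List.mem_flatMap.2 ⟨_, h3 1, List.mem_flatMap.2 ⟨_, h3 2, List.mem_map.2 ⟨_, h3 3, ?_⟩⟩⟩⟩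
    ext j; fin_cases j <;> rfl
  have h4 : ∀ i j, i ≠ j → T i ⬝ᵥ T j = 0 := fun i j e =>
    (congrFun (congrFun h2 i) j).trans (by simp [e])
  have h5 := chk0 _ (h3 0) _ (h3 1) (h4 _ _ (by decide)) _ (h3 2) (h4 _ _ (by decide)) (h4 _ _ (by decide)) _ (h3 3)
    (h4 _ _ (by decide)) (h4 _ _ (by decide)) (h4 _ _ (by decide))
  rwa [show of ![T 0, T 1, T 2, T 3] = T by ext i j; fin_cases i <;> rfl] at h5

theorem mem_D {r : Vec (Fin n) × Vec (Fin n)} : r ∈ std .D (b0 n) ↔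
    r.2 = r.1 ∧ ∃ (i j : Fin n) (s t : ℤˣ), i ≠ j ∧ r.1 = Pi.single i (s : ℤ) + Pi.single j (t : ℤ) := by
  constructor
  · rintro (⟨i, j, h, -, rfl⟩ | ⟨i, j, s, h, -, -, rfl⟩ | ⟨i, s, -, ⟨h, -⟩ | ⟨h, -⟩⟩)
    · exact ⟨rfl, i, j, 1, -1, h, by simp [sub_eq_add_neg, Pi.single_neg]⟩
    · exact ⟨rfl, i, j, s, s, h, rfl⟩
    · cases h
    · cases h
  · rintro ⟨h1, i, j, s, t, h, h2⟩
    rcases Int.units_eq_one_or s with rfl | rfl <;> rcases Int.units_eq_one_or t with rfl | rfl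
    · exact .inr (.inl ⟨i, j, 1, h, rfl, rfl, Prod.ext h2 (h1.trans h2)⟩)
    · have h3 : r.1 = e i - e j := by simp [h2, sub_eq_add_neg, Pi.single_neg]
      exact .inl ⟨i, j, h, rfl, Prod.ext h3 (h1.trans h3)⟩
    · have h3 : r.1 = e j - e i := by simp [h2, sub_eq_neg_add, Pi.single_neg]
      exact .inl ⟨j, i, h.symm, rfl, Prod.ext h3 (h1.trans h3)⟩
    · exact .inr (.inl ⟨i, j, -1, h, rfl, rfl, Prod.ext h2 (h1.trans h2)⟩)

/-- symmetric matrices which permute the roots of `D₄` -/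
abbrev Tr (H : Matrix (Fin 4) (Fin 4) ℤ) : Prop :=
  Hᵀ = H ∧ H * H = (4 : ℤ) • (1 : Matrix (Fin 4) (Fin 4) ℤ) ∧ ∀ (i j : Fin 4) (s t : ℤˣ), i ≠ j → ∃ (k l : Fin 4) (s' t' : ℤˣ),
    k ≠ l ∧ H *ᵥ (Pi.single i (s : ℤ) + Pi.single j (t : ℤ)) = (2 : ℤ) • (Pi.single k (s' : ℤ) + Pi.single l (t' : ℤ))

theorem tr1 : Tr H1 := by decide +kernel

theorem tr2 : Tr H2 := by decide +kernel

theorem Tr.perm {H : Matrix (Fin 4) (Fin 4) ℤ} (h : Tr H) : ∃ η : std .D (b0 4) ≃ std .D (b0 4),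
    (∀ a, (η a).1.1 ᵥ* H = (2 : ℤ) • a.1.1) ∧ ∀ a b, (η a).1.1 ⬝ᵥ (η b).1.2 = a.1.1 ⬝ᵥ b.1.2 := by
  obtain ⟨h1, h2, h3⟩ := h
  have h4 : ∀ a : std .D (b0 4), ∃ b : std .D (b0 4), H *ᵥ a.1.1 = (2 : ℤ) • b.1.1 := fun a => by
    obtain ⟨-, i, j, s, t, e1, e2⟩ := mem_D.1 a.2
    obtain ⟨k, l, s', t', e3, e4⟩ := h3 i j s t e1
    exact ⟨⟨(_, _), mem_D.2 ⟨rfl, k, l, s', t', e3, rfl⟩⟩, e2 ▸ e4⟩
  choose f hf using h4
  have h5 : ∀ a, H *ᵥ (f a).1.1 = (2 : ℤ) • a.1.1 := fun a => two_inj (by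
    rw [← mulVec_smul, ← hf, mulVec_mulVec, h2, smul_mulVec, one_mulVec, smul_smul]; rfl)
  have h6 : Function.Involutive f := fun a => by
    have h6 := two_inj ((hf (f a)).symm.trans (h5 a))
    exact Subtype.ext (Prod.ext h6 (by rw [(mem_D.1 a.2).1, (mem_D.1 (f (f a)).2).1, h6]))
  have h7 : ∀ a, (f a).1.1 ᵥ* H = (2 : ℤ) • a.1.1 := fun a => by rw [← mulVec_transpose, h1, h5]
  refine ⟨h6.toPerm f, h7, fun a b => mul_left_cancel₀ (two_ne_zero (α := ℤ)) ?_⟩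
  change 2 * ((f a).1.1 ⬝ᵥ (f b).1.2) = _
  rw [(mem_D.1 b.2).1, (mem_D.1 (f b).2).1, ← smul_eq_mul, ← dotProduct_smul, ← hf, dotProduct_mulVec, h7, smul_dotProduct,
    smul_eq_mul]

end Cfsg.Agent.HZ.L.X.FrB
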