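import Cfsg.Agent.HZ.L.X.Defs

/-!
# HZ/L, the exact system: two labels for one component (helper36)
-/

set_option autoImplicit false
set_option linter.unusedSectionVars false
set_option maxHeartbeats 400000

namespace Cfsg.Agent.HZ.L.X

open Cfsg Cfsg.Agent.DL Cfsg.Agent.DL.PP Matrix Cfsg.Agent.KZ.Lie Cfsg.Agent.KZ.Dat Finset
open Cfsg.Agent.LV.Cl (SG sm sgn sm_apply co_single)

namespace Lab

section Comb

variable {n : ℕ}

theorem zpow_neg' {a : ℂˣ} (h : a * a = 1) (z : ℤ) : a ^ (-z) = a ^ z := by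
  rw [_root_.zpow_neg, ← _root_.inv_zpow, inv_eq_of_mul_eq_one_right h]

theorem zpow_odd {a : ℂˣ} (h : a * a = 1) {q : ℤ} (hq : Odd q) : a ^ q = a := by
  obtain ⟨r, rfl⟩ := hq
  rw [_root_.zpow_add, _root_.zpow_mul, zpow_two, h, _root_.one_zpow, one_mul, zpow_one]

theorem zpow_even {a : ℂˣ} (h : a * a = 1) {q : ℤ} (hq : Even q) : a ^ q = 1 := by
  obtain ⟨r, rfl⟩ := hq
  rw [_root_.zpow_add, ← mul_zpow, h, _root_.one_zpow]

theorem sx_sq (x : Fin n → Bool) (i : Fin n) : sx x i * sx x i = 1 := by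
  unfold sx
  split_ifs
  · exact one_mul _
  · rw [neg_mul_neg, one_mul]

theorem sx_inj {a b : Fin n → Bool} {i j : Fin n} : sx a i = sx b j ↔ a i = b j := by
  have h : (1 : ℂˣ) ≠ -1 := fun h => by
    have := congrArg Units.val h
    rw [Units.val_neg, Units.val_one] at this
    exact one_ne_zero (by linear_combination this / 2 : (1 : ℂ) = 0)
  unfold sx
  cases a i <;> cases b j <;> simp [h, h.symm]

theorem chr_sq (z : Fin n → ℤ) (x : Fin n → Bool) : chr z (sx x) * chr z (sx x) = 1 := by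
  rw [← map_mul, show sx x * sx x = 1 from funext (sx_sq x), map_one]

theorem chr_sm (g : SG n) (z : Fin n → ℤ) (x : Fin n → Bool) :
    chr (sm g *ᵥ z) (sx x) = chr z (sx fun i => x (g.π i)) := by
  rw [chr_apply, chr_apply, ← Equiv.prod_comp g.π]
  refine prod_congr rfl fun j _ => ?_
  rw [sm_apply, spm_mulVec]
  rcases Int.units_eq_one_or (g.s j) with h | h
  · rw [h, Units.val_one, one_mul]; rfl
  · rw [h, Units.val_neg, Units.val_one, neg_one_mul, zpow_neg' (sx_sq x _)]; rfl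

theorem chr_not (z : Fin n → ℤ) (x : Fin n → Bool) :
    chr z (sx fun i => !x i) = (-1) ^ (∑ i, z i) * chr z (sx x) := by
  rw [chr_apply, chr_apply, zpow_sum', ← prod_mul_distrib]
  refine prod_congr rfl fun j _ => ?_
  rw [← mul_zpow]
  congr 1
  show (if (!x j) = true then (1 : ℂˣ) else -1) = -1 * if x j = true then 1 else -1
  cases x j <;> simp

theorem sub_mem (κ : Kd) {i j : Fin n} (h : i ≠ j) :
    ((Pi.single i 1 - Pi.single j 1, Pi.single i 1 - Pi.single j 1) : Vec (Fin n) × Vec (Fin n)) ∈ std κ (b0 n) :=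
  Or.inl ⟨i, j, h, rfl, rfl⟩

theorem add_mem' (κ : Kd) {i j : Fin n} (h : i ≠ j) :
    ((Pi.single i 1 + Pi.single j 1, Pi.single i 1 + Pi.single j 1) : Vec (Fin n) × Vec (Fin n)) ∈ std κ (b0 n) :=
  Or.inr (Or.inl ⟨i, j, 1, h, rfl, rfl, rfl⟩)

theorem sum_single (i : Fin n) (a : ℤ) : ∑ j, (Pi.single i a : Fin n → ℤ) j = a := by
  rw [sum_pi_single', if_pos (mem_univ i)]

theorem even_cor {κ : Kd} (h : κ ≠ .C) {a : Vec (Fin n) × Vec (Fin n)} (ha : a ∈ std κ (b0 n)) : Even (∑ i, a.2 i) := by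
  rcases ha with ⟨i, j, -, -, rfl⟩ | ⟨i, j, s, -, -, -, rfl⟩ | ⟨i, s, -, ⟨-, rfl⟩ | ⟨h1, -⟩⟩
  · simp only [Pi.sub_apply, sum_sub_distrib, sum_single, sub_self, Even.zero]
  · simp only [Pi.add_apply, sum_add_distrib, sum_single]
    exact ⟨_, rfl⟩
  · simp only [sum_single]
    exact even_two_mul _
  · exact (h h1).elim

theorem exists_ne (hn : 2 ≤ n) (i : Fin n) : ∃ j, i ≠ j :=
  let ⟨j, h⟩ := (Fin.nontrivial_iff_two_le.2 hn).exists_pair_ne.elim fun a h => h.elim fun b h =>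
    (em (i = a)).elim (fun e => (⟨b, e ▸ h⟩ : ∃ j, i ≠ j)) fun e => ⟨a, e⟩
  ⟨j, h⟩

/-- the number of the colour `true` -/
abbrev nt (x : Fin n → Bool) : ℕ := #{j | x j = true}

theorem nt_add (x : Fin n → Bool) : nt x + #{j | x j = false} = n := by
  have h := card_filter_add_card_filter_not (s := (univ : Finset (Fin n))) fun j => x j = true
  simpa only [Bool.not_eq_true, card_univ, Fintype.card_fin] using h

theorem nt_not (x : Fin n → Bool) : nt (fun i => !x i) = #{j | x j = false} := by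
  simp only [nt, Bool.not_eq_eq_eq_not, Bool.not_true]

theorem exists_perm {x x' : Fin n → Bool} (h : nt x = nt x') : ∃ π : Equiv.Perm (Fin n), ∀ i, x' (π i) = x i := by
  have h1 := nt_add x
  have h2 := nt_add x'
  refine ⟨Equiv.ofFiberEquiv (f := x) (g := x') fun b => Fintype.equivOfCardEq ?_, fun i => Equiv.ofFiberEquiv_map _ i⟩
  rw [Fintype.card_subtype, Fintype.card_subtype]
  cases b
  · omega
  · exact h

theorem two_nt {x : Fin n → Bool} {π : Equiv.Perm (Fin n)} (h : ∀ i, x (π i) ≠ x i) : 2 * nt x = n := by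
  have h1 := nt_add x
  have h2 : nt x = #{j | x j = false} := card_equiv π fun i => by
    have := h i
    simp only [mem_filter, mem_univ, true_and]
    cases h3 : x i <;> cases h4 : x (π i) <;> simp_all
  omega

end Comb

variable {p : ℕ} [Fact p.Prime] {k : Type} [Field k] [CharP k p] [IsAlgClosed k] {Y : Type} [Group Y] {N : Type}
  [Fintype N] [DecidableEq N] {ρ : Y →* GL N k} {F : MulAut Y} {G : Subgroup Y} {D : Datum p ρ F G}
  {κ : Kd} {n : ℕ} (Φ : Fw D κ (b0 n) 2)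

/-- `u` lies in the coroot lattice and has the coordinates `z` -/
def Q (u : Vec D.R) (z : Fin n → ℤ) : Prop :=
  Φ.P *ᵥ u = (2 : ℤ) • z ∧ (∀ c x, Pat Φ c x → chr u c = chr z (sx x)) ∧ ∀ a : rts D, a.1.1 ⬝ᵥ u = (Φ.φ a).1.1 ⬝ᵥ z

/-- the labels agree up to the colours on the vectors with integral coordinates -/
def AG (c c' : Lbl D) (x x' : Fin n → Bool) : Prop :=
  ∀ v z, Φ.P *ᵥ v = (2 : ℤ) • z → chr v c' * chr z (sx x) = chr v c * chr z (sx x')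

variable {Φ}

theorem Q.zero : Q Φ 0 0 :=
  ⟨by rw [mulVec_zero, smul_zero], fun _ _ _ => by rw [chr_zero, chr_zero], fun _ => by rw [dotProduct_zero, dotProduct_zero]⟩

theorem Q.add {u u' : Vec D.R} {z z' : Fin n → ℤ} (h : Q Φ u z) (h' : Q Φ u' z') : Q Φ (u + u') (z + z') :=
  ⟨by rw [mulVec_add, h.1, h'.1, smul_add], fun c x hx => by rw [chr_add, chr_add, h.2.1 c x hx, h'.2.1 c x hx],
    fun a => by rw [dotProduct_add, dotProduct_add, h.2.2, h'.2.2]⟩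

theorem Q.smul {u : Vec D.R} {z : Fin n → ℤ} (h : Q Φ u z) (t : ℤ) : Q Φ (t • u) (t • z) :=
  ⟨by rw [mulVec_smul, h.1, smul_comm], fun c x hx => by rw [chr_zsmul, chr_zsmul, h.2.1 c x hx],
    fun a => by rw [dotProduct_smul, dotProduct_smul, h.2.2]⟩

theorem q_cor (a : rts D) : Q Φ a.1.2 (Φ.φ a).1.2 := ⟨Φ.h2 a, fun _ _ h => h a, fun b => (Φ.car b a).symm⟩

variable (Φ)

theorem q_std {b : Vec (Fin n) × Vec (Fin n)} (hb : b ∈ std κ (b0 n)) : ∃ a : rts D, Q Φ a.1.2 b.2 :=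
  ⟨Φ.φ.symm ⟨b, hb⟩, by have := q_cor (Φ := Φ) (Φ.φ.symm ⟨b, hb⟩); rwa [Equiv.apply_symm_apply] at this⟩

theorem dot {b : Vec (Fin n) × Vec (Fin n)} (hb : b ∈ std κ (b0 n)) : ∃ a : rts D, (Φ.φ a).1 = b ∧
    ∀ v, b.1 ⬝ᵥ Φ.P *ᵥ v = 2 * a.1.1 ⬝ᵥ v := by
  refine ⟨Φ.φ.symm ⟨b, hb⟩, by rw [Equiv.apply_symm_apply], fun v => ?_⟩
  have := Φ.h1 (Φ.φ.symm ⟨b, hb⟩)
  rw [Equiv.apply_symm_apply] at this
  rw [dotProduct_mulVec, this, smul_dotProduct, smul_eq_mul]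

/-- the coroot lattice -/
theorem span (hn : 2 ≤ n) {z : Fin n → ℤ} (h : κ = .C ∨ Even (∑ i, z i)) : ∃ u, Q Φ u z := by
  let S : Submodule ℤ (Fin n → ℤ) :=
    { carrier := {z | ∃ u, Q Φ u z}
      add_mem' := fun ⟨_, h⟩ ⟨_, h'⟩ => ⟨_, h.add h'⟩
      zero_mem' := ⟨_, Q.zero⟩
      smul_mem' := fun t _ ⟨_, h⟩ => ⟨_, h.smul t⟩ }
  have h0 : ∀ {b : Vec (Fin n) × Vec (Fin n)}, b ∈ std κ (b0 n) → b.2 ∈ S := fun hb => let ⟨_, h⟩ := q_std Φ hb; ⟨_, h⟩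
  obtain ⟨i, j, hij⟩ := (Fin.nontrivial_iff_two_le.2 hn).exists_pair_ne
  have h1 : z = ∑ l, z l • (Pi.single l 1 - Pi.single i 1 : Fin n → ℤ) + (∑ l, z l) • (Pi.single i 1 : Fin n → ℤ) := by
    simp only [smul_sub, sum_sub_distrib, ← sum_smul, sub_add_cancel]
    simp only [← Pi.single_smul', smul_eq_mul, mul_one, univ_sum_single]
  show z ∈ S
  rw [h1]
  refine S.add_mem (S.sum_mem fun l _ => S.smul_mem _ ?_) ?_
  · rcases eq_or_ne l i with rfl | e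
    · rw [sub_self]; exact S.zero_mem
    · exact h0 (sub_mem κ e)
  · rcases h with h | ⟨r, hr⟩
    · exact S.smul_mem _ (h0 (b := (Pi.single i (2 * (1 : ℤˣ) : ℤ), Pi.single i 1))
        (Or.inr (Or.inr ⟨i, 1, rfl, Or.inr ⟨h, rfl⟩⟩)))
    · have h2 := S.smul_mem r (S.add_mem (h0 (sub_mem κ hij)) (h0 (add_mem' κ hij)))
      rw [hr]
      convert h2 using 1
      module

theorem q_WW {A : Mat D.R} (hA : A ∈ WW (rts D)) : ∀ v, ∃ z, Q Φ (A *ᵥ v - v) z := by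
  induction hA using Submonoid.closure_induction with
  | mem A h =>
    obtain ⟨a, ha, rfl⟩ := h
    intro v
    rw [show rfm a *ᵥ v - v = (-(a.1 ⬝ᵥ v)) • a.2 by
      rw [rfm, sub_mulVec, one_mulVec, vecMulVec_mulVec, op_smul_eq_smul, sub_sub_cancel_left, neg_smul]]
    exact ⟨_, (q_cor ⟨a, ha⟩).smul _⟩
  | one => exact fun v => ⟨0, by rw [one_mulVec, sub_self]; exact Q.zero⟩
  | mul A A' _ _ h h' =>
    intro v
    obtain ⟨z, h1⟩ := h (A' *ᵥ v)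
    obtain ⟨z', h2⟩ := h' v
    exact ⟨_, by rw [← mulVec_mulVec, ← sub_add_sub_cancel _ (A' *ᵥ v)]; exact h1.add h2⟩

variable {Φ}

theorem two_inj {z z' : Fin n → ℤ} (h : (2 : ℤ) • z = (2 : ℤ) • z') : z = z' := smul_right_injective _ two_ne_zero h

/-- the action of the Weyl group on a label -/
theorem chr_W {c : Lbl D} {x : Fin n → Bool} (hx : Pat Φ c x) (w : D.W) (v : Vec D.R) : ∃ z,
    (2 : ℤ) • z = sm (Φ.emb w) *ᵥ (Φ.P *ᵥ v) - Φ.P *ᵥ v ∧ chr (D.Wm w *ᵥ v) c = chr v c * chr z (sx x) := by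
  obtain ⟨z, h⟩ := q_WW Φ (Wm_mem w) v
  refine ⟨z, by rw [← h.1, mulVec_sub, mulVec_mulVec, Φ.hW, mulVec_mulVec], ?_⟩
  rw [← h.2.1 c x hx, ← chr_add, add_sub_cancel]

theorem chr_W' {c : Lbl D} {x : Fin n → Bool} (hx : Pat Φ c x) (w : D.W) {v : Vec D.R} {z : Fin n → ℤ}
    (h : Φ.P *ᵥ v = (2 : ℤ) • z) : chr (D.Wm w *ᵥ v) c * chr z (sx x) = chr v c * chr (sm (Φ.emb w) *ᵥ z) (sx x) := by
  obtain ⟨y, h1, h2⟩ := chr_W hx w v
  rw [h, mulVec_smul, ← smul_sub] at h1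
  rw [h2, two_inj h1, chr_sub, mul_assoc, inv_mul_cancel_right]

variable {c c' : Lbl D} {x x' : Fin n → Bool}

theorem ag_q (hx : Pat Φ c x) (hx' : Pat Φ c' x') (he : PE (rts D) c c') {u v : Vec D.R} {z : Fin n → ℤ} (hu : Q Φ u z)
    (hv : Φ.P *ᵥ v = (2 : ℤ) • z) : chr v c' * chr z (sx x) = chr v c * chr z (sx x') := by
  have h := he (v - u) ((Φ.perp _).2 (by rw [mulVec_sub, hv, hu.1, sub_self]))
  rw [chr_sub, chr_sub, hu.2.1 c x hx, hu.2.1 c' x' hx', mul_inv_eq_iff_eq_mul] at h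
  rw [h, mul_right_comm, inv_mul_cancel_right]

theorem pat_not (h : κ ≠ .C) (hx : Pat Φ c x) : Pat Φ c fun i => !x i := fun a => by
  rw [chr_not, zpow_even (by rw [neg_mul_neg, one_mul]) (even_cor h (Φ.φ a).2), one_mul, hx a]

/-- the choice of the colours -/
theorem exists_ag (hn : 2 ≤ n) (hx : Pat Φ c x) (hx' : Pat Φ c' x') (he : PE (rts D) c c') :
    AG Φ c c' x x' ∨ κ ≠ .C ∧ AG Φ c c' x fun i => !x' i := by
  have h0 : ∀ {y : Fin n → Bool}, Pat Φ c' y → ∀ v z, Φ.P *ᵥ v = (2 : ℤ) • z → κ = .C ∨ Even (∑ i, z i) →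
      chr v c' * chr z (sx x) = chr v c * chr z (sx y) := fun hy v z h1 h2 =>
    let ⟨_, h⟩ := span Φ hn h2; ag_q hx hy he h h1
  refine or_iff_not_imp_left.2 fun h => ?_
  obtain ⟨v₀, z₀, h1, h2⟩ : ∃ v z, Φ.P *ᵥ v = (2 : ℤ) • z ∧ chr v c' * chr z (sx x) ≠ chr v c * chr z (sx x') := by
    by_contra h3
    push Not at h3
    exact h h3
  obtain ⟨h3, h4⟩ := not_or.1 fun h3 => h2 (h0 hx' v₀ z₀ h1 h3)
  have h5 : chr v₀ c' * chr z₀ (sx x) = chr v₀ c * chr z₀ (sx fun i => !x' i) := by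
    have h6 := h0 hx' (v₀ + v₀) (z₀ + z₀) (by rw [mulVec_add, h1, smul_add])
      (Or.inr ⟨∑ i, z₀ i, by simp only [Pi.add_apply, sum_add_distrib]⟩)
    rw [chr_add, chr_add, chr_add, chr_add, mul_mul_mul_comm, mul_mul_mul_comm (chr v₀ c)] at h6
    rw [chr_not, zpow_odd (by rw [neg_mul_neg, one_mul]) (Int.not_even_iff_odd.1 h4), neg_one_mul, mul_neg]
    have h7 := congrArg Units.val h6
    rw [Units.val_mul, Units.val_mul (_ * _)] at h7
    exact Units.ext ((mul_self_eq_mul_self_iff.1 h7).resolve_left fun e => h2 (Units.ext e))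
  refine ⟨h3, fun v z h6 => ?_⟩
  rcases Int.even_or_odd (∑ i, z i) with h7 | h7
  · exact h0 (pat_not h3 hx') v z h6 (Or.inr h7)
  · have h8 := h0 (pat_not h3 hx') (v - v₀) (z - z₀) (by rw [mulVec_sub, h1, h6, smul_sub]) (Or.inr (by
      simp only [Pi.sub_apply, sum_sub_distrib]
      exact h7.sub_odd (Int.not_even_iff_odd.1 h4)))
    rw [← sub_add_cancel v v₀, ← sub_add_cancel z z₀, chr_add, chr_add, chr_add, chr_add, mul_mul_mul_comm, h8, h5,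
      mul_mul_mul_comm]

theorem par (v : Vec D.R) (i j : Fin n) : 2 ∣ (Φ.P *ᵥ v) i - (Φ.P *ᵥ v) j := by
  rcases eq_or_ne i j with rfl | h
  · rw [sub_self]; exact dvd_zero _
  · obtain ⟨a, -, h1⟩ := dot Φ (sub_mem κ h)
    have h2 := h1 v
    rw [sub_dotProduct, single_dotProduct, single_dotProduct, one_mul, one_mul] at h2
    exact ⟨_, h2⟩

theorem half {v : Vec D.R} {j : Fin n} (h : 2 ∣ (Φ.P *ᵥ v) j) : ∃ z, Φ.P *ᵥ v = (2 : ℤ) • z := by
  have h1 : ∀ i, 2 ∣ (Φ.P *ᵥ v) i := fun i => by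
    have := (par v i j (Φ := Φ)).add h
    rwa [sub_add_cancel] at this
  choose z hz using h1
  exact ⟨z, funext hz⟩

/-- **equal numbers of colours** -/
theorem cj_of (hx : Pat Φ c x) (hx' : Pat Φ c' x') (h : AG Φ c c' x x') (h1 : nt x = nt x') {j : Fin n} (hj : x j = false)
    (hD : κ = .D → ∃ i, x i = true) : Cj (rts D) c c' := by
  obtain ⟨π, hπ⟩ := exists_perm h1
  obtain ⟨u, hu⟩ := (Φ.rng ⟨π, 1⟩).2 ⟨fun _ => rfl, fun _ _ => rfl, fun _ => LV.Cl.Ey.sgn_pm π⟩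
  have h2 : ∀ v z, Φ.P *ᵥ v = (2 : ℤ) • z → chr (D.Wm u *ᵥ v) c' = chr v c := fun v z hv => by
    have h3 := chr_W' hx' u hv
    rw [chr_sm, hu, show (fun i => x' ((⟨π, 1⟩ : SG n).π i)) = x from funext hπ, h v z hv] at h3
    exact mul_right_cancel h3
  by_cases h3 : ∀ v, chr (D.Wm u *ᵥ v) c' = chr v c
  · exact ⟨_, Wm_mem u, h3⟩
  push Not at h3
  obtain ⟨v₀, h3⟩ := h3
  have h4 : ¬ 2 ∣ (Φ.P *ᵥ v₀) j := fun e => let ⟨z, hz⟩ := half e; h3 (h2 _ z hz)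
  have h5 : chr (D.Wm u *ᵥ v₀) c' = -chr v₀ c := by
    have h6 := h2 (v₀ + v₀) (Φ.P *ᵥ v₀) (by rw [mulVec_add, two_smul])
    rw [mulVec_add, chr_add, chr_add] at h6
    have h7 := congrArg Units.val h6
    rw [Units.val_mul, Units.val_mul] at h7
    exact Units.ext ((mul_self_eq_mul_self_iff.1 h7).resolve_left fun e => h3 (Units.ext e))
  obtain ⟨s, s1, s2, s3⟩ : ∃ s : Fin n → ℤˣ, Ws κ (b0 n) ⟨1, s⟩ ∧ s j = -1 ∧ ∀ l, l ≠ j → x l = true ∨ s l = 1 := by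
    by_cases e : κ = .D
    · obtain ⟨i, hi⟩ := hD e
      have hij : i ≠ j := fun e => by rw [e, hj] at hi; exact Bool.false_ne_true hi
      refine ⟨(LV.Cl.tt i * LV.Cl.tt j).s, ⟨fun _ => rfl, fun _ h => (h rfl).elim, fun _ => ?_⟩, ?_, fun l hl => ?_⟩
      · show sgn (LV.Cl.tt i * LV.Cl.tt j) = 1
        rw [map_mul, LV.Cl.Ey.sgn_tt, LV.Cl.Ey.sgn_tt, neg_mul_neg, one_mul]
      · show (if j = i then -1 else 1) * (if j = j then -1 else 1) = (-1 : ℤˣ)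
        rw [if_neg hij.symm, if_pos rfl, one_mul]
      · refine (em (l = i)).imp (fun e => by rw [e, hi]) fun e => ?_
        show (if l = i then -1 else 1) * (if l = j then -1 else 1) = (1 : ℤˣ)
        rw [if_neg e, if_neg hl, one_mul]
    · exact ⟨(LV.Cl.tt j).s, ⟨fun _ => rfl, fun _ h => (h rfl).elim, fun h => (e h).elim⟩, if_pos rfl,
        fun l hl => Or.inr (if_neg hl)⟩
  obtain ⟨t, ht⟩ := (Φ.rng _).2 s1
  have h6 : ∀ v, chr (D.Wm t *ᵥ v) c = chr v c * (-1) ^ (Φ.P *ᵥ v) j := fun v => by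
    obtain ⟨z, h7, h8⟩ := chr_W hx t v
    have h9 : ∀ l, 2 * z l = s l * (Φ.P *ᵥ v) l - (Φ.P *ᵥ v) l := fun l => by
      have := congrFun h7 l
      rw [ht, Pi.sub_apply, sm_apply] at this
      exact this.trans (congrArg (· - _) (spm_mulVec 1 s _ l))
    rw [h8, chr_apply z, prod_eq_single j (fun l _ hl => ?_) fun h => (h (mem_univ j)).elim]
    · have h10 := h9 j
      rw [s2, Units.val_neg, Units.val_one] at h10
      rw [show z j = -(Φ.P *ᵥ v) j by omega, zpow_neg' (sx_sq x j), sx, hj]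
      rfl
    · rcases s3 l hl with e | e
      · rw [sx, e, if_pos rfl, _root_.one_zpow]
      · have h10 := h9 l
        rw [e, Units.val_one] at h10
        rw [show z l = 0 by omega, zpow_zero]
  have h7 : ∀ v, chr (D.Wm u *ᵥ v) c' = chr (D.Wm t *ᵥ v) c := fun v => by
    have h8 : (-1 : ℂˣ) * -1 = 1 := by rw [neg_mul_neg, one_mul]
    rw [h6]
    rcases Int.even_or_odd ((Φ.P *ᵥ v) j) with e | e
    · obtain ⟨z, hz⟩ := half e.two_dvd
      rw [h2 v z hz, zpow_even h8 e, mul_one]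
    · obtain ⟨z, hz⟩ := half (Φ := Φ) (v := v - v₀) (j := j) (by
        rw [mulVec_sub, Pi.sub_apply]
        exact (e.sub_odd (Int.not_even_iff_odd.1 fun e => h4 e.two_dvd)).two_dvd)
      rw [zpow_odd h8 e, ← sub_add_cancel v v₀, mulVec_add, chr_add, chr_add, h2 _ z hz, h5, mul_neg, mul_neg, mul_one]
  refine ⟨_, Wm_mem (u * t⁻¹), fun v => ?_⟩
  rw [D.Wm_mul, ← mulVec_mulVec, h7, mulVec_mulVec, ← D.Wm_mul, mul_inv_cancel, D.Wm_one, one_mulVec]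

/-- odd multiples of the coordinate vectors -/
theorem exists_E (hn : 2 ≤ n) (hz : Cz p (rts D)) (i : Fin n) :
    ∃ (m : ℕ) (v : Vec D.R), Φ.P *ᵥ v = (2 : ℤ) • Pi.single i ((p : ℤ) ^ m) := by
  obtain ⟨m, hm⟩ := hz
  obtain ⟨u, hu⟩ := span Φ hn (z := Pi.single i 2) (Or.inr (by rw [sum_single]; exact even_two))
  have h1 : ∀ y : Submodule.span ℤ (Prod.fst '' rts D), 2 ∣ y.1 ⬝ᵥ u := fun ⟨y, hy⟩ => by
    induction hy using Submodule.span_induction with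
    | mem y h =>
      obtain ⟨a, ha, rfl⟩ := h
      exact ⟨(Φ.φ ⟨a, ha⟩).1.1 i, by rw [hu.2.2 ⟨a, ha⟩, dotProduct_single, mul_comm]⟩
    | zero => rw [zero_dotProduct]; exact dvd_zero _
    | add y y' _ _ h h' => rw [add_dotProduct]; exact h.add h'
    | smul t y _ h => rw [smul_dotProduct]; exact h.mul_left t
  obtain ⟨v, hv⟩ := hm
    { toFun := fun y => y.1 ⬝ᵥ u / 2
      map_add' := fun y y' => by rw [Submodule.coe_add, add_dotProduct, Int.add_ediv_of_dvd_left (h1 y)]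
      map_smul' := fun t y => by
        rw [Submodule.coe_smul, smul_dotProduct, smul_eq_mul, Int.mul_ediv_assoc _ (h1 y), RingHom.id_apply, smul_eq_mul] }
  have h2 : ∀ b ∈ std κ (b0 n), b.1 ⬝ᵥ (Φ.P *ᵥ v - (2 : ℤ) • Pi.single i ((p : ℤ) ^ m)) = 0 := fun b hb => by
    obtain ⟨a, h3, h4⟩ := dot Φ hb
    have h5 : a.1.1 ⬝ᵥ v = p ^ m * (a.1.1 ⬝ᵥ u / 2) := hv ⟨a.1.1, Submodule.subset_span ⟨a.1, a.2, rfl⟩⟩
    rw [dotProduct_sub, h4, h5, hu.2.2 a, h3, dotProduct_smul, dotProduct_single, dotProduct_single,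
      Int.mul_ediv_cancel _ two_ne_zero, smul_eq_mul, mul_comm (b.1 i), sub_self]
  refine ⟨m, v, sub_eq_zero.1 (funext fun l => ?_)⟩
  obtain ⟨j, hj⟩ := exists_ne hn l
  have h3 := h2 _ (sub_mem κ hj)
  have h4 := h2 _ (add_mem' κ hj)
  rw [sub_dotProduct, single_dotProduct, single_dotProduct] at h3
  rw [add_dotProduct, single_dotProduct, single_dotProduct] at h4
  show _ = (0 : ℤ)
  omega

section Fix

variable {j : ℕ} {B : Mat D.R} {τ : SG n} {w w' : D.W}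

theorem odd_q (hp : p ≠ 2) (j : ℕ) : Odd ((p : ℤ) ^ j) :=
  ((Int.odd_coe_nat p).2 ((Fact.out : p.Prime).odd_of_ne_two hp)).pow

theorem fx_pow (hS : St D j B) (h : Fx D w c) (v : Vec D.R) : chr ((D.Wm w * B) *ᵥ v) c ^ ((p : ℤ) ^ j) = chr v c := by
  rw [← h v, hS.WM, smul_mulVec, chr_zsmul]

/-- the colours are preserved or exchanged -/
theorem fx_const (hp : p ≠ 2) (hS : St D j B) (hT : Tw Φ B τ) (hx : Pat Φ c x) (h : Fx D w c) {i l : Fin n}
    (hl : x ((Φ.emb w * τ).π l) = x l) : x ((Φ.emb w * τ).π i) = x i := by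
  rcases eq_or_ne i l with rfl | e
  · exact hl
  obtain ⟨a, ha⟩ := q_std Φ (sub_mem κ e)
  obtain ⟨b, hb, h1, -⟩ := hS.nm w a.1 a.2
  have h2 := q_cor (Φ := Φ) ⟨b, hb⟩
  have h3 : (Φ.φ ⟨b, hb⟩).1.2 = sm (Φ.emb w * τ) *ᵥ (Pi.single i 1 - Pi.single l 1) := two_inj (by
    rw [← h2.1, ← h1, mulVec_mulVec, ← Matrix.mul_assoc, Φ.hW, Matrix.mul_assoc, hT.hB, ← Matrix.mul_assoc, ← map_mul,
      ← mulVec_mulVec, ha.1, mulVec_smul])
  have h4 := fx_pow hS h a.1.2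
  rw [h1, h2.2.1 c x hx, ha.2.1 c x hx, zpow_odd (chr_sq _ _) (odd_q hp j), h3, chr_sm, chr_sub, chr_sub, chr_single,
    chr_single, chr_single, chr_single, show sx (fun i => x ((Φ.emb w * τ).π i)) l = sx x l from sx_inj.2 hl] at h4
  exact sx_inj.1 (mul_right_cancel h4)

theorem fx_val (hp : p ≠ 2) (hS : St D j B) (hT : Tw Φ B τ) (hx : Pat Φ c x) (h : Fx D w c) {v : Vec D.R} {z : Fin n → ℤ}
    (hv : Φ.P *ᵥ v = (2 : ℤ) • z) :
    chr v c * chr (sm τ *ᵥ z) (sx x) = chr (B *ᵥ v) c ^ ((p : ℤ) ^ j) * chr (sm (Φ.emb w * τ) *ᵥ z) (sx x) := by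
  have h1 := congrArg (· ^ ((p : ℤ) ^ j)) (chr_W' hx w (v := B *ᵥ v) (z := sm τ *ᵥ z) (by
    rw [mulVec_mulVec, hT.hB, ← mulVec_mulVec, hv, mulVec_smul]))
  simp only [mul_zpow] at h1
  rwa [zpow_odd (chr_sq _ _) (odd_q hp j), zpow_odd (chr_sq _ _) (odd_q hp j), mulVec_mulVec, fx_pow hS h,
    mulVec_mulVec z, ← map_mul] at h1

theorem fx_two (hn : 2 ≤ n) (hp : p ≠ 2) (hz : Cz p (rts D)) (hS : St D j B) (hT : Tw Φ B τ) (hx : Pat Φ c x)
    (hx' : Pat Φ c' x') (hA : AG Φ c c' x x') (h : Fx D w c) (h' : Fx D w' c') {i : Fin n}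
    (hi : x' ((Φ.emb w' * τ).π i) = x' i) : x ((Φ.emb w * τ).π i) = x i := by
  obtain ⟨m, v, hv⟩ := exists_E (Φ := Φ) hn hz i
  have h1 := fx_val hp hS hT hx h hv
  have h2 := fx_val hp hS hT hx' h' hv
  have h3 := hA v _ hv
  have h4 := congrArg (· ^ ((p : ℤ) ^ j)) (hA (B *ᵥ v) (sm τ *ᵥ Pi.single i ((p : ℤ) ^ m)) (by
    rw [mulVec_mulVec, hT.hB, ← mulVec_mulVec, hv, mulVec_smul]))
  simp only [mul_zpow] at h4
  rw [zpow_odd (chr_sq _ _) (odd_q hp j), zpow_odd (chr_sq _ _) (odd_q hp j)] at h4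
  rw [chr_sm (Φ.emb w * τ), co_single, zpow_odd (sx_sq _ _) (odd_q hp m)] at h1
  rw [chr_sm (Φ.emb w' * τ), co_single, zpow_odd (sx_sq _ _) (odd_q hp m),
    show sx (fun i => x' ((Φ.emb w' * τ).π i)) i = sx x' i from sx_inj.2 hi] at h2
  rw [co_single, co_single, zpow_odd (sx_sq _ _) (odd_q hp m), zpow_odd (sx_sq _ _) (odd_q hp m)] at h3
  refine sx_inj.1 (show sx (fun i => x ((Φ.emb w * τ).π i)) i = sx x i from ?_)
  generalize sx (fun i => x ((Φ.emb w * τ).π i)) i = e at h1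
  generalize chr (sm τ *ᵥ Pi.single i ((p : ℤ) ^ m)) (sx x) = a at h1 h4
  generalize chr (sm τ *ᵥ Pi.single i ((p : ℤ) ^ m)) (sx x') = a' at h2 h4
  generalize chr (B *ᵥ v) c ^ ((p : ℤ) ^ j) = b at h1 h4
  generalize chr (B *ᵥ v) c' ^ ((p : ℤ) ^ j) = b' at h2 h4
  refine mul_left_cancel (a := b * a' * sx x' i) ?_
  calc b * a' * sx x' i * e = b * e * sx x' i * a' := by ac_rfl
    _ = chr v c * sx x' i * a' * a := by rw [← h1]; ac_rfl
    _ = chr v c' * a' * a * sx x i := by rw [← h3]; ac_rfl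
    _ = b' * a * sx x' i * sx x i := by rw [h2]; ac_rfl
    _ = _ := by rw [h4]

end Fix

theorem cen_of (h : κ ≠ .C) (hx : Pat Φ c x) {b : Bool} (hb : ∀ i, x i = b) : Cen (rts D) c := fun a ha => by
  have h1 : ∀ {y : Fin n → Bool}, Pat Φ c y → (∀ i, y i = true) → chr a.2 c = 1 := fun {y} hy h2 => by
    rw [hy ⟨a, ha⟩, show sx y = 1 from funext fun i => if_pos (h2 i), map_one]
  cases b
  · exact h1 (pat_not h hx) fun i => by rw [hb i]; rfl
  · exact h1 hx hb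

theorem nt_four (hn : n = 4) (hx : Pat Φ c x) (hO : Ok κ x) (h : κ = .D) (hc : ¬ Cen (rts D) c) :
    nt x = 2 ∧ (∃ i, x i = true) ∧ ∃ j, x j = false := by
  have h0 : κ ≠ .C := fun e => Kd.noConfusion (h.symm.trans e)
  have h1 : ∃ i, x i = true := by
    by_contra e
    push Not at e
    exact hc (cen_of h0 hx fun i => Bool.eq_false_iff.2 (e i))
  have h2 : ∃ i, x i = false := by
    by_contra e
    push Not at e
    exact hc (cen_of h0 hx fun i => Bool.ne_false_iff.1 (e i))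
  have h3 : 0 < nt x := card_pos.2 (let ⟨i, h⟩ := h1; ⟨i, mem_filter.2 ⟨mem_univ i, h⟩⟩)
  have h4 : 0 < #{j | x j = false} := card_pos.2 (let ⟨i, h⟩ := h2; ⟨i, mem_filter.2 ⟨mem_univ i, h⟩⟩)
  have h5 : nt x ≠ 1 := hO.1 h
  have h6 := hO.2 fun e => Kd.noConfusion (h.symm.trans e)
  have h7 := nt_add x
  exact ⟨by omega, h1, h2⟩

end Lab

variable {p : ℕ} [Fact p.Prime] {k : Type} [Field k] [CharP k p] [IsAlgClosed k] {Y : Type} [Group Y] {N : Type}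
  [Fintype N] [DecidableEq N] {ρ : Y →* GL N k} {F : MulAut Y} {G : Subgroup Y} (D : Datum p ρ F G)

open Lab in
/-- **two labels** -/
theorem two : p ≠ 2 → Cz p (rts D) → ∀ κ n, Rk κ n → ∀ (Φ : Fw D κ (b0 n) 2) c c' x x', Pat Φ c x → Ok κ x → Pat Φ c' x' →
    Ok κ x' → PE (rts D) c c' → ¬ Cj (rts D) c c' →
    (κ = .C → (∃ i, x i = true) ∨ ∃ i, x' i = true) ∧ (κ = .D → n = 4 → Cen (rts D) c ∨ Cen (rts D) c') ∧
      ∀ j B τ, St D j B → Tw Φ B τ → ∀ w w', Fx D w c → Fx D w' c' → ∀ i, x ((Φ.emb w * τ).π i) = x i := by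
  intro hp hz κ n hR Φ c c' x x' hx hO hx' hO' he hc
  have hn : 2 ≤ n := by rcases hR with h | h | h <;> omega
  have hA := exists_ag hn hx hx' he
  refine ⟨fun h => ?_, fun h h4 => ?_, fun j B τ hS hT w w' h h' i => ?_⟩
  · by_contra e
    push Not at e
    have h1 : x = x' := funext fun i => (Bool.eq_false_iff.2 (e.1 i)).trans (Bool.eq_false_iff.2 (e.2 i)).symm
    exact hc (cj_of hx hx' (hA.resolve_right fun h2 => h2.1 h) (by rw [h1]) (j := ⟨0, by omega⟩)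
      (Bool.eq_false_iff.2 (e.1 _)) fun h2 => Kd.noConfusion (h.symm.trans h2))
  · by_contra e
    obtain ⟨h1, h2, l, h3⟩ := nt_four h4 hx hO h fun h => e (Or.inl h)
    have h5 := (nt_four h4 hx' hO' h fun h => e (Or.inr h)).1
    rcases hA with hA | ⟨h6, hA⟩
    · exact hc (cj_of hx hx' hA (h1.trans h5.symm) h3 fun _ => h2)
    · have h7 := nt_add x'
      exact hc (cj_of hx (pat_not h6 hx') hA (by rw [nt_not]; omega) h3 fun _ => h2)
  · by_contra e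
    obtain ⟨y, hy, hA⟩ : ∃ y, Pat Φ c' y ∧ AG Φ c c' x y := hA.elim (fun h => ⟨_, hx', h⟩) fun h => ⟨_, pat_not h.1 hx', h.2⟩
    have h1 : ∀ l, x ((Φ.emb w * τ).π l) ≠ x l := fun l hl => e (fx_const hp hS hT hx h hl)
    have h2 := two_nt h1
    have h3 := two_nt fun l hl => h1 l (fx_two hn hp hz hS hT hx hy hA h h' hl)
    obtain ⟨⟨a, ha⟩, b, hb⟩ : (∃ a, x a = true) ∧ ∃ b, x b = false := by
      cases h4 : x i
      · exact ⟨⟨_, Bool.ne_false_iff.1 (h4 ▸ e)⟩, i, h4⟩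
      · exact ⟨⟨i, h4⟩, _, Bool.eq_false_iff.2 (h4 ▸ e)⟩
    exact hc (cj_of hx hy hA (by omega) hb fun _ => ⟨a, ha⟩)

end Cfsg.Agent.HZ.L.X
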