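import Cfsg.Agent.HZ.L.X.Defs

/-!
# HZ/L/X, normal form of the exact types: isomorphisms of root systems (helper55)
-/

set_option autoImplicit false
set_option linter.unusedSectionVars false

namespace Cfsg.Agent.HZ.L.X.Norm

open Matrix Set

variable {R R' : Type} [Fintype R] [DecidableEq R] [Fintype R'] [DecidableEq R']

/-- orthogonal systems -/
def Ort (Ψ₁ Ψ₂ : RS R) : Prop := ∀ a ∈ Ψ₁, ∀ b ∈ Ψ₂, a.1 ⬝ᵥ b.2 = 0 ∧ b.1 ⬝ᵥ a.2 = 0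

/-- the map keeps the Cartan integers -/
def Ca (f : Vec R × Vec R → Vec R' × Vec R') (Ψ : RS R) : Prop :=
  ∀ a ∈ Ψ, ∀ b ∈ Ψ, (f a).1 ⬝ᵥ (f b).2 = a.1 ⬝ᵥ b.2

theorem iso_of_bijOn {Ψ : RS R} {Ψ' : RS R'} {f : Vec R × Vec R → Vec R' × Vec R'} (h : BijOn f Ψ Ψ') (hc : Ca f Ψ) :
    Iso Ψ Ψ' :=
  ⟨h.equiv f, fun a b => hc a.1 a.2 b.1 b.2⟩

theorem exists_bijOn {Ψ : RS R} {Ψ' : RS R'} (h : Iso Ψ Ψ') : ∃ f, BijOn f Ψ Ψ' ∧ Ca f Ψ := by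
  classical
  obtain ⟨φ, hφ⟩ := h
  refine ⟨fun a => if h : a ∈ Ψ then (φ ⟨a, h⟩).1 else 0, ⟨fun a ha => ?_, fun a ha b hb e => ?_, fun b hb => ?_⟩,
    fun a ha b hb => ?_⟩
  · simp only [dif_pos ha]; exact (φ ⟨a, ha⟩).2
  · simp only [dif_pos ha, dif_pos hb] at e
    exact congrArg Subtype.val (φ.injective (Subtype.ext e))
  · refine ⟨(φ.symm ⟨b, hb⟩).1, (φ.symm ⟨b, hb⟩).2, ?_⟩
    simp only [dif_pos (φ.symm ⟨b, hb⟩).2, Subtype.coe_eta, Equiv.apply_symm_apply]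
  · simp only [dif_pos ha, dif_pos hb]; exact hφ ⟨a, ha⟩ ⟨b, hb⟩

theorem iso_of_inv {Ψ : RS R} {Ψ' : RS R'} (f : Vec R × Vec R → Vec R' × Vec R') (g : Vec R' × Vec R' → Vec R × Vec R)
    (h1 : ∀ a ∈ Ψ, f a ∈ Ψ' ∧ g (f a) = a ∧ ∀ b ∈ Ψ, (f a).1 ⬝ᵥ (f b).2 = a.1 ⬝ᵥ b.2)
    (h2 : ∀ b ∈ Ψ', g b ∈ Ψ ∧ f (g b) = b) : Iso Ψ Ψ' :=
  iso_of_bijOn (InvOn.bijOn (f' := g) ⟨fun a ha => (h1 a ha).2.1, fun b hb => (h2 b hb).2⟩ (fun a ha => (h1 a ha).1)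
    (fun b hb => (h2 b hb).1)) (fun a ha => (h1 a ha).2.2)

theorem iso_empty {Ψ : RS R} {Ψ' : RS R'} (h : Ψ = ∅) (h' : Ψ' = ∅) : Iso Ψ Ψ' := by
  subst h h'
  exact iso_of_bijOn (bijOn_empty (fun _ => 0)) (fun a ha => ha.elim)

theorem iso_nonempty {Ψ : RS R} {Ψ' : RS R'} (h : Iso Ψ Ψ') (h' : Ψ'.Nonempty) : Ψ.Nonempty := by
  obtain ⟨φ, -⟩ := h
  obtain ⟨b, hb⟩ := h'
  exact ⟨_, (φ.symm ⟨b, hb⟩).2⟩

theorem iso_union {Ψ₁ Ψ₂ : RS R} {Φ₁ Φ₂ : RS R'} (h1 : Iso Ψ₁ Φ₁) (h2 : Iso Ψ₂ Φ₂) (o : Ort Ψ₁ Ψ₂) (o' : Ort Φ₁ Φ₂)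
    (d : ∀ a ∈ Φ₁, a.1 ⬝ᵥ a.2 ≠ 0) : Iso (Ψ₁ ∪ Ψ₂) (Φ₁ ∪ Φ₂) := by
  classical
  obtain ⟨f, hf, cf⟩ := exists_bijOn h1
  obtain ⟨g, hg, cg⟩ := exists_bijOn h2
  have n : ∀ a ∈ Ψ₂, a ∉ Ψ₁ := fun a ha ha' => d _ (hf.1 ha') (by rw [cf a ha' a ha']; exact (o a ha' a ha).1)
  have e1 : ∀ a ∈ Ψ₁, Ψ₁.piecewise f g a = f a := fun a ha => piecewise_eq_of_mem _ _ _ ha
  have e2 : ∀ a ∈ Ψ₂, Ψ₁.piecewise f g a = g a := fun a ha => piecewise_eq_of_notMem _ _ _ (n a ha)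
  refine iso_of_bijOn (f := Ψ₁.piecewise f g) (BijOn.union (hf.congr fun a ha => (e1 a ha).symm)
    (hg.congr fun a ha => (e2 a ha).symm) ?_) ?_
  · rintro a (ha | ha) b (hb | hb) e
    · rw [e1 a ha, e1 b hb] at e; exact hf.2.1 ha hb e
    · rw [e1 a ha, e2 b hb] at e
      exact (d _ (hf.1 ha) (o' _ (hf.1 ha) _ (e ▸ hg.1 hb)).1).elim
    · rw [e2 a ha, e1 b hb] at e
      exact (d _ (hf.1 hb) (o' _ (hf.1 hb) _ (e ▸ hg.1 ha)).1).elim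
    · rw [e2 a ha, e2 b hb] at e; exact hg.2.1 ha hb e
  · rintro a (ha | ha) b (hb | hb)
    · rw [e1 a ha, e1 b hb]; exact cf a ha b hb
    · rw [e1 a ha, e2 b hb, (o' _ (hf.1 ha) _ (hg.1 hb)).1, (o a ha b hb).1]
    · rw [e2 a ha, e1 b hb, (o' _ (hf.1 hb) _ (hg.1 ha)).2, (o b hb a ha).2]
    · rw [e2 a ha, e2 b hb]; exact cg a ha b hb

theorem iso_split {Ψ : RS R} {Φ₁ Φ₂ : RS R'} (h : Iso Ψ (Φ₁ ∪ Φ₂)) (o : Ort Φ₁ Φ₂) :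
    ∃ Ψ₁ Ψ₂, Ψ = Ψ₁ ∪ Ψ₂ ∧ Ort Ψ₁ Ψ₂ ∧ Iso Ψ₁ Φ₁ ∧ Iso Ψ₂ Φ₂ := by
  obtain ⟨f, hf, cf⟩ := exists_bijOn h
  have k : ∀ Φ ⊆ Φ₁ ∪ Φ₂, Iso (Ψ ∩ f ⁻¹' Φ) Φ := fun Φ hΦ =>
    iso_of_bijOn (f := f) ⟨fun a ha => ha.2, hf.2.1.mono inter_subset_left, fun b hb => by
      obtain ⟨a, ha, rfl⟩ := hf.2.2 (hΦ hb)
      exact ⟨a, ⟨ha, hb⟩, rfl⟩⟩ (fun a ha b hb => cf a ha.1 b hb.1)
  refine ⟨Ψ ∩ f ⁻¹' Φ₁, Ψ ∩ f ⁻¹' Φ₂, ?_, fun a ha b hb => ?_, k _ subset_union_left, k _ subset_union_right⟩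
  · rw [← inter_union_distrib_left, ← preimage_union]
    exact (inter_eq_left.2 hf.1).symm
  · rw [← cf a ha.1 b hb.1, ← cf b hb.1 a ha.1]
    exact o _ ha.2 _ hb.2

/-- the matrix of a map of coordinates -/
def em (e : R → R') : Matrix R' R ℤ := Matrix.of fun i' i => if e i = i' then 1 else 0

theorem em_single (e : R → R') (i : R) (s : ℤ) : em e *ᵥ Pi.single i s = Pi.single (e i) s := by
  ext i'
  simp [em, mulVec_single, Pi.single_apply, eq_comm]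

theorem em_dot {e : R → R'} (he : Function.Injective e) (v w : Vec R) : (em e *ᵥ v) ⬝ᵥ (em e *ᵥ w) = v ⬝ᵥ w := by
  rw [dotProduct_mulVec]
  congr 1
  ext i
  simp [em, vecMul, mulVec, dotProduct, he.eq_iff]

theorem em_inj {e : R → R'} (he : Function.Injective e) {v w : Vec R} (h : em e *ᵥ v = em e *ᵥ w) : v = w := by
  rw [← sub_eq_zero, ← dotProduct_self_eq_zero, ← em_dot he, mulVec_sub, h, sub_self, zero_dotProduct]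

/-- the push-forward -/
def pf (e : R → R') (a : Vec R × Vec R) : Vec R' × Vec R' := (em e *ᵥ a.1, em e *ᵥ a.2)

theorem iso_pf {e : R → R'} (he : Function.Injective e) (Ψ : RS R) : Iso Ψ (pf e '' Ψ) :=
  iso_of_bijOn (InjOn.bijOn_image fun _ _ _ _ h =>
    Prod.ext (em_inj he (congrArg Prod.fst h)) (em_inj he (congrArg Prod.snd h))) fun _ _ _ _ => em_dot he _ _

/-- `e_i - e_j` -/
def ea (i j : R) : Vec R × Vec R := (Pi.single i 1 - Pi.single j 1, Pi.single i 1 - Pi.single j 1)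

/-- `s (e_i + e_j)` -/
def ed (i j : R) (s : ℤˣ) : Vec R × Vec R :=
  (Pi.single i (s : ℤ) + Pi.single j (s : ℤ), Pi.single i (s : ℤ) + Pi.single j (s : ℤ))

/-- short root of `B` -/
def eb (i : R) (s : ℤˣ) : Vec R × Vec R := (Pi.single i (s : ℤ), Pi.single i (2 * s : ℤ))

/-- long root of `C` -/
def ec (i : R) (s : ℤˣ) : Vec R × Vec R := (Pi.single i (2 * s : ℤ), Pi.single i (s : ℤ))

theorem pf_ea (e : R → R') (i j : R) : pf e (ea i j) = ea (e i) (e j) := by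
  simp only [pf, ea, mulVec_sub, em_single]

theorem pf_ed (e : R → R') (i j : R) (s : ℤˣ) : pf e (ed i j s) = ed (e i) (e j) s := by
  simp only [pf, ed, mulVec_add, em_single]

theorem pf_eb (e : R → R') (i : R) (s : ℤˣ) : pf e (eb i s) = eb (e i) s := by
  simp only [pf, eb, em_single]

theorem pf_ec (e : R → R') (i : R) (s : ℤˣ) : pf e (ec i s) = ec (e i) s := by
  simp only [pf, ec, em_single]

theorem mem_std {κ : Kd} {blk : R → ℕ} {a : Vec R × Vec R} : a ∈ std κ blk ↔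
    (∃ i j, i ≠ j ∧ blk i = blk j ∧ a = ea i j) ∨ (∃ i j s, i ≠ j ∧ blk i = 0 ∧ blk j = 0 ∧ a = ed i j s) ∨
      ∃ i s, blk i = 0 ∧ (κ = .B ∧ a = eb i s ∨ κ = .C ∧ a = ec i s) := Iff.rfl

theorem mem_pf {κ : Kd} {blk : R → ℕ} {e : R → R'} {a : Vec R' × Vec R'} : a ∈ pf e '' std κ blk ↔
    (∃ i j, i ≠ j ∧ blk i = blk j ∧ a = ea (e i) (e j)) ∨
      (∃ i j s, i ≠ j ∧ blk i = 0 ∧ blk j = 0 ∧ a = ed (e i) (e j) s) ∨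
      ∃ i s, blk i = 0 ∧ (κ = .B ∧ a = eb (e i) s ∨ κ = .C ∧ a = ec (e i) s) := by
  constructor
  · rintro ⟨b, hb, rfl⟩
    rcases mem_std.1 hb with ⟨i, j, h1, h2, rfl⟩ | ⟨i, j, s, h1, h2, h3, rfl⟩ | ⟨i, s, h1, ⟨h2, rfl⟩ | ⟨h2, rfl⟩⟩
    · exact .inl ⟨i, j, h1, h2, pf_ea ..⟩
    · exact .inr (.inl ⟨i, j, s, h1, h2, h3, pf_ed ..⟩)
    · exact .inr (.inr ⟨i, s, h1, .inl ⟨h2, pf_eb ..⟩⟩)
    · exact .inr (.inr ⟨i, s, h1, .inr ⟨h2, pf_ec ..⟩⟩)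
  · rintro (⟨i, j, h1, h2, rfl⟩ | ⟨i, j, s, h1, h2, h3, rfl⟩ | ⟨i, s, h1, ⟨h2, rfl⟩ | ⟨h2, rfl⟩⟩)
    · exact ⟨_, mem_std.2 (.inl ⟨i, j, h1, h2, rfl⟩), pf_ea ..⟩
    · exact ⟨_, mem_std.2 (.inr (.inl ⟨i, j, s, h1, h2, h3, rfl⟩)), pf_ed ..⟩
    · exact ⟨_, mem_std.2 (.inr (.inr ⟨i, s, h1, .inl ⟨h2, rfl⟩⟩)), pf_eb ..⟩
    · exact ⟨_, mem_std.2 (.inr (.inr ⟨i, s, h1, .inr ⟨h2, rfl⟩⟩)), pf_ec ..⟩

theorem mem_stdA {κ : Kd} {blk : R → ℕ} (h : ∀ i, blk i ≠ 0) {a : Vec R × Vec R} : a ∈ std κ blk ↔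
    ∃ i j, i ≠ j ∧ blk i = blk j ∧ a = ea i j := by
  simp only [mem_std, h, false_and, and_false, exists_false, or_false]

theorem mem_pfA {κ : Kd} {blk : R → ℕ} (h : ∀ i, blk i ≠ 0) {e : R → R'} {a : Vec R' × Vec R'} :
    a ∈ pf e '' std κ blk ↔ ∃ i j, i ≠ j ∧ blk i = blk j ∧ a = ea (e i) (e j) := by
  simp only [mem_pf, h, false_and, and_false, exists_false, or_false]

/-- reindexing -/
theorem iso_reindex (κ : Kd) (blk : R' → ℕ) (e : R ≃ R') : Iso (std κ (blk ∘ e)) (std κ blk) := by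
  have : pf e '' std κ (blk ∘ e) = std κ blk := by
    ext a
    simp only [mem_pf, mem_std, e.surjective.exists (p := fun i => ∃ j, _), e.surjective.exists (p := fun j => _ ≠ j ∧ _),
      e.surjective.exists (p := fun j => ∃ s, _ ≠ j ∧ _), Function.comp, ne_eq, e.injective.eq_iff]
  exact this ▸ iso_pf e.injective _

theorem tyA_iso {Ψ : RS R} {Ψ' : RS R'} (h : Iso Ψ Ψ') (e : TyA Ψ') : TyA Ψ := by
  obtain ⟨n, blk, h1, h2⟩ := e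
  exact ⟨n, blk, h1, h.trans h2⟩

theorem big_iso {Ψ : RS R} {Ψ' : RS R'} (h : Iso Ψ Ψ') (e : Big Ψ') : Big Ψ := by
  obtain ⟨κ, n, h1, h2⟩ := e
  exact ⟨κ, n, h1, h.trans h2⟩

theorem tyA_std {blk : R → ℕ} (h : ∀ i, blk i ≠ 0) : TyA (std .D blk) :=
  ⟨_, blk ∘ (Fintype.equivFin R).symm, fun _ => h _, (iso_reindex .D blk (Fintype.equivFin R).symm).symm⟩

theorem ea_dot (i j k l : R) : (ea i j).1 ⬝ᵥ (ea k l).2 =
    (if i = k then 1 else 0) - (if i = l then 1 else 0) - ((if j = k then 1 else 0) - (if j = l then 1 else 0)) := by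
  simp only [ea, sub_dotProduct, single_dotProduct, Pi.sub_apply, Pi.single_apply, one_mul]

theorem ea_dot_eq {i j k l : R} (h1 : i ≠ j) (h2 : k ≠ l) :
    (ea i j).1 ⬝ᵥ (ea k l).2 = 0 ↔ i ≠ k ∧ i ≠ l ∧ j ≠ k ∧ j ≠ l := by
  rw [ea_dot]
  split_ifs <;> simp_all

theorem tyA_union {Ψ₁ Ψ₂ : RS R} (h1 : TyA Ψ₁) (h2 : TyA Ψ₂) (o : Ort Ψ₁ Ψ₂) : TyA (Ψ₁ ∪ Ψ₂) := by
  obtain ⟨n₁, b₁, z₁, h1⟩ := h1
  obtain ⟨n₂, b₂, z₂, h2⟩ := h2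
  have z : ∀ i, Sum.elim (fun i => 2 * b₁ i) (fun i => 2 * b₂ i + 1) i ≠ 0 := by
    rintro (i | i)
    · have := z₁ i; simp only [Sum.elim_inl]; omega
    · simp
  have e : pf Sum.inl '' std .D b₁ ∪ pf Sum.inr '' std .D b₂ =
      std .D (Sum.elim (fun i => 2 * b₁ i) (fun i => 2 * b₂ i + 1)) := by
    ext a
    rw [mem_union, mem_pfA z₁, mem_pfA z₂, mem_stdA z]
    constructor
    · rintro (⟨i, j, h1, h2, rfl⟩ | ⟨i, j, h1, h2, rfl⟩)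
      · exact ⟨_, _, by simpa using h1, by simpa using h2, rfl⟩
      · exact ⟨_, _, by simpa using h1, by simpa using h2, rfl⟩
    · rintro ⟨i | i, j | j, h1, h2, rfl⟩
      · exact .inl ⟨_, _, by simpa using h1, by simpa using h2, rfl⟩
      · simp only [Sum.elim_inl, Sum.elim_inr] at h2; omega
      · simp only [Sum.elim_inl, Sum.elim_inr] at h2; omega
      · exact .inr ⟨_, _, by simpa using h1, by simpa using h2, rfl⟩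
  refine tyA_iso (iso_union (h1.trans (iso_pf Sum.inl_injective _)) (h2.trans (iso_pf Sum.inr_injective _)) o ?_ ?_)
    (e ▸ tyA_std z)
  · intro a ha b hb
    obtain ⟨i, j, h1, -, rfl⟩ := (mem_pfA z₁).1 ha
    obtain ⟨k, l, h2, -, rfl⟩ := (mem_pfA z₂).1 hb
    simp [ea_dot]
  · intro a ha
    obtain ⟨i, j, h1, -, rfl⟩ := (mem_pfA z₁).1 ha
    rw [ne_eq, ea_dot_eq (by simpa using h1) (by simpa using h1)]
    simp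

end Cfsg.Agent.HZ.L.X.Norm
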