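import Cfsg.Agent.HZ.L.X.Defs

/-!
# HZ/L/X, type `A`: permutations of blocks (helper4)
-/

set_option autoImplicit false
set_option linter.unusedSectionVars false

namespace Cfsg.Agent.HZ.L.X.TA

open Cfsg Cfsg.Agent.DL Cfsg.Agent.DL.PP Matrix Cfsg.Agent.KZ.Lie Equiv
open Cfsg.Agent.LV.Cl (SG sm sgn)

section Prm

variable {α β : Type} [Fintype α] [DecidableEq α] {f : α → β} {γ γ' : Perm α}

theorem blk_pow (h : ∀ i j, f i = f j → f (γ i) = f (γ' j)) (t : ℕ) {i j : α} (e : f i = f j) :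
    f ((γ ^ t) i) = f ((γ' ^ t) j) := by
  induction t with
  | zero => exact e
  | succ t ih => rw [pow_succ', pow_succ']; exact h _ _ ih

/-- a permutation which keeps the relation "same block" keeps it in both directions -/
theorem blk_iff (h : ∀ i j, f i = f j → f (γ i) = f (γ j)) (i j : α) : f (γ i) = f (γ j) ↔ f i = f j := by
  refine ⟨fun e => ?_, h i j⟩
  have e' := blk_pow h (orderOf γ - 1) e
  rwa [← Perm.mul_apply, ← Perm.mul_apply, ← pow_succ, Nat.sub_add_cancel (orderOf_pos γ), pow_orderOf_eq_one] at e'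

theorem cyc_on (γ : Perm α) (r : α) [DecidablePred (γ.SameCycle r)] :
    γ.IsCycleOn (Finset.univ.filter (γ.SameCycle r) : Finset α) :=
  ⟨Equiv.bijOn γ fun a => by simp, fun x hx y hy => by
    simp only [Finset.coe_filter, Finset.mem_univ, true_and, Set.mem_ofPred_eq] at hx hy
    exact hx.symm.trans hy⟩

/-- two permutations with the same action on the blocks, each block inside a cycle, are conjugate by a permutation which
keeps the blocks -/
theorem exists_conj (h : ∀ i j, f i = f j → f (γ i) = f (γ' j)) (h2 : ∀ i j, f i = f j → γ.SameCycle i j)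
    (h3 : ∀ i j, f i = f j → γ'.SameCycle i j) : ∃ σ : Perm α, (∀ i, f (σ i) = f i) ∧ σ * γ = γ' * σ := by
  classical
  have hc : ∀ i j, γ.SameCycle i j ↔ γ'.SameCycle i j := fun i j => ⟨fun e => by
      obtain ⟨t, rfl⟩ := e.exists_nat_pow_eq
      exact (h3 _ _ (blk_pow h t rfl)).symm.of_pow_left, fun e => by
      obtain ⟨t, rfl⟩ := e.exists_nat_pow_eq
      exact (h2 _ _ (blk_pow h t rfl)).of_pow_left⟩
  have key : ∀ r (a b : ℕ), (γ ^ a) r = (γ ^ b) r ↔ (γ' ^ a) r = (γ' ^ b) r := fun r a b => by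
    rw [(cyc_on γ r).pow_apply_eq_pow_apply (by simp [Perm.SameCycle.refl]),
      (cyc_on γ' r).pow_apply_eq_pow_apply (by simp [Perm.SameCycle.refl]), Finset.filter_congr fun x _ => hc r x]
  let rp : α → α := fun i => (Quotient.mk (Perm.SameCycle.setoid γ) i).out
  have hr : ∀ i, γ.SameCycle (rp i) i := fun i => Quotient.mk_out (s := Perm.SameCycle.setoid γ) i
  have hr' : ∀ i j, γ.SameCycle i j → rp i = rp j := fun i j e =>
    congrArg Quotient.out (Quotient.sound (s := Perm.SameCycle.setoid γ) e)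
  choose t ht using fun i => (hr i).exists_nat_pow_eq
  have hi : Function.Injective fun i => (γ' ^ t i) (rp i) := fun i j e => by
    have e0 : (γ' ^ t i) (rp i) = (γ' ^ t j) (rp j) := e
    have e1 : rp i = rp j := hr' i j ((hr i).symm.trans (((hc _ _).2
      (Perm.SameCycle.of_pow_right (n := t j) (e0 ▸ (Perm.SameCycle.refl _ _).pow_right))).trans (hr j)))
    rw [← e1, ← key, ht, e1, ht] at e0
    exact e0
  refine ⟨Equiv.ofBijective _ (Finite.injective_iff_bijective.1 hi), fun i => ?_, Equiv.ext fun i => ?_⟩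
  · exact (blk_pow h (t i) rfl).symm.trans (congrArg f (ht i))
  · show (γ' ^ t (γ i)) (rp (γ i)) = γ' ((γ' ^ t i) (rp i))
    have e1 : rp (γ i) = rp i := hr' _ _ (Perm.SameCycle.refl γ i).apply_left
    have e2 := ht (γ i)
    rw [e1] at e2 ⊢
    rw [← Perm.mul_apply, ← pow_succ', ← key, e2, pow_succ', Perm.mul_apply, ht]

/-- an eigenfunction which is constant on the blocks -/
theorem exists_eigf (s : α → ℂ) (h : ∀ i j, f (γ i) = f (γ j) ↔ f i = f j) (hs : ∀ i j, f i = f j → s i = s j)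
    {U : α → Prop} (hU : ∀ i, U (γ i) ↔ U i) (hU' : ∀ i j, f i = f j → U i → U j) :
    ∃ (μ : ℂ) (κ : α → ℂ), ((∃ i, U i) → κ ≠ 0) ∧ (∀ i j, f i = f j → κ i = κ j) ∧ (∀ i, ¬ U i → κ i = 0) ∧
      ∀ l, s l * κ l = μ * κ (γ l) := by
  classical
  by_cases h0 : ∃ i, U i
  swap
  · exact ⟨0, 0, fun e => absurd e h0, fun _ _ _ => rfl, fun _ _ => rfl, fun _ => by simp⟩
  let V : Submodule ℂ (α → ℂ) :=
    { carrier := {κ | (∀ i j, f i = f j → κ i = κ j) ∧ ∀ i, ¬ U i → κ i = 0}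
      add_mem' := fun {a b} ha hb => ⟨fun i j e => by rw [Pi.add_apply, Pi.add_apply, ha.1 i j e, hb.1 i j e],
        fun i e => by rw [Pi.add_apply, ha.2 i e, hb.2 i e, add_zero]⟩
      zero_mem' := ⟨fun _ _ _ => rfl, fun _ _ => rfl⟩
      smul_mem' := fun c a ha => ⟨fun i j e => by rw [Pi.smul_apply, Pi.smul_apply, ha.1 i j e],
        fun i e => by rw [Pi.smul_apply, ha.2 i e, smul_zero]⟩ }
  let T : (α → ℂ) →ₗ[ℂ] α → ℂ := LinearMap.pi fun i => s (γ.symm i) • LinearMap.proj (γ.symm i)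
  have hT : ∀ κ i, T κ i = s (γ.symm i) * κ (γ.symm i) := fun _ _ => rfl
  have hV : ∀ κ ∈ V, T κ ∈ V := fun κ hκ => ⟨fun i j e => by
      have e' : f (γ.symm i) = f (γ.symm j) := (h _ _).1 (by rwa [apply_symm_apply, apply_symm_apply])
      rw [hT, hT, hs _ _ e', hκ.1 _ _ e'],
    fun i e => by rw [hT, hκ.2 _ fun e' => e (by rwa [← hU, apply_symm_apply] at e'), mul_zero]⟩
  have : Nontrivial V := by
    obtain ⟨i, hi⟩ := h0
    refine ⟨⟨⟨fun j => if U j then 1 else 0, fun a b e => ?_, fun a e => if_neg e⟩, 0, fun e => ?_⟩⟩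
    · exact if_congr ⟨hU' a b e, hU' b a e.symm⟩ rfl rfl
    · have e' : (if U i then (1 : ℂ) else 0) = 0 := congrFun (congrArg Subtype.val e) i
      rw [if_pos hi] at e'
      exact one_ne_zero e'
  obtain ⟨μ, hμ⟩ := Module.End.exists_eigenvalue (T.restrict hV : Module.End ℂ V)
  obtain ⟨κ, hκ⟩ := hμ.exists_hasEigenvector
  refine ⟨μ, κ.1, fun _ e => hκ.2 (Subtype.ext e), κ.2.1, κ.2.2, fun l => ?_⟩
  have e : T κ.1 (γ l) = μ * κ.1 (γ l) := congrFun (congrArg Subtype.val hκ.apply_eq_smul) (γ l)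
  rwa [hT, symm_apply_apply] at e

end Prm

section Std

variable {n : ℕ} {blk : Fin n → ℕ}

/-- the root `e i - e j` -/
def ee (i j : Fin n) : Vec (Fin n) := Pi.single i 1 - Pi.single j 1

theorem ee_apply (i j l : Fin n) : ee i j l = (if l = i then 1 else 0) - if l = j then 1 else 0 := by
  simp only [ee, Pi.sub_apply, Pi.single_apply]

theorem ee_dot (i j : Fin n) (v : Vec (Fin n)) : ee i j ⬝ᵥ v = v i - v j := by
  simp only [ee, sub_dotProduct, single_dotProduct, one_mul]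

theorem ee_inj {i j u v : Fin n} (h : i ≠ j) (e : ee i j = ee u v) : i = u ∧ j = v := by
  have e1 := congrFun e i
  have e2 := congrFun e j
  rw [ee_apply, ee_apply, if_pos rfl, if_neg h] at e1
  rw [ee_apply, ee_apply, if_pos rfl, if_neg h.symm] at e2
  constructor
  · by_contra e'
    rw [if_neg e'] at e1
    split_ifs at e1 <;> omega
  · by_contra e'
    rw [if_neg e'] at e2
    split_ifs at e2 <;> omega

theorem mem_std (hb : ∀ i, blk i ≠ 0) {a : Vec (Fin n) × Vec (Fin n)} :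
    a ∈ std .D blk ↔ ∃ i j, i ≠ j ∧ blk i = blk j ∧ a = (ee i j, ee i j) :=
  ⟨fun h => h.elim id fun h => h.elim (fun ⟨i, _, _, _, e, _⟩ => absurd e (hb i)) fun ⟨i, _, e, _⟩ => absurd e (hb i),
    Or.inl⟩

theorem ee_mem {i j : Fin n} (h : i ≠ j) (e : blk i = blk j) : (ee i j, ee i j) ∈ std .D blk := Or.inl ⟨i, j, h, e, rfl⟩

/-- signed permutations which map a root of type `A` to a root of type `A` -/
theorem sm_ee {g : SG n} {i j u v : Fin n} (h : u ≠ v) (e : sm g *ᵥ ee i j = ee u v) :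
    g.s i = g.s j ∧ (g.s i = 1 ∧ u = g.π i ∧ v = g.π j ∨ g.s i = -1 ∧ u = g.π j ∧ v = g.π i) := by
  rw [ee, mulVec_sub, LV.Cl.sm_apply, KZ.Dat.spm_mulVec_single, KZ.Dat.spm_mulVec_single, mul_one, mul_one] at e
  have e1 : g.s i = g.s j := by
    have e2 := congrArg (fun x => ∑ l, x l) e
    simp only [ee, Pi.sub_apply, Finset.sum_sub_distrib, Finset.sum_pi_single', Finset.mem_univ, if_true, sub_self] at e2
    exact Units.ext (sub_eq_zero.1 e2)
  refine ⟨e1, ?_⟩
  rw [← e1] at e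
  rcases Int.units_eq_one_or (g.s i) with e2 | e2
  · rw [e2] at e
    exact Or.inl ⟨e2, ee_inj h e.symm⟩
  · rw [e2, Units.val_neg, Units.val_one, Pi.single_neg, Pi.single_neg, neg_sub_neg] at e
    exact Or.inr ⟨e2, ee_inj h e.symm⟩

open scoped Classical in
/-- the blocks inside `O` -/
noncomputable def bO (blk : Fin n → ℕ) (O : Fin n → Prop) (i : Fin n) : ℕ := if O i then 2 * blk i else 2 * i + 1

theorem bO_ne (hb : ∀ i, blk i ≠ 0) (O : Fin n → Prop) (i : Fin n) : bO blk O i ≠ 0 := by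
  have := hb i
  unfold bO
  split_ifs <;> omega

theorem mem_bO (hb : ∀ i, blk i ≠ 0) {O : Fin n → Prop}
    {a : Vec (Fin n) × Vec (Fin n)} :
    a ∈ std .D (bO blk O) ↔ ∃ i j, i ≠ j ∧ blk i = blk j ∧ O i ∧ O j ∧ a = (ee i j, ee i j) := by
  rw [mem_std (bO_ne hb O)]
  refine exists_congr fun i => exists_congr fun j => ⟨fun ⟨h1, h2, h3⟩ => ?_, fun ⟨h1, h2, h3, h4, h5⟩ => ⟨h1, ?_, h5⟩⟩
  · have h4 : (i : ℕ) ≠ j := fun e => h1 (Fin.ext e)
    unfold bO at h2
    split_ifs at h2 with a b <;> first | omega | exact ⟨h1, by omega, a, b, h3⟩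
  · unfold bO
    rw [if_pos h3, if_pos h4, h2]

end Std

/-- the part of a system which corresponds to a subset -/
theorem iso_sub {R R' : Type} [Fintype R] [Fintype R'] {Ψ : RS R} {Ψ' S : RS R'} (φ : Ψ ≃ Ψ')
    (h : ∀ a b, (φ a).1.1 ⬝ᵥ (φ b).1.2 = a.1.1 ⬝ᵥ b.1.2) (hS : S ⊆ Ψ') : Iso {a | ∃ e : a ∈ Ψ, (φ ⟨a, e⟩).1 ∈ S} S :=
  ⟨{ toFun := fun a => ⟨(φ ⟨a.1, a.2.1⟩).1, a.2.2⟩
     invFun := fun b => ⟨(φ.symm ⟨b.1, hS b.2⟩).1, (φ.symm ⟨b.1, hS b.2⟩).2, by simp⟩
     left_inv := fun a => by simp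
     right_inv := fun b => by simp }, fun a b => h _ _⟩

end Cfsg.Agent.HZ.L.X.TA
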